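import Cfsg.Agent.RankTwoClose.UFive.Struct

/-!
# Closing of the type `U₅(q)`: `(n1 T n1⁻¹) Q2 = U`
-/

set_option autoImplicit false

namespace Cfsg.Agent.RankTwoClose.UFive

open Subgroup Cfsg.Agent.Omega.BTwo

section Gen

variable {G : Type*} [Group G]

theorem exists_of_mem_sup {A B : Subgroup G} (h : A ≤ normalizer (B : Set G)) {x : G} (hx : x ∈ A ⊔ B) :
    ∃ a ∈ A, ∃ b ∈ B, x = a * b := by
  let S : Subgroup G :=
    { carrier := {x | ∃ a ∈ A, ∃ b ∈ B, x = a * b}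
      one_mem' := ⟨1, one_mem _, 1, one_mem _, by rw [one_mul]⟩
      mul_mem' := by
        rintro _ _ ⟨a, ha, b, hb, rfl⟩ ⟨c, hc, d, hd, rfl⟩
        refine ⟨a * c, mul_mem ha hc, (c⁻¹ * b * c) * d,
          mul_mem (conj_inv_mem_of_normalizer (h hc) hb) hd, by group⟩
      inv_mem' := by
        rintro _ ⟨a, ha, b, hb, rfl⟩
        refine ⟨a⁻¹, inv_mem ha, a * b⁻¹ * a⁻¹, conj_mem_of_normalizer (h ha) (inv_mem hb), by group⟩ }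
  have h1 : A ⊔ B ≤ S := sup_le (fun a ha => ⟨a, ha, 1, one_mem _, by rw [mul_one]⟩)
    (fun b hb => ⟨1, one_mem _, b, hb, by rw [one_mul]⟩)
  exact h1 hx

theorem le_normalizer_sup' {K A B : Subgroup G} (hA : K ≤ normalizer (A : Set G)) (hB : K ≤ normalizer (B : Set G)) :
    K ≤ normalizer ((A ⊔ B : Subgroup G) : Set G) := by
  intro k hk
  rw [← cj_eq_self_iff, cj_sup, cj_eq_self_iff.2 (hA hk), cj_eq_self_iff.2 (hB hk)]

theorem le_normalizer_inf' {K A B : Subgroup G} (hA : K ≤ normalizer (A : Set G)) (hB : K ≤ normalizer (B : Set G)) :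
    K ≤ normalizer ((A ⊓ B : Subgroup G) : Set G) := by
  intro k hk
  rw [← cj_eq_self_iff, cj_inf, cj_eq_self_iff.2 (hA hk), cj_eq_self_iff.2 (hB hk)]

theorem mem_normalizer_sup {k : G} {A B : Subgroup G} (hA : k ∈ normalizer (A : Set G)) (hB : k ∈ normalizer (B : Set G)) :
    k ∈ normalizer ((A ⊔ B : Subgroup G) : Set G) := by
  rw [← cj_eq_self_iff, cj_sup, cj_eq_self_iff.2 hA, cj_eq_self_iff.2 hB]

/-- `H` normalises conjugates by elements of `N(H)` -/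
theorem le_normalizer_cj {H K : Subgroup G} {n : G} (hn : n ∈ normalizer (H : Set G))
    (hK : H ≤ normalizer (K : Set G)) : H ≤ normalizer (cj n K : Set G) := by
  intro h hh
  rw [← cj_eq_self_iff, ← cj_mul]
  have h1 : n⁻¹ * h * n ∈ H := conj_inv_mem_of_normalizer hn hh
  have e : h * n = n * (n⁻¹ * h * n) := by group
  rw [e, cj_mul, cj_eq_self_iff.2 (hK h1)]

theorem comm_central {A : Type*} [Group A] {k l a b : A} (hk : ∀ x : A, k * x = x * k) (hl : ∀ x : A, l * x = x * l) :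
    k * a * (l * b) * (k * a)⁻¹ * (l * b)⁻¹ = a * b * a⁻¹ * b⁻¹ := by
  calc k * a * (l * b) * (k * a)⁻¹ * (l * b)⁻¹ = k * (a * l) * b * a⁻¹ * k⁻¹ * b⁻¹ * l⁻¹ := by group
    _ = k * (l * a) * b * a⁻¹ * k⁻¹ * b⁻¹ * l⁻¹ := by rw [hl a]
    _ = (k * (l * (a * b * a⁻¹))) * k⁻¹ * b⁻¹ * l⁻¹ := by group
    _ = ((l * (a * b * a⁻¹)) * k) * k⁻¹ * b⁻¹ * l⁻¹ := by rw [hk]
    _ = (l * (a * b * a⁻¹ * b⁻¹)) * l⁻¹ := by group
    _ = ((a * b * a⁻¹ * b⁻¹) * l) * l⁻¹ := by rw [hl]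
    _ = a * b * a⁻¹ * b⁻¹ := by group

end Gen

namespace Inp

variable {G : Type*} [Group G] {q : ℕ} {L1 L2 U Q1 Q2 V Y Z H : Subgroup G} {n1 n2 : G}
  (I : Inp q L1 L2 U Q1 Q2 V Y Z H n1 n2)

include I

theorem H_T : H ≤ normalizer (TT Q2 V n2 : Set G) := by
  have h1 : H ≤ normalizer ((V ⊔ cj n2 V : Subgroup G) : Set G) :=
    le_normalizer_sup' I.H_V (le_normalizer_cj I.n2_H I.H_V)
  exact le_normalizer_inf' I.H_Q2 (h1.trans (normalizer_le_normalizer_centralizer _))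

theorem V_Q2n : V ≤ normalizer (Q2 : Set G) := I.V_U.trans I.U_Q2

theorem V_T_n : V ≤ normalizer (TT Q2 V n2 : Set G) := by
  intro v hv
  rw [mem_normalizer_iff]
  intro t
  constructor
  · intro ht
    rw [(mem_TT.1 ht).2.1 v hv, mul_inv_cancel_right]
    exact ht
  · intro ht
    have h1 := (mem_TT.1 ht).2.1 v hv
    have e : t = v⁻¹ * (v * t * v⁻¹) * v := by group
    have h2 : v⁻¹ * (v * t * v⁻¹) * v = v * t * v⁻¹ := by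
      rw [mul_assoc, ← h1, inv_mul_cancel_left]
    rw [e, h2]
    exact ht

theorem mem_VT {x : G} (hx : x ∈ V ⊔ TT Q2 V n2) : ∃ v ∈ V, ∃ t ∈ TT Q2 V n2, x = v * t :=
  exists_of_mem_sup I.V_T_n hx

theorem VT_Q1 : V ⊔ TT Q2 V n2 ≤ Q1 := sup_le I.V_Q1 I.T_Q1

theorem V_Ubar {u v : G} (hu : u ∈ U) (hv : v ∈ V ⊔ Q2) : u * v * u⁻¹ * v⁻¹ ∈ Q2 := by
  obtain ⟨w, hw, x, hx, rfl⟩ := exists_of_mem_sup I.V_Q2n hv
  have h1 : u * w * u⁻¹ * w⁻¹ ∈ Q2 := I.Y_Q2 (I.VU u hu w hw)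
  have h2 : w * (u * x * u⁻¹ * x⁻¹) * w⁻¹ ∈ Q2 :=
    conj_mem_of_normalizer (I.V_Q2n hw) (mul_mem (conj_mem_of_normalizer (I.U_Q2 hu) hx) (inv_mem hx))
  have e : u * (w * x) * u⁻¹ * (w * x)⁻¹ = (u * w * u⁻¹ * w⁻¹) * (w * (u * x * u⁻¹ * x⁻¹) * w⁻¹) := by group
  rw [e]
  exact mul_mem h1 h2

/-- an element of the torus that is trivial on `U/VQ2` is trivial on `V/Y` -/
theorem triv {h : G} (hh : h ∈ normalizer (U : Set G)) (hQ : h ∈ normalizer (Q2 : Set G)) (hV : h ∈ normalizer (V : Set G))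
    (ht : ∀ u ∈ U, h * u * h⁻¹ * u⁻¹ ∈ V ⊔ Q2) :
    ∀ v ∈ V, h * v * h⁻¹ * v⁻¹ ∈ Y := by
  let S : Subgroup G :=
    { carrier := {w | w ∈ U ∧ h * w * h⁻¹ * w⁻¹ ∈ Q2}
      one_mem' := ⟨one_mem _, by
        have : h * 1 * h⁻¹ * 1⁻¹ = 1 := by group
        rw [this]; exact one_mem _⟩
      mul_mem' := by
        rintro x y ⟨hx1, hx2⟩ ⟨hy1, hy2⟩
        refine ⟨mul_mem hx1 hy1, ?_⟩
        have e : h * (x * y) * h⁻¹ * (x * y)⁻¹ = (h * x * h⁻¹ * x⁻¹) * (x * (h * y * h⁻¹ * y⁻¹) * x⁻¹) := by group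
        rw [e]
        exact mul_mem hx2 (conj_mem_of_normalizer (I.U_Q2 hx1) hy2)
      inv_mem' := by
        rintro x ⟨hx1, hx2⟩
        refine ⟨inv_mem hx1, ?_⟩
        have e : h * x⁻¹ * h⁻¹ * x⁻¹⁻¹ = x⁻¹ * (h * x * h⁻¹ * x⁻¹)⁻¹ * x⁻¹⁻¹ := by group
        rw [e]
        exact conj_mem_of_normalizer (I.U_Q2 (inv_mem hx1)) (inv_mem hx2) }
  have hQ2 : Q2 ≤ S := fun x hx =>
    ⟨I.Q2_U hx, mul_mem (conj_mem_of_normalizer hQ hx) (inv_mem hx)⟩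
  -- the quotient `U/Q2`
  have hN : (Q2.subgroupOf U).Normal := Subgroup.normal_subgroupOf_of_le_normalizer I.U_Q2
  have hcom : ⁅U, U⁆ ≤ S := by
    rw [commutator_le]
    intro a ha b hb
    rw [commutatorElement_def]
    refine ⟨mul_mem (mul_mem (mul_mem ha hb) (inv_mem ha)) (inv_mem hb), ?_⟩
    have ha' : h * a * h⁻¹ ∈ U := conj_mem_of_normalizer hh ha
    have hb' : h * b * h⁻¹ ∈ U := conj_mem_of_normalizer hh hb
    obtain ⟨k, hk, ek⟩ : ∃ k : U, (k : G) ∈ V ⊔ Q2 ∧ h * a * h⁻¹ = k * a :=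
      ⟨⟨h * a * h⁻¹ * a⁻¹, mul_mem ha' (inv_mem ha)⟩, ht a ha, by group⟩
    obtain ⟨l, hl, el⟩ : ∃ k : U, (k : G) ∈ V ⊔ Q2 ∧ h * b * h⁻¹ = k * b :=
      ⟨⟨h * b * h⁻¹ * b⁻¹, mul_mem hb' (inv_mem hb)⟩, ht b hb, by group⟩
    have hcen : ∀ k : U, (k : G) ∈ V ⊔ Q2 → ∀ x : U ⧸ Q2.subgroupOf U,
        QuotientGroup.mk' (Q2.subgroupOf U) k * x = x * QuotientGroup.mk' (Q2.subgroupOf U) k := by
      intro k hk x
      obtain ⟨u, rfl⟩ := QuotientGroup.mk'_surjective _ x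
      rw [← map_mul, ← map_mul]
      apply Eq.symm
      apply QuotientGroup.eq.2
      rw [mem_subgroupOf]
      have h1 := inv_mem (I.V_Ubar (inv_mem u.2) (inv_mem hk))
      have e : ((u : G)⁻¹ * (k : G)⁻¹ * (u : G)⁻¹⁻¹ * (k : G)⁻¹⁻¹)⁻¹ = (k : G)⁻¹ * (u : G)⁻¹ * k * u := by group
      rw [e] at h1
      have e2 : (((u * k : U)⁻¹ * (k * u) : U) : G) = (k : G)⁻¹ * (u : G)⁻¹ * k * u := by
        push_cast; group
      rw [e2]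
      exact h1
    have h1 := comm_central (a := QuotientGroup.mk' (Q2.subgroupOf U) ⟨a, ha⟩)
      (b := QuotientGroup.mk' (Q2.subgroupOf U) ⟨b, hb⟩) (hcen k hk) (hcen l hl)
    simp only [← map_mul, ← map_inv] at h1
    have h2 := QuotientGroup.eq.1 h1.symm
    rw [mem_subgroupOf] at h2
    push_cast at h2
    have h3 := conj_mem_of_normalizer (I.U_Q2 (mul_mem (mul_mem (mul_mem ha hb) (inv_mem ha)) (inv_mem hb))) h2
    have e : h * (a * b * a⁻¹ * b⁻¹) * h⁻¹ * (a * b * a⁻¹ * b⁻¹)⁻¹ =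
        (h * a * h⁻¹) * (h * b * h⁻¹) * (h * a * h⁻¹)⁻¹ * (h * b * h⁻¹)⁻¹ * (a * b * a⁻¹ * b⁻¹)⁻¹ := by group
    rw [e, ek, el]
    have e2 : a * b * a⁻¹ * b⁻¹ * ((a * b * a⁻¹ * b⁻¹)⁻¹ * (↑k * a * (↑l * b) * (↑k * a)⁻¹ * (↑l * b)⁻¹)) *
        (a * b * a⁻¹ * b⁻¹)⁻¹ = ↑k * a * (↑l * b) * (↑k * a)⁻¹ * (↑l * b)⁻¹ * (a * b * a⁻¹ * b⁻¹)⁻¹ := by group
    rw [e2] at h3
    exact h3
  intro v hv
  have h1 : v ∈ S := (sup_le hcom hQ2) (I.V_com hv)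
  have h2 : h * v * h⁻¹ * v⁻¹ ∈ V := mul_mem (conj_mem_of_normalizer hV hv) (inv_mem hv)
  exact I.VQ ⟨h2, h1.2⟩

variable [Finite G]

/-- `Q1 ∩ V Q2 = V T` -/
theorem VT_eq : V ⊔ TT Q2 V n2 = Q1 ⊓ (V ⊔ Q2) := by
  apply le_antisymm
  · exact le_inf I.VT_Q1 (sup_le_sup_left I.T_Q2 _)
  · rintro x ⟨hx1, hx2⟩
    obtain ⟨v, hv, w, hw, rfl⟩ := exists_of_mem_sup I.V_Q2n hx2
    have hw1 : w ∈ Q1 := by
      have := mul_mem (inv_mem (I.V_Q1 hv)) hx1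
      rwa [inv_mul_cancel_left] at this
    obtain ⟨y, hy, t, ht, rfl⟩ := I.exists_YT hw hw1
    rw [← mul_assoc]
    exact mul_mem (mem_sup_left (mul_mem hv (I.Y_V hy))) (mem_sup_right ht)

theorem U_VT : U ≤ normalizer ((V ⊔ TT Q2 V n2 : Subgroup G) : Set G) := by
  rw [I.VT_eq]
  exact le_normalizer_inf' I.U_Q1 (le_normalizer_sup' I.U_V I.U_Q2)

theorem H_VT : H ≤ normalizer ((V ⊔ TT Q2 V n2 : Subgroup G) : Set G) := le_normalizer_sup' I.H_V I.H_T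

theorem com_Q1 {u x : G} (hu : u ∈ U) (hx : x ∈ Q1) : u * x * u⁻¹ * x⁻¹ ∈ V ⊔ TT Q2 V n2 := by
  rw [I.VT_eq]
  have h1 : u * x * u⁻¹ * x⁻¹ ∈ Q1 := mul_mem (conj_mem_of_normalizer (I.U_Q1 hu) hx) (inv_mem hx)
  exact ⟨h1, I.comU u hu x (I.Q1_U hx)⟩

theorem cj_T_Q1 : cj n1 (TT Q2 V n2) ≤ Q1 := by
  rw [← I.cj_n1_Q1]
  exact cj_mono I.T_Q1

theorem V_le_cj : V ≤ cj n1 (TT Q2 V n2) ⊔ Q2 :=
  I.VZ.trans (sup_le (I.Y_Q2.trans le_sup_right) ((cj_mono I.Z_T).trans le_sup_left))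

/-- **`(n1 T n1⁻¹) Q2 = U`** -/
theorem cj_T_sup : cj n1 (TT Q2 V n2) ⊔ Q2 = U := by
  have h0 : V ⊔ Q2 ≤ cj n1 (TT Q2 V n2) ⊔ Q2 := sup_le I.V_le_cj le_sup_right
  rcases I.irrU _ h0 (sup_le (I.cj_T_Q1.trans I.Q1_U) I.Q2_U)
    (le_normalizer_sup' (le_normalizer_cj I.n1_H I.H_T) I.H_Q2) with h | h
  · exfalso
    -- `n1` normalises `V T`
    have h1 : cj n1 (TT Q2 V n2) ≤ V ⊔ TT Q2 V n2 := by
      rw [I.VT_eq]
      exact le_inf I.cj_T_Q1 (le_sup_left.trans h.le)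
    have h2 : n1 ∈ normalizer ((V ⊔ TT Q2 V n2 : Subgroup G) : Set G) := by
      rw [← cj_eq_self_iff]
      refine eq_of_le_of_card_ge ?_ (card_cj _ _).ge
      rw [cj_sup, I.cj_n1_V]
      exact sup_le le_sup_left h1
    -- `L1` centralises `Q1/VT`
    let S : Subgroup G :=
      { carrier := {g | (g ∈ normalizer (Q1 : Set G) ∧ g ∈ normalizer ((V ⊔ TT Q2 V n2 : Subgroup G) : Set G)) ∧
          ∀ x ∈ Q1, g * x * g⁻¹ * x⁻¹ ∈ V ⊔ TT Q2 V n2}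
        one_mem' := ⟨⟨one_mem _, one_mem _⟩, fun x _ => by
          have : (1 : G) * x * 1⁻¹ * x⁻¹ = 1 := by group
          rw [this]; exact one_mem _⟩
        mul_mem' := by
          rintro a b ⟨⟨ha1, ha2⟩, ha3⟩ ⟨⟨hb1, hb2⟩, hb3⟩
          refine ⟨⟨mul_mem ha1 hb1, mul_mem ha2 hb2⟩, fun x hx => ?_⟩
          have e : a * b * x * (a * b)⁻¹ * x⁻¹ = (a * (b * x * b⁻¹) * a⁻¹ * (b * x * b⁻¹)⁻¹) * (b * x * b⁻¹ * x⁻¹) := by
            group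
          rw [e]
          exact mul_mem (ha3 _ (conj_mem_of_normalizer hb1 hx)) (hb3 x hx)
        inv_mem' := by
          rintro a ⟨⟨ha1, ha2⟩, ha3⟩
          refine ⟨⟨inv_mem ha1, inv_mem ha2⟩, fun x hx => ?_⟩
          have h3 := inv_mem (ha3 _ (conj_inv_mem_of_normalizer ha1 hx))
          have e : (a * (a⁻¹ * x * a) * a⁻¹ * (a⁻¹ * x * a)⁻¹)⁻¹ = a⁻¹ * x * a⁻¹⁻¹ * x⁻¹ := by group
          rwa [e] at h3 }
    have hU : U ≤ S := fun u hu => ⟨⟨I.U_Q1 hu, I.U_VT hu⟩, fun x hx => I.com_Q1 hu hx⟩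
    have hU' : cj n1 U ≤ S := by
      rintro _ ⟨u, hu, rfl⟩
      change n1 * u * n1⁻¹ ∈ S
      refine ⟨⟨mul_mem (mul_mem I.n1_Q1 (I.U_Q1 hu)) (inv_mem I.n1_Q1),
        mul_mem (mul_mem h2 (I.U_VT hu)) (inv_mem h2)⟩, fun x hx => ?_⟩
      have h3 := conj_mem_of_normalizer h2 (I.com_Q1 hu (conj_inv_mem_of_normalizer I.n1_Q1 hx))
      have e : n1 * (u * (n1⁻¹ * x * n1) * u⁻¹ * (n1⁻¹ * x * n1)⁻¹) * n1⁻¹ =
        n1 * u * n1⁻¹ * x * (n1 * u * n1⁻¹)⁻¹ * x⁻¹ := by group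
      rwa [e] at h3
    have hL : L1 ≤ S := I.gen1.trans (sup_le hU hU')
    -- the torus of `L1` is trivial on `U/VQ2`
    have hV : V ≤ Y := by
      intro v hv
      refine I.fixVY v hv fun h hh => ?_
      refine I.triv (I.H_U hh.1) (I.H_Q2 hh.1) (I.H_V hh.1) (fun u hu => ?_) v hv
      rw [← I.Q_sup] at hu
      obtain ⟨y, hy, x, hx, rfl⟩ := exists_of_mem_sup (I.Q2_U.trans I.U_Q1) hu
      have h3 := (hL hh.2).2 x hx
      have h4 : h * y * h⁻¹ * y⁻¹ ∈ Q2 := mul_mem (conj_mem_of_normalizer (I.H_Q2 hh.1) hy) (inv_mem hy)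
      have e : h * (y * x) * h⁻¹ * (y * x)⁻¹ = (h * y * h⁻¹ * y⁻¹) * (y * (h * x * h⁻¹ * x⁻¹) * y⁻¹) := by group
      rw [e]
      refine mul_mem (mem_sup_right h4) ?_
      have h5 : h * x * h⁻¹ * x⁻¹ ∈ V ⊔ Q2 := (sup_le_sup_left I.T_Q2 V) h3
      exact conj_mem_of_normalizer (le_normalizer (mem_sup_right hy)) h5
    have h3 := Subgroup.card_le_of_le hV
    rw [I.card_V, I.card_Y, pow_succ] at h3
    have h4 := Nat.le_of_mul_le_mul_left (h3.trans (mul_one _).ge) (pow_pos I.q_pos 3)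
    have := I.q4
    omega
  · exact h

end Inp

end Cfsg.Agent.RankTwoClose.UFive
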