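import Cfsg.Agent.RankTwoClose.UFive.Order

/-!
# Closing of the type `U₅(q)`: `[n1 T n1⁻¹, n2 Y n2⁻¹] Y = Q1 ∩ Q2`
-/

set_option autoImplicit false
set_option linter.unusedSectionVars false

namespace Cfsg.Agent.RankTwoClose.UFive

open Subgroup Cfsg.Agent.Omega.BTwo
open scoped commutatorElement

namespace Inp

variable {G : Type*} [Group G] {q : ℕ} {L1 L2 U Q1 Q2 V Y Z H : Subgroup G} {n1 n2 : G}
  (I : Inp q L1 L2 U Q1 Q2 V Y Z H n1 n2) [Finite G]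

include I

local notation "𝐖" => (V ⊔ TT Q2 V n2)

/-- `H` is irreducible on `V T / V` -/
theorem irrW (M : Subgroup G) (h1 : V ≤ M) (h2 : M ≤ 𝐖) (h3 : H ≤ normalizer (M : Set G)) : M = V ∨ M = 𝐖 := by
  have hc : cj n1⁻¹ Q1 = Q1 := by rw [cj_eq_iff, inv_inv, I.cj_n1_Q1]
  have hcV : cj n1⁻¹ V = V := by rw [cj_eq_iff, inv_inv, I.cj_n1_V]
  set N := cj n1⁻¹ M with hN
  have hNQ : N ≤ Q1 := by rw [hN, ← hc]; exact cj_mono (h2.trans I.VT_Q1)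
  have hVN : V ≤ N := by rw [hN, ← hcV]; exact cj_mono h1
  have hNU : N ≤ U := hNQ.trans I.Q1_U
  have hNH : H ≤ normalizer (N : Set G) := le_normalizer_cj (inv_mem I.n1_H) h3
  rcases I.irrU (N ⊔ Q2) (sup_le_sup_right hVN Q2) (sup_le hNU I.Q2_U) (le_normalizer_sup' hNH I.H_Q2) with h | h
  · left
    refine le_antisymm ?_ h1
    have h4 : N ≤ 𝐖 := by
      rw [I.VT_eq]
      exact le_inf hNQ (le_sup_left.trans h.le)
    have h5 : M ≤ cj n1 𝐖 := by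
      have := cj_mono (g := n1) h4
      rwa [hN, cj_cj_inv] at this
    exact (le_inf h2 h5).trans I.J_eq.le
  · right
    refine le_antisymm h2 fun w hw => ?_
    -- `n1⁻¹ w n1 = m y`, `m ∈ N`, `y ∈ Q2`
    have hw1 : n1⁻¹ * w * n1 ∈ Q1 := conj_inv_mem_of_normalizer I.n1_Q1 (I.VT_Q1 hw)
    have hw2 : n1⁻¹ * w * n1 ∈ N ⊔ Q2 := by rw [h]; exact I.Q1_U hw1
    obtain ⟨m, hm, y, hy, e⟩ := exists_of_mem_sup (hNU.trans I.U_Q2) hw2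
    have hy1 : y ∈ Q1 := by
      have := mul_mem (inv_mem (hNQ hm)) hw1
      rwa [e, inv_mul_cancel_left] at this
    have hyW := I.YT_le hy1 hy
    have hm' : n1 * m * n1⁻¹ ∈ M := by
      rw [hN, mem_cj] at hm
      have e2 : n1⁻¹⁻¹ * m * n1⁻¹ = n1 * m * n1⁻¹ := by group
      rwa [e2] at hm
    have hy' : n1 * y * n1⁻¹ ∈ V := by
      rw [← I.J_eq]
      refine mem_inf.2 ⟨?_, conj_mem_cj hyW⟩
      have e2 : n1 * y * n1⁻¹ = (n1 * m * n1⁻¹)⁻¹ * w := by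
        have e3 : w = n1 * (n1⁻¹ * w * n1) * n1⁻¹ := by group
        rw [e3, e]; group
      rw [e2]
      exact mul_mem (inv_mem (h2 hm')) hw
    have e3 : w = (n1 * m * n1⁻¹) * (n1 * y * n1⁻¹) := by
      have e3 : w = n1 * (n1⁻¹ * w * n1) * n1⁻¹ := by group
      rw [e3, e]; group
    rw [e3]
    exact mul_mem hm' (h1 hy')

theorem H_E : H ≤ normalizer (cj n1 (TT Q2 V n2) : Set G) := le_normalizer_cj I.n1_H I.H_T

theorem H_F : H ≤ normalizer (cj n2 Y : Set G) := le_normalizer_cj I.n2_H I.H_Y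

/-- `U` is not trivial on `Q1/V` -/
theorem not_com : ¬ ∀ u ∈ U, ∀ x ∈ Q1, u * x * u⁻¹ * x⁻¹ ∈ V := by
  intro h
  have hU : U ≤ trivOn L1 Q1 V I.L1_Q1 := fun u hu => ⟨I.U_L1 hu, h u hu⟩
  have hL : L1 ≤ trivOn L1 Q1 V I.L1_Q1 := by
    refine I.gen1.trans (sup_le hU ?_)
    rw [cj_le_iff]
    intro u hu
    exact trivOn_normal I.L1_V I.n1_mem (hU hu)
  have h1 : Q1 ≤ V := fun x hx => I.fixQV hx fun a ha => (hL ha.2).2 x hx
  have h2 := Subgroup.card_le_of_le h1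
  rw [I.card_Q1, I.card_V] at h2
  have := I.q4
  have h6 : q ^ 4 < q ^ 8 := Nat.pow_lt_pow_right (by omega) (by omega)
  omega

theorem F_Q2 : cj n2 Y ≤ Q2 := I.cj_Y_Q2

/-- `[E, F] ≤ Q1 ∩ Q2` -/
theorem EF_le : ⁅cj n1 (TT Q2 V n2), cj n2 Y⁆ ≤ Q1 ⊓ Q2 := by
  rw [commutator_le]
  intro e he f hf
  rw [commutatorElement_def]
  refine mem_inf.2 ⟨?_, ?_⟩
  · have h1 := conj_mem_of_normalizer (I.U_Q1 (I.cj_Y_U hf)) (inv_mem (I.cj_T_Q1 he))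
    have e1 : e * f * e⁻¹ * f⁻¹ = e * (f * e⁻¹ * f⁻¹) := by group
    rw [e1]
    exact mul_mem (I.cj_T_Q1 he) h1
  · exact mul_mem (conj_mem_of_normalizer (I.U_Q2 (I.Q1_U (I.cj_T_Q1 he))) (I.cj_Y_Q2 hf)) (inv_mem (I.cj_Y_Q2 hf))

/-- **`[E, F] Y = Q1 ∩ Q2`**, `E = n1 T n1⁻¹`, `F = n2 Y n2⁻¹` -/
theorem EF_eq : ⁅cj n1 (TT Q2 V n2), cj n2 Y⁆ ⊔ Y = Q1 ⊓ Q2 := by
  apply le_antisymm
  · exact sup_le I.EF_le (le_inf (I.Y_V.trans I.V_Q1) I.Y_Q2)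
  have hW : V ⊔ ⁅cj n1 (TT Q2 V n2), cj n2 Y⁆ ≤ 𝐖 :=
    sup_le le_sup_left fun x hx => I.YT_le (I.EF_le hx).1 (I.EF_le hx).2
  have hH : H ≤ normalizer ((⁅cj n1 (TT Q2 V n2), cj n2 Y⁆ : Subgroup G) : Set G) := by
    intro h hh
    rw [← cj_eq_self_iff]
    have h1 : cj h ⁅cj n1 (TT Q2 V n2), cj n2 Y⁆ = ⁅cj h (cj n1 (TT Q2 V n2)), cj h (cj n2 Y)⁆ :=
      map_commutator _ _ _
    rw [h1, cj_eq_self_iff.2 (I.H_E hh), cj_eq_self_iff.2 (I.H_F hh)]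
  rcases I.irrW _ le_sup_left hW (le_normalizer_sup' I.H_V hH) with h | h
  · exfalso
    apply I.not_com
    have hEF : ∀ e ∈ cj n1 (TT Q2 V n2), ∀ f ∈ cj n2 Y, f * e * f⁻¹ * e⁻¹ ∈ V := by
      intro e he f hf
      have h1 : ⁅e, f⁆ ∈ V := by
        rw [← h]
        exact mem_sup_right (commutator_mem_commutator he hf)
      have h2 := inv_mem h1
      rwa [commutatorElement_inv, commutatorElement_def] at h2
    intro u hu x hx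
    obtain ⟨f, hf, y, hy, rfl⟩ := I.exists_mul hu
    obtain ⟨e, he, w, hw, rfl⟩ := I.exists_EW hx
    -- `f` on `e w`
    have hfU := I.cj_Y_U hf
    have h1 : ∀ z ∈ Q1, f * z * f⁻¹ * z⁻¹ ∈ V := by
      intro z hz
      obtain ⟨e, he, w, hw, rfl⟩ := I.exists_EW hz
      have e1 : f * (e * w) * f⁻¹ * (e * w)⁻¹ = (f * e * f⁻¹ * e⁻¹) * (e * (f * w * f⁻¹ * w⁻¹) * e⁻¹) := by group
      rw [e1]
      exact mul_mem (hEF e he f hf) (conj_mem_of_normalizer (I.U_V (I.Q1_U (I.cj_T_Q1 he))) (I.f_W hf hw))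
    have hz : y * (e * w) * y⁻¹ ∈ Q1 := mul_mem (mul_mem hy hx) (inv_mem hy)
    have e2 : f * y * (e * w) * (f * y)⁻¹ * (e * w)⁻¹ =
      (f * (y * (e * w) * y⁻¹) * f⁻¹ * (y * (e * w) * y⁻¹)⁻¹) * (y * (e * w) * y⁻¹ * (e * w)⁻¹) := by group
    rw [e2]
    exact mul_mem (h1 _ hz) (I.Q1_Q1' hy hx)
  · rintro x ⟨hx1, hx2⟩
    obtain ⟨y, hy, t, ht, rfl⟩ := I.exists_YT hx2 hx1
    refine mul_mem (mem_sup_right hy) ?_
    have h1 : t ∈ V ⊔ ⁅cj n1 (TT Q2 V n2), cj n2 Y⁆ := by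
      rw [h]
      exact mem_sup_right ht
    have h2 : ⁅cj n1 (TT Q2 V n2), cj n2 Y⁆ ≤ normalizer (V : Set G) := fun c hc =>
      I.U_V (I.Q1_U (I.EF_le hc).1)
    rw [sup_comm] at h1
    obtain ⟨c, hc, v, hv, rfl⟩ := exists_of_mem_sup h2 h1
    refine mul_mem (mem_sup_left hc) (mem_sup_right (I.VQ (mem_inf.2 ⟨hv, ?_⟩)))
    have := mul_mem (inv_mem (mem_inf.1 (I.EF_le hc)).2) ht.1
    rwa [inv_mul_cancel_left] at this

end Inp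

end Cfsg.Agent.RankTwoClose.UFive
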