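import Cfsg.Agent.RankTwoClose.UFive.Known
import Cfsg.Agent.Omega.Node.EndMinusQ

/-!
# The end `dim Φ = 1` of type (β): `U₅(q)`

`endOne` : `EndQ.EndOne` of `Omega/Node/EndMinusQ.lean`.
-/

set_option autoImplicit false

open Subgroup

universe u

namespace Cfsg.Agent.RankTwoClose.UFive.EndOne

open Cfsg.Agent.Omega Cfsg.Agent.Omega.NO1.EndQ Cfsg.Agent.Omega.NOne.SU

/-- `Ext` from the data of type (β) -/
theorem ext_of {G : Type u} [Group G] [Finite G] {k F : Type} [Field k] [Field F] [Algebra k F] {T : Quad k F}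
    {S : Sylow 2 G} {I : Type u} {V : Subgroup G} {Rf Qf : I → Subgroup G} {i j : I} {v : k → F → k → G}
    {p p' : G → F} {Φ : Type u} [AddCommGroup Φ] [Module F Φ] {φ χ : G → Φ} {hm : Φ → Φ → F}
    {W : Type u} [AddCommGroup W] [Module F W] {w : G → W} {g : W → W → F} {f₀ : W} {ι : Φ →ₗ[F] W}
    (D : Dat T S V Rf Qf i j v p p' φ χ hm w g f₀ ι) : Ext V (Rf i) (Qf i) (Qf j) p' where
  p'_surj := D.X.p'_surj
  sw := by
    obtain ⟨n, hn, h3, -, -⟩ := D.X.swap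
    exact ⟨n, hn, h3⟩
  MX := D.D.mx

/-- **`EndOne`**: `dim Φ = 1`. -/
theorem endOne (hB : RootLemma.Bender.{u}) (h44 : Exits.St1144.{u}) : NO1.EndQ.EndOne.{u} := by
  intro G _ _ k F _ _ _ T S I V Rf Qf i j v p p' Φ _ _ φ χ hm W _ _ w g f₀ ι D h1
  exact Known.known_of_out h44 hB D.ctx.simple D.ctx.nonComm D.ctx.char2 D.D.g D.D.f (ext_of D) D.o h1 D.top

end Cfsg.Agent.RankTwoClose.UFive.EndOne
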