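import Cfsg.Agent.RankTwoClose.UFive.LSide
import Cfsg.Agent.RankTwoClose.XSide.Fields
import Cfsg.Agent.RankTwoClose.QInEnd

/-!
# `U₅(q)`: the two sides together

`qin` : `LSide` + `XFields` + a central element `z₀` of `S` in `R` with `O₂(C(z₀))` self-centralising ⟹
`QInput.QIn`; so `⟨L, X⟩` has a split `BN`-pair of rank two (`exists_split`).
`NR_le`, `NV_le` : `N(R)` and `N(V)` normalise `⟨L, X⟩`.
-/

set_option autoImplicit false
set_option linter.unusedSectionVars false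

open Subgroup

universe u

namespace Cfsg.Agent.RankTwoClose.UFive.Glue

open Cfsg.Agent.RankTwoClose.UFour Cfsg.Agent.RankTwoClose.QInput Cfsg.Agent.Omega.RootLemma
open Cfsg.Agent.RankTwoClose.UFive.LSide Cfsg.Agent.RankTwoClose.XSide

/-- `O₂(C(z))` contains its centraliser -/
def Char2At {G : Type u} [Group G] (z : G) : Prop :=
  ∃ N : Subgroup G, (∀ x ∈ N, x * z = z * x) ∧ IsPGroup 2 N ∧
    (∀ d, d * z = z * d → ∀ x ∈ N, d * x * d⁻¹ ∈ N) ∧
    (∀ d, d * z = z * d → (∀ x ∈ N, d * x = x * d) → d ∈ N)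

section sides

variable {G : Type u} [Group G] {S : Sylow 2 G} {L X U Q O V R A : Subgroup G} {n₀ m₀ w₀ : G}
  (l : LSide S L U Q V R A n₀ w₀) (x : XFields X U Q O V R m₀)
include l x

theorem L_NR : L ≤ normalizer (R : Set G) := by
  have _ := x
  intro g hg
  rw [mem_normalizer_iff]
  have h1 : ∀ z ∈ R, g * z * g⁻¹ = z := fun z hz => by rw [l.LR g hg z hz]; group
  intro z
  constructor
  · intro hz; rw [h1 z hz]; exact hz
  · intro hz
    have h2 := l.LR g hg _ hz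
    have h3 : z = g * z * g⁻¹ := by
      calc z = g⁻¹ * (g * z * g⁻¹ * g) := by group
        _ = g⁻¹ * (g * (g * z * g⁻¹)) := by rw [h2]
        _ = _ := by group
    rw [h3]; exact hz

/-- `N(R) ∩ N(U)` normalises `X` -/
theorem LX {g : G} (hg : g ∈ normalizer (R : Set G)) (hU : cj g U = U) : cj g X = X :=
  mem_norm_iff.1 (x.NX (mem_norm_iff.2 (l.NV g hg hU)))

theorem qin {z₀ : G} (hz : z₀ ∈ R) (hz1 : z₀ ≠ 1) (hzS : ∀ s ∈ S, s * z₀ = z₀ * s) (hc : Char2At z₀) :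
    QIn S L X U Q O V R A n₀ m₀ z₀ w₀ where
  aL := l.aL
  aX := x.aX
  sL := l.sL
  sX := x.sX
  US := l.US
  SL := l.SL
  LX g hg hU := LX l x (L_NR l x hg) hU
  LV := l.LV
  XL g hg hU := mem_norm_iff.1 (l.NL (x.XR g (x.XV hg) hU))
  RV := x.RV
  VU := x.VU
  XV := x.XV
  OV := x.OV
  CO := x.CO
  LR := l.LR
  comm := l.comm
  sq := l.sq
  irr := l.irr
  QQ := x.QQ
  RQ := x.RQ
  VR := x.VR
  cE := x.cE
  opp := l.opp
  cD := l.cD
  ruling := l.ruling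
  AL := l.AL
  AU := l.AU
  Aodd := l.Aodd
  Aab := l.Aab
  AB := l.AB
  wQ := l.wQ
  cyc := l.cyc
  cent := l.cent
  z₀R := hz
  z₀1 := hz1
  z₀S := hzS
  c2 := hc
  tr := x.tr z₀ hz hz1
  fixR := x.fixR
  pair := x.pair

/-- **`⟨L, X⟩` has a split `BN`-pair of rank two.** -/
theorem exists_split [Finite G] {z₀ : G} (hz : z₀ ∈ R) (hz1 : z₀ ≠ 1) (hzS : ∀ s ∈ S, s * z₀ = z₀ * s)
    (hc : Char2At z₀) (hB : Bender.{u}) : ∃ P : Cfsg.BNPair ↥(L ⊔ X), P.rank = 2 ∧ P.IsSplit :=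
  (qin l x hz hz1 hzS hc).exists_split hB

/-- the Frattini argument: `U` a Sylow `2`-subgroup of `Y`, `g ∈ N(Y)` -/
theorem frattini [Finite G] {Y : Subgroup G} (hU : U ≤ Y) (h2 : IsPGroup 2 U)
    (hs : ∀ P ≤ Y, IsPGroup 2 P → U ≤ P → P ≤ U) {g : G} (hg : cj g Y = Y) :
    ∃ y ∈ Y, cj (y * g) U = U := by
  have : Fact (Nat.Prime 2) := ⟨Nat.prime_two⟩
  let P : Sylow 2 Y :=
    { U.subgroupOf Y with
      isPGroup' := h2.comap_subtype
      is_maximal' := by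
        intro T hT hle
        refine le_antisymm (fun t ht => ?_) hle
        have h3 := hs (T.map Y.subtype) (by
            rintro _ ⟨y, -, rfl⟩
            exact y.2) (hT.map _) (by
            intro u hu
            exact ⟨⟨u, hU hu⟩, hle (mem_subgroupOf.2 hu), rfl⟩)
        exact mem_subgroupOf.2 (h3 ⟨t, ht, rfl⟩) }
  have hP : (P : Subgroup Y) = U.subgroupOf Y := rfl
  have hgU : cj g U ≤ Y := by rw [← hg]; exact cj_mono hU
  obtain ⟨P', hP'⟩ : ∃ P' : Sylow 2 Y, (cj g U).subgroupOf Y ≤ P' :=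
    (IsPGroup.comap_subtype (h2.map _)).exists_le_sylow
  obtain ⟨y, hy⟩ := MulAction.exists_smul_eq Y P' P
  refine ⟨y, y.2, ?_⟩
  have h3 : cj (y * g) U ≤ U := by
    intro z hz
    rw [cj_mul] at hz
    have h4 : (y : G)⁻¹ * z * y ∈ cj g U := mem_cj.1 hz
    have h5 : (⟨(y : G)⁻¹ * z * y, hgU h4⟩ : Y) ∈ P' := hP' (mem_subgroupOf.2 h4)
    have h6 : y * ⟨(y : G)⁻¹ * z * y, hgU h4⟩ * y⁻¹ ∈ P := by
      rw [← hy]
      exact Subgroup.smul_mem_pointwise_smul _ (MulAut.conj y) (P' : Subgroup Y) h5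
    have h7 : (y * ⟨(y : G)⁻¹ * z * y, hgU h4⟩ * y⁻¹ : Y) ∈ U.subgroupOf Y := h6
    have h8 := mem_subgroupOf.1 h7
    have e : ((y * ⟨(y : G)⁻¹ * z * y, hgU h4⟩ * y⁻¹ : Y) : G) = z := by
      show (y : G) * ((y : G)⁻¹ * z * y) * (y : G)⁻¹ = z
      group
    rwa [e] at h8
  exact Subgroup.eq_of_le_of_card_ge h3 (by rw [card_cj])

/-- **`N(R)` normalises `⟨L, X⟩`.** -/
theorem NR_le [Finite G] : normalizer (R : Set G) ≤ normalizer ((L ⊔ X : Subgroup G) : Set G) := by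
  intro g hg
  obtain ⟨y, hy, hyU⟩ := frattini l x l.aL.UL l.aL.two l.sL (mem_norm_iff.1 (l.NL hg))
  have h1 : y * g ∈ normalizer (R : Set G) := mul_mem (L_NR l x hy) hg
  have h2 : y * g ∈ normalizer ((L ⊔ X : Subgroup G) : Set G) := by
    rw [mem_norm_iff, cj_sup, mem_norm_iff.1 (l.NL h1), LX l x h1 hyU]
  have h3 : g = y⁻¹ * (y * g) := by group
  rw [h3]
  exact mul_mem (inv_mem (le_normalizer (mem_sup_left hy))) h2

/-- **`N(V)` normalises `⟨L, X⟩`.** -/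
theorem NV_le [Finite G] : normalizer (V : Set G) ≤ normalizer ((L ⊔ X : Subgroup G) : Set G) := by
  intro g hg
  obtain ⟨y, hy, hyU⟩ := frattini l x x.aX.UL x.aX.two x.sX (mem_norm_iff.1 (x.NX hg))
  have h1 : y * g ∈ normalizer (V : Set G) := mul_mem (x.XV hy) hg
  have h2 : y * g ∈ normalizer ((L ⊔ X : Subgroup G) : Set G) := by
    rw [mem_norm_iff, cj_sup, mem_norm_iff.1 (l.NL (x.XR _ h1 hyU)), mem_norm_iff.1 (x.NX h1)]
  have h3 : g = y⁻¹ * (y * g) := by group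
  rw [h3]
  exact mul_mem (inv_mem (le_normalizer (mem_sup_right hy))) h2

end sides

end Cfsg.Agent.RankTwoClose.UFive.Glue
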