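import Cfsg.Agent.Omega.BTwo.Conj

/-!
# Closing of the type `U₅(q)`: the input

`L1/Q1 = L₂(q²)` acts on `V` as `O₄⁻(q)`, `Z = C_V(U)`, `Y = [V, U]`; `[Z, L2] = 1`, `L2/Q2` of type `U₃(q)`.
Nothing is assumed about the orders of `Q1`, `Q2` and about the action of `L2` on `Q2/Z`.
-/

set_option autoImplicit false

namespace Cfsg.Agent.RankTwoClose.UFive

open Subgroup Cfsg.Agent.Omega.BTwo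

/-- The input. -/
structure Inp {G : Type*} [Group G] (q : ℕ) (L1 L2 U Q1 Q2 V Y Z H : Subgroup G) (n1 n2 : G) : Prop where
  q4 : 4 ≤ q
  two : IsPGroup 2 U
  U_L1 : U ≤ L1
  U_L2 : U ≤ L2
  n1_mem : n1 ∈ L1
  gen1 : L1 ≤ U ⊔ cj n1 U
  gen2 : ∀ M : Subgroup G, U ≤ M → n2 ∈ M → L2 ≤ M
  n2_L2 : n2 ∈ L2
  Q1_U : Q1 ≤ U
  Q2_U : Q2 ≤ U
  L1_Q1 : L1 ≤ normalizer (Q1 : Set G)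
  L2_Q2 : L2 ≤ normalizer (Q2 : Set G)
  L1_V : L1 ≤ normalizer (V : Set G)
  Z_Y : Z ≤ Y
  Y_V : Y ≤ V
  V_Q1 : V ≤ Q1
  V_comm : ∀ v ∈ V, ∀ x ∈ Q1, v * x = x * v
  V_sq : ∀ v ∈ V, v * v = 1
  CV : ∀ u ∈ U, (∀ v ∈ V, v * u = u * v) → u ∈ Q1
  VU : ∀ u ∈ U, ∀ v ∈ V, u * v * u⁻¹ * v⁻¹ ∈ Y
  YU : ∀ u ∈ U, ∀ y ∈ Y, u * y * u⁻¹ * y⁻¹ ∈ Z
  CVU : ∀ v ∈ V, (∀ u ∈ U, u * v = v * u) → v ∈ Z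
  ZL2 : ∀ z ∈ Z, ∀ l ∈ L2, l * z = z * l
  /-- either `C_Y(A) = Z` or `A Q1/Q1` is contained in an `F_q`-line -/
  line : ∀ A ≤ U, ¬ A ≤ Q1 → (∀ y ∈ Y, (∀ a ∈ A, a * y = y * a) → y ∈ Z) ∨
    (Q1.relIndex A ≤ q ∧ (∀ a ∈ A, ∀ v ∈ V, ∀ b ∈ A, b * (a * v * a⁻¹ * v⁻¹) = a * v * a⁻¹ * v⁻¹ * b) ∧
      ∀ D ≤ Y, (∀ d ∈ D, ∀ a ∈ A, a * d = d * a) → Nat.card D ≤ q ^ 2)
  irrV : ∀ I ≤ V, L1 ≤ normalizer (I : Set G) → I = ⊥ ∨ I = V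
  VZ : V ≤ Y ⊔ cj n1 Z
  card_Z : Nat.card Z = q
  card_Y : Nat.card Y = q ^ 3
  card_V : Nat.card V = q ^ 4
  card_U1 : Q1.relIndex U = q ^ 2
  VQ : V ⊓ Q2 ≤ Y
  Y_Q2 : Y ≤ Q2
  /-- `U/Q2` -/
  comU : ∀ a ∈ U, ∀ b ∈ U, a * b * a⁻¹ * b⁻¹ ∈ V ⊔ Q2
  V_com : V ≤ ⁅U, U⁆ ⊔ Q2
  card_U2 : (V ⊔ Q2).relIndex U = q ^ 2
  irrU : ∀ M : Subgroup G, V ⊔ Q2 ≤ M → M ≤ U → H ≤ normalizer (M : Set G) → M = V ⊔ Q2 ∨ M = U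
  /-- the torus -/
  H_odd : Odd (Nat.card H)
  H_U : H ≤ normalizer (U : Set G)
  H_Q1 : H ≤ normalizer (Q1 : Set G)
  H_Q2 : H ≤ normalizer (Q2 : Set G)
  H_V : H ≤ normalizer (V : Set G)
  H_Y : H ≤ normalizer (Y : Set G)
  H_Z : H ≤ normalizer (Z : Set G)
  H_L1 : H ≤ normalizer (L1 : Set G)
  n1_H : n1 ∈ normalizer (H : Set G)
  n2_H : n2 ∈ normalizer (H : Set G)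
  n1_sq : n1 * n1 ∈ U ⊔ H
  n2_sq : n2 * n2 ∈ U ⊔ H
  fixV : ∀ v ∈ V, (∀ h ∈ H ⊓ L1, h * v = v * h) → v = 1
  fixVY : ∀ v ∈ V, (∀ h ∈ H ⊓ L1, h * v * h⁻¹ * v⁻¹ ∈ Y) → v ∈ Y
  /-- `n2` in `⟨V, n2 V n2⁻¹⟩` -/
  n2_X : n2 ∈ V ⊔ cj n2 V
  X_two : ¬ IsPGroup 2 ↥(V ⊔ cj n2 V)
  CQ2 : ∀ x ∈ L2, (∀ y ∈ Q2, y * x = x * y) → x ∈ Q2
  core : ∀ N ≤ U, L1 ≤ normalizer (N : Set G) → L2 ≤ normalizer (N : Set G) → N = ⊥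

end Cfsg.Agent.RankTwoClose.UFive
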