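import Cfsg.Agent.RankTwoClose.UFive.EF

/-!
# Closing of the type `U₅(q)`: `C_{Q2/Z}(U) = Y/Z`, irreducibility of `L2` on `Q2/Z`
-/

set_option autoImplicit false
set_option linter.unusedSectionVars false

namespace Cfsg.Agent.RankTwoClose.UFive

open Subgroup Cfsg.Agent.Omega.BTwo
open scoped commutatorElement

namespace Inp

variable {G : Type*} [Group G] {q : ℕ} {L1 L2 U Q1 Q2 V Y Z H : Subgroup G} {n1 n2 : G}
  (I : Inp q L1 L2 U Q1 Q2 V Y Z H n1 n2) [Finite G]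

include I

local notation "𝐓" => TT Q2 V n2
local notation "𝐖" => (V ⊔ TT Q2 V n2)

/-- `U` is not trivial on `T/Z` -/
theorem not_com_T : ¬ ∀ u ∈ U, ∀ t ∈ 𝐓, u * t * u⁻¹ * t⁻¹ ∈ Z := by
  intro h
  -- `[E, T] = 1`
  have hET : ∀ e ∈ cj n1 𝐓, ∀ t ∈ 𝐓, e * t = t * e := by
    intro e he t ht
    have h1 : e * t * e⁻¹ * t⁻¹ ∈ Z := h e (I.Q1_U (I.cj_T_Q1 he)) t ht
    have h2 : e * t * e⁻¹ * t⁻¹ ∈ cj n1 Z := by
      rw [mem_cj]
      have h3 : n1⁻¹ * e * n1 ∈ 𝐓 := mem_cj.1 he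
      have h4 : n1⁻¹ * t * n1 ∈ U := I.Q1_U (conj_inv_mem_of_normalizer I.n1_Q1 (I.T_Q1 ht))
      have h5 := inv_mem (h _ h4 _ h3)
      have e1 : (n1⁻¹ * t * n1 * (n1⁻¹ * e * n1) * (n1⁻¹ * t * n1)⁻¹ * (n1⁻¹ * e * n1)⁻¹)⁻¹ =
        n1⁻¹ * (e * t * e⁻¹ * t⁻¹) * n1 := by group
      rwa [e1] at h5
    have h3 : e * t * e⁻¹ * t⁻¹ ∈ cj n1 𝐓 ⊓ Q2 :=
      mem_inf.2 ⟨(cj_mono I.Z_T) h2, I.Y_Q2 (I.Z_Y h1)⟩
    rw [I.E_inf, mem_bot] at h3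
    calc e * t = (e * t * e⁻¹ * t⁻¹) * t * e := by group
      _ = t * e := by rw [h3, one_mul]
  -- `T` is abelian
  have hR : Q1 ⊓ Q2 ≤ centralizer (𝐓 : Set G) := by
    rw [← I.EF_eq]
    refine sup_le ?_ ?_
    · rw [commutator_le]
      intro e he f hf
      have h1 : e ∈ centralizer (𝐓 : Set G) := mem_centralizer_iff.2 fun t ht => (hET e he t ht).symm
      have h2 : f ∈ centralizer (𝐓 : Set G) := mem_centralizer_iff.2 fun t ht => (I.f_T hf ht).symm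
      rw [commutatorElement_def]
      exact mul_mem (mul_mem (mul_mem h1 h2) (inv_mem h1)) (inv_mem h2)
    · intro y hy
      exact mem_centralizer_iff.2 fun t ht => ((mem_TT.1 ht).2.1 y (I.Y_V hy)).symm
  have hTT : ∀ s ∈ 𝐓, ∀ t ∈ 𝐓, s * t = t * s := fun s hs t ht =>
    mem_centralizer_iff.1 (hR (mem_inf.2 ⟨I.T_Q1 ht, ht.1⟩)) s hs
  have hEE : ∀ a ∈ cj n1 𝐓, ∀ b ∈ cj n1 𝐓, a * b = b * a := by
    rintro _ ⟨a, ha, rfl⟩ _ ⟨b, hb, rfl⟩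
    change n1 * a * n1⁻¹ * (n1 * b * n1⁻¹) = n1 * b * n1⁻¹ * (n1 * a * n1⁻¹)
    have := hTT a ha b hb
    calc n1 * a * n1⁻¹ * (n1 * b * n1⁻¹) = n1 * (a * b) * n1⁻¹ := by group
      _ = n1 * (b * a) * n1⁻¹ := by rw [this]
      _ = n1 * b * n1⁻¹ * (n1 * a * n1⁻¹) := by group
  -- so `U/Q2` is abelian
  have hU : ⁅U, U⁆ ≤ Q2 := by
    rw [commutator_le]
    intro a ha b hb
    rw [commutatorElement_def]
    obtain ⟨e, he, x, hx, rfl⟩ := I.exists_EQ2 ha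
    obtain ⟨f, hf, y, hy, rfl⟩ := I.exists_EQ2 hb
    have heU := I.Q1_U (I.cj_T_Q1 he)
    have hfU := I.Q1_U (I.cj_T_Q1 hf)
    have h1 := hEE e he f hf
    have n := fun {a b : G} (ha : a ∈ U) (hb : b ∈ Q2) => conj_mem_of_normalizer (I.U_Q2 ha) hb
    -- `e x f y x⁻¹ e⁻¹ y⁻¹ f⁻¹`
    have e1 : e * x * (f * y) * (e * x)⁻¹ * (f * y)⁻¹ =
        (e * x * e⁻¹) * ((e * f) * (y * x⁻¹) * (e * f)⁻¹) * (f * e * e⁻¹ * (y⁻¹) * (f * e * e⁻¹)⁻¹) := by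
      calc e * x * (f * y) * (e * x)⁻¹ * (f * y)⁻¹
          = (e * x * e⁻¹) * ((e * f) * (y * x⁻¹) * (e * f)⁻¹) * ((e * f) * e⁻¹ * y⁻¹ * f⁻¹) := by group
        _ = (e * x * e⁻¹) * ((e * f) * (y * x⁻¹) * (e * f)⁻¹) * ((f * e) * e⁻¹ * y⁻¹ * f⁻¹) := by rw [h1]
        _ = _ := by group
    rw [e1]
    refine mul_mem (mul_mem (n heU hx) (n (mul_mem heU hfU) (mul_mem hy (inv_mem hx)))) ?_
    exact n (mul_mem (mul_mem hfU heU) (inv_mem heU)) (inv_mem hy)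
  apply I.not_V_le_Y
  intro v hv
  exact I.VQ (mem_inf.2 ⟨hv, (sup_le hU le_rfl) (I.V_com hv)⟩)

/-- **`C_{Q2/Z}(U) = Y/Z`** -/
theorem fixU_Z {x : G} (hx : x ∈ Q2) (h : ∀ u ∈ U, u * x * u⁻¹ * x⁻¹ ∈ Z) : x ∈ Y := by
  obtain ⟨f, hf, y, hy, t, ht, rfl⟩ := I.exists_fYT hx
  -- `f ∈ Z`
  have hfY : f ∈ Y := by
    refine I.f_mem hf fun v hv => ?_
    rw [I.inf_eq]
    have h1 := h v (I.V_U hv)
    have h2 : v * (y * t) = y * t * v := by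
      have h3 := I.V_ab hv (I.Y_V hy)
      have h4 := (mem_TT.1 ht).2.1 v hv
      calc v * (y * t) = (v * y) * t := by group
        _ = (y * v) * t := by rw [h3]
        _ = y * (v * t) := by group
        _ = y * (t * v) := by rw [h4]
        _ = y * t * v := by group
    have e : v * (f * y * t) * v⁻¹ * (f * y * t)⁻¹ = v * f * v⁻¹ * f⁻¹ := by
      calc v * (f * y * t) * v⁻¹ * (f * y * t)⁻¹ = v * f * v⁻¹ * (v * (y * t)) * v⁻¹ * (y * t)⁻¹ * f⁻¹ := by group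
        _ = v * f * v⁻¹ * (y * t * v) * v⁻¹ * (y * t)⁻¹ * f⁻¹ := by rw [h2]
        _ = v * f * v⁻¹ * f⁻¹ := by group
    rwa [e] at h1
  have hfy : f * y ∈ Y := mul_mem hfY hy
  refine mul_mem hfy ?_
  -- the subgroup `T1`
  set z := f * y with hz
  have hT : ∀ u ∈ U, u * t * u⁻¹ * t⁻¹ ∈ Z := by
    intro u hu
    have h1 := h u hu
    have h2 := I.YU u hu z hfy
    have e : u * (z * t) * u⁻¹ * (z * t)⁻¹ = (u * z * u⁻¹ * z⁻¹) * (z * (u * t * u⁻¹ * t⁻¹) * z⁻¹) := by group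
    rw [e] at h1
    have h3 : z * (u * t * u⁻¹ * t⁻¹) * z⁻¹ ∈ Z := by
      have := mul_mem (inv_mem h2) h1
      rwa [inv_mul_cancel_left] at this
    have h4 : u * t * u⁻¹ * t⁻¹ = z * (u * t * u⁻¹ * t⁻¹) * z⁻¹ := by
      have h5 := I.V_ab (I.Y_V hfy) (I.Z_V h3)
      calc u * t * u⁻¹ * t⁻¹ = z⁻¹ * (z * (u * t * u⁻¹ * t⁻¹) * z⁻¹ * z) := by group
        _ = z⁻¹ * (z * (z * (u * t * u⁻¹ * t⁻¹) * z⁻¹)) := by rw [h5]
        _ = _ := by group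
    rw [h4]; exact h3
  let T1 : Subgroup G :=
    { carrier := {s | s ∈ 𝐓 ∧ ∀ u ∈ U, u * s * u⁻¹ * s⁻¹ ∈ Z}
      one_mem' := ⟨one_mem _, fun u _ => by
        have : u * 1 * u⁻¹ * 1⁻¹ = 1 := by group
        rw [this]; exact one_mem _⟩
      mul_mem' := by
        rintro a b ⟨ha1, ha2⟩ ⟨hb1, hb2⟩
        refine ⟨mul_mem ha1 hb1, fun u hu => ?_⟩
        have h5 := I.Z_Q2 (hb2 u hu) ha1.1
        have e : u * (a * b) * u⁻¹ * (a * b)⁻¹ = (u * a * u⁻¹ * a⁻¹) * (u * b * u⁻¹ * b⁻¹) := by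
          calc u * (a * b) * u⁻¹ * (a * b)⁻¹ = (u * a * u⁻¹ * a⁻¹) * (a * (u * b * u⁻¹ * b⁻¹)) * a⁻¹ := by group
            _ = (u * a * u⁻¹ * a⁻¹) * ((u * b * u⁻¹ * b⁻¹) * a) * a⁻¹ := by rw [h5]
            _ = _ := by group
        rw [e]
        exact mul_mem (ha2 u hu) (hb2 u hu)
      inv_mem' := by
        rintro a ⟨ha1, ha2⟩
        refine ⟨inv_mem ha1, fun u hu => ?_⟩
        have h5 := I.Z_Q2 (inv_mem (ha2 u hu)) (inv_mem ha1.1)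
        have e : u * a⁻¹ * u⁻¹ * a⁻¹⁻¹ = (u * a * u⁻¹ * a⁻¹)⁻¹ := by
          calc u * a⁻¹ * u⁻¹ * a⁻¹⁻¹ = (a⁻¹ * (u * a * u⁻¹ * a⁻¹)⁻¹) * a := by group
            _ = ((u * a * u⁻¹ * a⁻¹)⁻¹ * a⁻¹) * a := by rw [h5]
            _ = _ := by group
        rw [e]
        exact inv_mem (ha2 u hu) }
  have hH : H ≤ normalizer (T1 : Set G) := by
    intro k hk
    refine mem_normalizer_of_conj fun s hs => ⟨conj_mem_of_normalizer (I.H_T hk) hs.1, fun u hu => ?_⟩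
    have h1 := hs.2 _ (conj_inv_mem_of_normalizer (I.H_U hk) hu)
    have h2 := conj_mem_of_normalizer (I.H_Z hk) h1
    have e : k * (k⁻¹ * u * k * s * (k⁻¹ * u * k)⁻¹ * s⁻¹) * k⁻¹ = u * (k * s * k⁻¹) * u⁻¹ * (k * s * k⁻¹)⁻¹ := by group
    rwa [e] at h2
  have hT1 : T1 ≤ 𝐓 := fun s hs => hs.1
  rcases I.irrW (V ⊔ T1) le_sup_left (sup_le_sup_left hT1 V) (le_normalizer_sup' I.H_V hH) with h1 | h1
  · have h2 : t ∈ V := by
      rw [← h1]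
      exact mem_sup_right ⟨ht, hT⟩
    refine I.Z_Y ?_
    rw [← I.T_inf_V]
    exact mem_inf.2 ⟨ht, h2⟩
  · exfalso
    apply I.not_com_T
    intro u hu s hs
    have h2 : s ∈ V ⊔ T1 := by rw [h1]; exact mem_sup_right hs
    obtain ⟨v, hv, r, hr, e⟩ := exists_of_mem_sup (I.V_Q1.trans (by
      intro x hx
      refine mem_normalizer_of_conj fun r hr => ?_
      have h3 := hr.2 x (I.Q1_U hx)
      have h4 : x * r * x⁻¹ = (x * r * x⁻¹ * r⁻¹) * r := by group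
      rw [h4]
      refine mul_mem ⟨I.Z_T h3, fun w hw => ?_⟩ hr
      exact mul_mem (conj_mem_of_normalizer (show w ∈ normalizer (Z : Set G) from by
        refine mem_normalizer_of_conj fun z hz => ?_
        rw [I.ZL2 z hz w (I.U_L2 hw), mul_inv_cancel_right]
        exact hz) h3) (inv_mem h3))) h2
    have hvZ : v ∈ Z := by
      rw [← I.T_inf_V]
      refine mem_inf.2 ⟨?_, hv⟩
      have : v = s * r⁻¹ := by rw [e]; group
      rw [this]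
      exact mul_mem hs (inv_mem hr.1)
    have hvT : v ∈ T1 := ⟨I.Z_T hvZ, fun w hw => mul_mem (by
      rw [I.ZL2 v hvZ w (I.U_L2 hw), mul_inv_cancel_right]; exact hvZ) (inv_mem hvZ)⟩
    have h3 : s ∈ T1 := by rw [e]; exact mul_mem hvT hr
    exact h3.2 u hu

/-- **`L2` is irreducible on `Q2/Z`**, if `H ∩ L2` is irreducible on `Y/Z` -/
theorem irr (hY : ∀ M ≤ Y, Z ≤ M → H ⊓ L2 ≤ normalizer (M : Set G) → M = Z ∨ M = Y) {R : Subgroup G} (hR : R ≤ Q2)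
    (hL : ∀ l ∈ L2, ∀ x ∈ R, l * x * l⁻¹ ∈ R) : R ≤ Z ∨ Q2 ≤ R ⊔ Z := by
  by_cases hRZ : R ≤ Z
  · exact Or.inl hRZ
  right
  haveI : Fact (Nat.Prime 2) := ⟨Nat.prime_two⟩
  have hLZ : L2 ≤ normalizer (Z : Set G) := by
    intro l hl
    refine mem_normalizer_of_conj fun z hz => ?_
    rw [I.ZL2 z hz l hl, mul_inv_cancel_right]
    exact hz
  have hLR : L2 ≤ normalizer (R : Set G) := fun l hl => mem_normalizer_of_conj fun x hx => hL l hl x hx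
  have hLM : L2 ≤ normalizer ((R ⊔ Z : Subgroup G) : Set G) := le_normalizer_sup' hLR hLZ
  have hMQ : R ⊔ Z ≤ Q2 := sup_le hR (I.Z_Y.trans I.Y_Q2)
  obtain ⟨x, hx, hxZ, hxU⟩ := GTwoFour.Tools.exists_fixed_mod (p := 2) (Y := U) (N := R ⊔ Z) (M := Z) I.two
    (hMQ.trans I.Q2_U) (fun y hy n hn => conj_mem_of_normalizer (hLM (I.U_L2 hy)) hn)
    (fun y hy n hn => conj_mem_of_normalizer (hLZ (I.U_L2 hy)) hn) (by
      obtain ⟨x, hx, hxZ⟩ := SetLike.not_le_iff_exists.1 hRZ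
      exact ⟨x, mem_sup_left hx, hxZ⟩)
  have hxY : x ∈ Y := I.fixU_Z (hMQ hx) fun u hu => by
    have := hxU u hu
    rwa [commutatorElement_def] at this
  have hYM : Y ≤ R ⊔ Z := by
    rcases hY ((R ⊔ Z) ⊓ Y) inf_le_right (le_inf le_sup_right I.Z_Y)
      (le_normalizer_inf' (inf_le_right.trans hLM) (inf_le_left.trans I.H_Y)) with h | h
    · exact absurd (h.le (mem_inf.2 ⟨hx, hxY⟩)) hxZ
    · exact inf_eq_right.1 h
  have hFM : cj n2 Y ≤ R ⊔ Z := by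
    rw [← cj_eq_self_iff.2 (hLM I.n2_L2)]
    exact cj_mono hYM
  have hEF : ⁅cj n1 𝐓, cj n2 Y⁆ ≤ R ⊔ Z := by
    rw [commutator_le]
    intro e he f hf
    rw [commutatorElement_def]
    exact mul_mem (conj_mem_of_normalizer (hLM (I.U_L2 (I.Q1_U (I.cj_T_Q1 he)))) (hFM hf)) (inv_mem (hFM hf))
  have hR12 : Q1 ⊓ Q2 ≤ R ⊔ Z := by
    rw [← I.EF_eq]
    exact sup_le hEF hYM
  intro y hy
  obtain ⟨f, hf, w, hw, rfl⟩ := I.exists_mul (I.Q2_U hy)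
  refine mul_mem (hFM hf) (hR12 (mem_inf.2 ⟨hw, ?_⟩))
  have := mul_mem (inv_mem (I.cj_Y_Q2 hf)) hy
  rwa [inv_mul_cancel_left] at this

end Inp

end Cfsg.Agent.RankTwoClose.UFive
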