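import Cfsg.Agent.RankTwoClose.UFive.Cross
import Cfsg.Agent.GTwoFour.Tools

/-!
# Closing of the type `U₅(q)`: `V T ∩ n1 (V T) n1⁻¹ = V`
-/

set_option autoImplicit false
set_option linter.unusedSectionVars false
set_option linter.style.haveILetI false

namespace Cfsg.Agent.RankTwoClose.UFive

open Subgroup Cfsg.Agent.Omega.BTwo

section Gen

/-- fixed points of a group of odd order in a coset of an abelian group of exponent two -/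
theorem exists_fix {G : Type*} [Group G] [Finite G] {A V : Subgroup G} (hA : Odd (Nat.card A))
    (hAV : A ≤ normalizer (V : Set G)) (hc : ∀ v ∈ V, ∀ w ∈ V, v * w = w * v) (hsq : ∀ v ∈ V, v * v = 1) {a : G}
    (h : ∀ x ∈ A, x * a * x⁻¹ * a⁻¹ ∈ V) : ∃ v ∈ V, ∀ x ∈ A, x * (v * a) = v * a * x := by
  classical
  letI : CommGroup V := { (inferInstance : Group V) with mul_comm := fun v w => Subtype.ext (hc v v.2 w w.2) }
  letI := Fintype.ofFinite A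
  let f : A → V := fun x => ⟨x * a * (x : G)⁻¹ * a⁻¹, h x x.2⟩
  let c : V := ∏ x, f x
  refine ⟨c, c.2, fun y hy => ?_⟩
  let φ : V →* V :=
    { toFun := fun v => ⟨y * v * y⁻¹, conj_mem_of_normalizer (hAV hy) v.2⟩
      map_one' := Subtype.ext (by simp)
      map_mul' := fun v w => Subtype.ext (by push_cast; group) }
  have hf2 : f ⟨y, hy⟩ * f ⟨y, hy⟩ = 1 := Subtype.ext (hsq _ (h y hy))
  have h1 : φ c = c * f ⟨y, hy⟩ := by
    have h2 : ∀ x : A, φ (f x) = f (⟨y, hy⟩ * x) * f ⟨y, hy⟩ := by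
      intro x
      have h3 : φ (f x) * f ⟨y, hy⟩ = f (⟨y, hy⟩ * x) := by
        apply Subtype.ext
        change y * (x * a * (x : G)⁻¹ * a⁻¹) * y⁻¹ * (y * a * y⁻¹ * a⁻¹) = (y * x) * a * (y * x : G)⁻¹ * a⁻¹
        group
      rw [← h3, mul_assoc, hf2, mul_one]
    have h4 : (f ⟨y, hy⟩) ^ Fintype.card A = f ⟨y, hy⟩ := by
      obtain ⟨m, hm⟩ := hA
      rw [← Nat.card_eq_fintype_card, hm, pow_succ, pow_mul, pow_two, hf2, one_pow, one_mul]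
    calc φ c = ∏ x, φ (f x) := map_prod φ f _
      _ = ∏ x, (f (⟨y, hy⟩ * x) * f ⟨y, hy⟩) := Finset.prod_congr rfl fun x _ => h2 x
      _ = (∏ x, f (⟨y, hy⟩ * x)) * ∏ _x : A, f ⟨y, hy⟩ := Finset.prod_mul_distrib
      _ = c * f ⟨y, hy⟩ := by
        rw [Finset.prod_const, Finset.card_univ, h4]
        congr 1
        exact Equiv.prod_comp (Equiv.mulLeft (⟨y, hy⟩ : A)) f
  have h5 : y * c * y⁻¹ = c * (y * a * y⁻¹ * a⁻¹) := congrArg Subtype.val h1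
  have h6 : y * a * y⁻¹ * a⁻¹ * (y * a * y⁻¹ * a⁻¹) = 1 := hsq _ (h y hy)
  calc y * (c * a) = (y * c * y⁻¹) * (y * a) := by group
    _ = c * (y * a * y⁻¹ * a⁻¹) * (y * a) := by rw [h5]
    _ = c * (y * a * y⁻¹ * a⁻¹ * (y * a * y⁻¹ * a⁻¹)) * a * y := by group
    _ = c * a * y := by rw [h6, mul_one]

variable {G : Type*} [Group G]

theorem relIndex_eq_of_exists_mul {A U K : Subgroup G} (hA : A ≤ U) (h : ∀ u ∈ U, ∃ a ∈ A, ∃ b ∈ K, u = a * b) :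
    K.relIndex A = K.relIndex U := by
  let f : A ⧸ K.subgroupOf A → U ⧸ K.subgroupOf U :=
    Quotient.map' (fun a => (⟨a, hA a.2⟩ : U)) (by
      intro a b hab
      rw [QuotientGroup.leftRel_apply] at hab ⊢
      exact hab)
  have hinj : Function.Injective f := by
    intro a b
    induction a using QuotientGroup.induction_on
    induction b using QuotientGroup.induction_on
    intro hab
    have h1 := QuotientGroup.eq.1 hab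
    exact QuotientGroup.eq.2 h1
  have hsurj : Function.Surjective f := by
    intro u
    induction u using QuotientGroup.induction_on with
    | H u =>
      obtain ⟨a, ha, b, hb, e⟩ := h u u.2
      refine ⟨QuotientGroup.mk (⟨a, ha⟩ : A), ?_⟩
      apply QuotientGroup.eq.2
      rw [mem_subgroupOf]
      change a⁻¹ * (u : G) ∈ K
      rw [e, inv_mul_cancel_left]
      exact hb
  exact Nat.card_congr (Equiv.ofBijective f ⟨hinj, hsurj⟩)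

/-- the elements of `L` acting trivially on `J / V` -/
def trivOn (L J V : Subgroup G) (hJ : L ≤ normalizer (J : Set G)) : Subgroup G where
  carrier := {l | l ∈ L ∧ ∀ j ∈ J, l * j * l⁻¹ * j⁻¹ ∈ V}
  one_mem' := ⟨one_mem _, fun x _ => by
    have : (1 : G) * x * 1⁻¹ * x⁻¹ = 1 := by group
    rw [this]; exact one_mem _⟩
  mul_mem' := by
    rintro a b ⟨ha1, ha3⟩ ⟨hb1, hb3⟩
    refine ⟨mul_mem ha1 hb1, fun x hx => ?_⟩
    have e : a * b * x * (a * b)⁻¹ * x⁻¹ = (a * (b * x * b⁻¹) * a⁻¹ * (b * x * b⁻¹)⁻¹) * (b * x * b⁻¹ * x⁻¹) := by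
      group
    rw [e]
    exact mul_mem (ha3 _ (conj_mem_of_normalizer (hJ hb1) hx)) (hb3 x hx)
  inv_mem' := by
    rintro a ⟨ha1, ha3⟩
    refine ⟨inv_mem ha1, fun x hx => ?_⟩
    have h3 := inv_mem (ha3 _ (conj_inv_mem_of_normalizer (hJ ha1) hx))
    have e : (a * (a⁻¹ * x * a) * a⁻¹ * (a⁻¹ * x * a)⁻¹)⁻¹ = a⁻¹ * x * a⁻¹⁻¹ * x⁻¹ := by group
    rwa [e] at h3

theorem mem_trivOn {L J V : Subgroup G} {hJ : L ≤ normalizer (J : Set G)} {l : G} :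
    l ∈ trivOn L J V hJ ↔ l ∈ L ∧ ∀ j ∈ J, l * j * l⁻¹ * j⁻¹ ∈ V := Iff.rfl

theorem trivOn_normal {L J V : Subgroup G} {hJ : L ≤ normalizer (J : Set G)} (hV : L ≤ normalizer (V : Set G))
    {g l : G} (hg : g ∈ L) (hl : l ∈ trivOn L J V hJ) : g * l * g⁻¹ ∈ trivOn L J V hJ := by
  refine ⟨mul_mem (mul_mem hg hl.1) (inv_mem hg), fun j hj => ?_⟩
  have h1 := conj_mem_of_normalizer (hV hg) (hl.2 _ (conj_inv_mem_of_normalizer (hJ hg) hj))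
  have e : g * (l * (g⁻¹ * j * g) * l⁻¹ * (g⁻¹ * j * g)⁻¹) * g⁻¹ = g * l * g⁻¹ * j * (g * l * g⁻¹)⁻¹ * j⁻¹ := by group
  rwa [e] at h1

/-- an element of odd order in `N Q`, `Q` a `2`-group normalising `N`, is in `N` -/
theorem mem_of_odd [Finite G] {N Q : Subgroup G} (hQ : IsPGroup 2 Q) (hNQ : ∀ x ∈ Q, ∀ l ∈ N, x * l * x⁻¹ ∈ N)
    {h l x : G} (hl : l ∈ N) (hx : x ∈ Q) (e : h = l * x) (hodd : Odd (orderOf h)) : h ∈ N := by
  have h1 : ∀ m : ℕ, (l * x) ^ m * (x ^ m)⁻¹ ∈ N := by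
    intro m
    induction m with
    | zero => simp
    | succ m ih =>
      have e1 : (l * x) ^ (m + 1) * (x ^ (m + 1))⁻¹ = ((l * x) ^ m * (x ^ m)⁻¹) * (x ^ m * l * (x ^ m)⁻¹) := by
        rw [pow_succ, pow_succ']
        group
      rw [e1]
      exact mul_mem ih (hNQ _ (pow_mem hx m) l hl)
  obtain ⟨k, hk⟩ := hQ ⟨x, hx⟩
  have hk' : x ^ 2 ^ k = 1 := congrArg Subtype.val hk
  have h2 := h1 (2 ^ k)
  rw [hk', inv_one, mul_one, ← e] at h2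
  have h3 : (2 ^ k).Coprime (orderOf h) := Nat.Coprime.pow_left k hodd.coprime_two_left
  obtain ⟨m, hm⟩ := exists_pow_eq_self_of_coprime h3
  rw [← hm]
  exact pow_mem h2 m

end Gen

namespace Inp

variable {G : Type*} [Group G] {q : ℕ} {L1 L2 U Q1 Q2 V Y Z H : Subgroup G} {n1 n2 : G}
  (I : Inp q L1 L2 U Q1 Q2 V Y Z H n1 n2) [Finite G]

include I

local notation "𝐖" => (V ⊔ TT Q2 V n2)
local notation "𝐉" => ((V ⊔ TT Q2 V n2) ⊓ cj n1 (V ⊔ TT Q2 V n2))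

theorem n1_sq_W : n1 * n1 ∈ normalizer ((𝐖 : Subgroup G) : Set G) :=
  (sup_le I.U_VT I.H_VT) I.n1_sq

theorem cj_n1_J : cj n1 𝐉 = 𝐉 := by
  rw [cj_inf, ← cj_mul, cj_eq_self_iff.2 I.n1_sq_W, inf_comm]

theorem J_Q1 : 𝐉 ≤ Q1 := inf_le_left.trans I.VT_Q1

theorem Q1_Q1 {x y : G} (hx : x ∈ Q1) (hy : y ∈ Q1) : x * y * x⁻¹ * y⁻¹ ∈ 𝐉 := by
  refine mem_inf.2 ⟨I.com_Q1 (I.Q1_U hx) hy, mem_cj.2 ?_⟩
  have h1 := I.com_Q1 (I.Q1_U (conj_inv_mem_of_normalizer I.n1_Q1 hx)) (conj_inv_mem_of_normalizer I.n1_Q1 hy)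
  have e : n1⁻¹ * (x * y * x⁻¹ * y⁻¹) * n1 =
    n1⁻¹ * x * n1 * (n1⁻¹ * y * n1) * (n1⁻¹ * x * n1)⁻¹ * (n1⁻¹ * y * n1)⁻¹ := by group
  rwa [e]

theorem V_J : V ≤ 𝐉 := le_inf le_sup_left (by rw [cj_sup, I.cj_n1_V]; exact le_sup_left)

theorem f_W {f w : G} (hf : f ∈ cj n2 Y) (hw : w ∈ 𝐖) : f * w * f⁻¹ * w⁻¹ ∈ V := by
  obtain ⟨v, hv, t, ht, rfl⟩ := I.mem_VT hw
  have h1 := I.f_T hf ht
  have h2 : t * f⁻¹ = f⁻¹ * t := by
    calc t * f⁻¹ = f⁻¹ * (f * t) * f⁻¹ := by group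
      _ = f⁻¹ * (t * f) * f⁻¹ := by rw [h1]
      _ = f⁻¹ * t := by group
  have e : f * (v * t) * f⁻¹ * (v * t)⁻¹ = f * v * f⁻¹ * v⁻¹ := by
    calc f * (v * t) * f⁻¹ * (v * t)⁻¹ = f * v * (t * f⁻¹) * t⁻¹ * v⁻¹ := by group
      _ = f * v * (f⁻¹ * t) * t⁻¹ * v⁻¹ := by rw [h2]
      _ = f * v * f⁻¹ * v⁻¹ := by group
  rw [e]
  exact mul_mem (conj_mem_of_normalizer (I.U_V (I.cj_Y_U hf)) hv) (inv_mem hv)

/-- `[U, V T] ≤ J` -/
theorem U_W {u w : G} (hu : u ∈ U) (hw : w ∈ 𝐖) : u * w * u⁻¹ * w⁻¹ ∈ 𝐉 := by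
  obtain ⟨f, hf, x, hx, rfl⟩ := I.exists_mul hu
  have hx1 : x * w * x⁻¹ ∈ 𝐖 := conj_mem_of_normalizer (I.U_VT (I.Q1_U hx)) hw
  have e : f * x * w * (f * x)⁻¹ * w⁻¹ =
    (f * (x * w * x⁻¹) * f⁻¹ * (x * w * x⁻¹)⁻¹) * (x * w * x⁻¹ * w⁻¹) := by group
  rw [e]
  exact mul_mem (I.V_J (I.f_W hf hx1)) (I.Q1_Q1 hx (I.VT_Q1 hw))

theorem U_J : U ≤ normalizer ((𝐉 : Subgroup G) : Set G) := by
  intro u hu
  refine mem_normalizer_of_conj fun j hj => ?_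
  have h1 := mul_mem (I.U_W hu hj.1) hj
  rwa [inv_mul_cancel_right] at h1

theorem n1_J : n1 ∈ normalizer ((𝐉 : Subgroup G) : Set G) := cj_eq_self_iff.1 I.cj_n1_J

theorem L1_le_of {N : Subgroup G} (hU : U ≤ N) (hn : n1 ∈ N) : L1 ≤ N := by
  refine I.gen1.trans (sup_le hU ?_)
  rw [cj_le_iff]
  intro u hu
  exact mul_mem (mul_mem hn (hU hu)) (inv_mem hn)

theorem L1_J : L1 ≤ normalizer ((𝐉 : Subgroup G) : Set G) := I.L1_le_of I.U_J I.n1_J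

/-! ### Orders -/

theorem exists_Q1Q2 {u : G} (hu : u ∈ U) : ∃ x ∈ Q1, ∃ y ∈ Q2, u = x * y := by
  rw [← I.Q_sup, sup_comm] at hu
  exact exists_of_mem_sup (I.Q1_U.trans I.U_Q2) hu

theorem exists_EQ2 {u : G} (hu : u ∈ U) : ∃ e ∈ cj n1 (TT Q2 V n2), ∃ y ∈ Q2, u = e * y := by
  rw [← I.cj_T_sup] at hu
  exact exists_of_mem_sup ((I.cj_T_Q1.trans I.Q1_U).trans I.U_Q2) hu

theorem YT_le {x : G} (hx1 : x ∈ Q1) (hx2 : x ∈ Q2) : x ∈ 𝐖 := by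
  obtain ⟨y, hy, t, ht, rfl⟩ := I.exists_YT hx2 hx1
  exact mul_mem (mem_sup_left (I.Y_V hy)) (mem_sup_right ht)

theorem exists_EW {x : G} (hx : x ∈ Q1) : ∃ e ∈ cj n1 (TT Q2 V n2), ∃ w ∈ 𝐖, x = e * w := by
  obtain ⟨e, he, y, hy, rfl⟩ := I.exists_EQ2 (I.Q1_U hx)
  have hy1 : y ∈ Q1 := by
    have := mul_mem (inv_mem (I.cj_T_Q1 he)) hx
    rwa [inv_mul_cancel_left] at this
  exact ⟨e, he, y, I.YT_le hy1 hy, rfl⟩

theorem W_rel : (𝐖 : Subgroup G).relIndex Q1 = q ^ 2 := by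
  rw [I.VT_eq, inf_relIndex_left, ← I.card_U2]
  refine relIndex_eq_of_exists_mul I.Q1_U fun u hu => ?_
  obtain ⟨x, hx, y, hy, e⟩ := I.exists_Q1Q2 hu
  exact ⟨x, hx, y, mem_sup_right hy, e⟩

theorem cjW_rel : (cj n1 𝐖).relIndex Q1 = q ^ 2 := by
  have h1 := card_mul_rel I.VT_Q1
  have h2 : Nat.card ↥(cj n1 𝐖) * (cj n1 𝐖).relIndex Q1 = Nat.card Q1 :=
    card_mul_rel (by rw [← I.cj_n1_Q1]; exact cj_mono I.VT_Q1)
  rw [card_cj, ← h1, I.W_rel] at h2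
  exact Nat.eq_of_mul_eq_mul_left Nat.card_pos h2

theorem J_rel : (𝐉 : Subgroup G).relIndex 𝐖 = q ^ 2 := by
  rw [inf_relIndex_left, ← I.cjW_rel]
  refine relIndex_eq_of_exists_mul I.VT_Q1 fun u hu => ?_
  obtain ⟨e, he, w, hw, eq⟩ := I.exists_EW (inv_mem hu)
  refine ⟨w⁻¹, inv_mem hw, e⁻¹, inv_mem ((cj_mono le_sup_right) he), ?_⟩
  rw [← mul_inv_rev, ← eq, inv_inv]

/-! ### `L1` on `J/V` -/

theorem U_le_N : U ≤ trivOn L1 𝐉 V I.L1_J ⊔ Q1 := by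
  intro u hu
  obtain ⟨f, hf, x, hx, rfl⟩ := I.exists_mul hu
  exact mul_mem (mem_sup_left ⟨I.U_L1 (I.cj_Y_U hf), fun j hj => I.f_W hf hj.1⟩) (mem_sup_right hx)

theorem L1_le : L1 ≤ trivOn L1 𝐉 V I.L1_J ⊔ Q1 := by
  refine I.gen1.trans (sup_le I.U_le_N ?_)
  have h1 : cj n1 (trivOn L1 𝐉 V I.L1_J) = trivOn L1 𝐉 V I.L1_J := by
    rw [cj_eq_self_iff]
    exact mem_normalizer_of_conj fun l hl => trivOn_normal I.L1_V I.n1_mem hl
  have h2 := cj_mono (g := n1) I.U_le_N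
  rwa [cj_sup, h1, I.cj_n1_Q1] at h2

/-- every element of `L1` is `l x`, `l` trivial on `J/V`, `x ∈ Q1` -/
theorem exists_NQ {g : G} (hg : g ∈ L1) : ∃ l ∈ trivOn L1 𝐉 V I.L1_J, ∃ x ∈ Q1, g = l * x :=
  exists_of_mem_sup (A := trivOn L1 𝐉 V I.L1_J) (fun _ hl => I.L1_Q1 hl.1) (I.L1_le hg)

theorem Q1_two : IsPGroup 2 Q1 := I.two.to_le I.Q1_U

theorem odd_H {h : G} (hh : h ∈ H) : Odd (orderOf h) := by
  have h1 : orderOf h ∣ Nat.card H := by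
    have := orderOf_dvd_natCard (⟨h, hh⟩ : H)
    rwa [← Subgroup.orderOf_coe] at this
  exact Odd.of_dvd_nat I.H_odd h1

/-- the torus of `L1` is trivial on `J/V` -/
theorem H1_J {h j : G} (hh : h ∈ H ⊓ L1) (hj : j ∈ 𝐉) : h * j * h⁻¹ * j⁻¹ ∈ V := by
  obtain ⟨l, hl, x, hx, e⟩ := I.exists_NQ hh.2
  have h1 : h ∈ trivOn L1 𝐉 V I.L1_J :=
    mem_of_odd I.Q1_two (fun x hx l hl => trivOn_normal I.L1_V (I.U_L1 (I.Q1_U hx)) hl) hl hx e (I.odd_H hh.1)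
  exact h1.2 j hj

theorem H_J : H ≤ normalizer ((𝐉 : Subgroup G) : Set G) :=
  le_normalizer_inf' I.H_VT (le_normalizer_cj I.n1_H I.H_VT)

theorem H1_odd : Odd (Nat.card ↥(H ⊓ L1)) := Odd.of_dvd_nat I.H_odd (card_dvd_of_le inf_le_left)

/-- `J = V K`, `K` the fixed points of `H ∩ L1` in `J ∩ T` -/
theorem exists_VK {j : G} (hj : j ∈ 𝐉) : ∃ v ∈ V, ∃ k ∈ 𝐉 ⊓ TT Q2 V n2, (∀ h ∈ H ⊓ L1, h * k = k * h) ∧ j = v * k := by
  obtain ⟨v, hv, t, ht, rfl⟩ := I.mem_VT hj.1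
  have htJ : t ∈ 𝐉 := by
    have := mul_mem (inv_mem (I.V_J hv)) hj
    rwa [inv_mul_cancel_left] at this
  obtain ⟨z, hz, hzt⟩ := exists_fix I.H1_odd (inf_le_left.trans I.H_Z) (V := Z)
    (fun v hv w hw => I.V_ab (I.Z_V hv) (I.Z_V hw)) (fun v hv => I.V_sq v (I.Z_V hv)) (a := t) (fun h hh => by
      rw [← I.T_inf_V]
      have h1 : h * t * h⁻¹ * t⁻¹ ∈ TT Q2 V n2 := mul_mem (conj_mem_of_normalizer (I.H_T hh.1) ht) (inv_mem ht)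
      exact ⟨h1, I.H1_J hh htJ⟩)
  have h2 : z * t ∈ 𝐉 := mul_mem (I.V_J (I.Z_V hz)) htJ
  have h3 : z * t ∈ TT Q2 V n2 := mul_mem (I.Z_T hz) ht
  refine ⟨v * z⁻¹, mul_mem hv (inv_mem (I.Z_V hz)), z * t, ⟨h2, h3⟩, hzt, by group⟩

/-- the subgroup `[Q1, k]` -/
def comK (k : G) (hQ : ∀ x ∈ Q1, x * k * x⁻¹ * k⁻¹ ∈ V) : Subgroup G where
  carrier := {g | ∃ x ∈ Q1, g = x * k * x⁻¹ * k⁻¹}
  one_mem' := ⟨1, one_mem _, by group⟩
  mul_mem' := by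
    rintro _ _ ⟨x, hx, rfl⟩ ⟨y, hy, rfl⟩
    refine ⟨y * x, mul_mem hy hx, ?_⟩
    have h1 := I.V_comm _ (hQ x hx) y hy
    calc x * k * x⁻¹ * k⁻¹ * (y * k * y⁻¹ * k⁻¹) = (x * k * x⁻¹ * k⁻¹ * y) * k * y⁻¹ * k⁻¹ := by group
      _ = (y * (x * k * x⁻¹ * k⁻¹)) * k * y⁻¹ * k⁻¹ := by rw [h1]
      _ = y * x * k * (y * x)⁻¹ * k⁻¹ := by group
  inv_mem' := by
    rintro _ ⟨x, hx, rfl⟩
    refine ⟨x⁻¹, inv_mem hx, ?_⟩
    have h1 := I.V_comm _ (inv_mem (hQ x hx)) x hx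
    calc (x * k * x⁻¹ * k⁻¹)⁻¹ = x⁻¹ * (x * (x * k * x⁻¹ * k⁻¹)⁻¹) := by group
      _ = x⁻¹ * ((x * k * x⁻¹ * k⁻¹)⁻¹ * x) := by rw [h1]
      _ = x⁻¹ * k * x⁻¹⁻¹ * k⁻¹ := by group

/-- **`V T ∩ n1 (V T) n1⁻¹ = V`** -/
theorem J_eq : 𝐉 = V := by
  refine le_antisymm ?_ I.V_J
  by_contra hJV
  haveI : Fact (Nat.Prime 2) := ⟨Nat.prime_two⟩
  obtain ⟨j, hj, hjV, hjQ⟩ := GTwoFour.Tools.exists_fixed_mod (p := 2) (Y := Q1) (N := 𝐉) (M := V) I.Q1_two I.J_Q1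
    (fun y hy n hn => conj_mem_of_normalizer (I.U_J (I.Q1_U hy)) hn)
    (fun y hy n hn => conj_mem_of_normalizer (I.U_V (I.Q1_U hy)) hn) (by
      simpa only [SetLike.not_le_iff_exists] using hJV)
  obtain ⟨v, hv, k, hk, hkH, rfl⟩ := I.exists_VK hj
  have hkV : k ∉ V := fun h => hjV (mul_mem hv h)
  have hkQ : ∀ y ∈ Q1, y * k * y⁻¹ * k⁻¹ ∈ V := by
    intro y hy
    have h1 := hjQ y hy
    rw [commutatorElement_def] at h1
    have h2 := I.V_comm v hv y hy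
    have e : y * (v * k) * y⁻¹ * (v * k)⁻¹ = v * (y * k * y⁻¹ * k⁻¹) * v⁻¹ := by
      calc y * (v * k) * y⁻¹ * (v * k)⁻¹ = (y * v) * k * y⁻¹ * k⁻¹ * v⁻¹ := by group
        _ = (v * y) * k * y⁻¹ * k⁻¹ * v⁻¹ := by rw [h2]
        _ = v * (y * k * y⁻¹ * k⁻¹) * v⁻¹ := by group
    rw [e] at h1
    have h3 := mul_mem (mul_mem (inv_mem hv) h1) hv
    have e2 : v⁻¹ * (v * (y * k * y⁻¹ * k⁻¹) * v⁻¹) * v = y * k * y⁻¹ * k⁻¹ := by group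
    rwa [e2] at h3
  have hkQ1 : k ∈ Q1 := I.J_Q1 hk.1
  -- `[L1, k] ≤ V`
  have hkL : ∀ g ∈ L1, g * k * g⁻¹ * k⁻¹ ∈ V := by
    intro g hg
    obtain ⟨l, hl, x, hx, rfl⟩ := I.exists_NQ hg
    have e : l * x * k * (l * x)⁻¹ * k⁻¹ = (l * (x * k * x⁻¹) * l⁻¹ * (x * k * x⁻¹)⁻¹) * (x * k * x⁻¹ * k⁻¹) := by group
    rw [e]
    exact mul_mem (hl.2 _ (conj_mem_of_normalizer (I.U_J (I.Q1_U hx)) hk.1)) (hkQ x hx)
  -- `n1` commutes with `k`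
  have hn1 : n1 * k = k * n1 := by
    have h1 : n1 * k * n1⁻¹ * k⁻¹ = 1 := by
      refine I.fixV _ (hkL n1 I.n1_mem) fun h hh => ?_
      have h2 : n1⁻¹ * h * n1 ∈ H ⊓ L1 := mem_inf.2
        ⟨conj_inv_mem_of_normalizer I.n1_H hh.1, mul_mem (mul_mem (inv_mem I.n1_mem) hh.2) I.n1_mem⟩
      have h3 := hkH _ h2
      have h4 : h * k⁻¹ = k⁻¹ * h := by
        have := hkH h hh
        calc h * k⁻¹ = k⁻¹ * (k * h) * k⁻¹ := by group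
          _ = k⁻¹ * (h * k) * k⁻¹ := by rw [this]
          _ = k⁻¹ * h := by group
      calc h * (n1 * k * n1⁻¹ * k⁻¹) = n1 * ((n1⁻¹ * h * n1) * k) * n1⁻¹ * k⁻¹ := by group
        _ = n1 * (k * (n1⁻¹ * h * n1)) * n1⁻¹ * k⁻¹ := by rw [h3]
        _ = n1 * k * n1⁻¹ * (h * k⁻¹) := by group
        _ = n1 * k * n1⁻¹ * k⁻¹ * h := by rw [h4]; group
    calc n1 * k = (n1 * k * n1⁻¹ * k⁻¹) * k * n1 := by group
      _ = k * n1 := by rw [h1, one_mul]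
  have hf : ∀ f ∈ cj n2 Y, f * k = k * f := fun f hf => I.f_T hf hk.2
  -- `[Q1, k]`
  have hgen : ∀ g : G, (∀ x ∈ Q1, g * x * g⁻¹ ∈ Q1) → g * k = k * g → ∀ i ∈ I.comK k hkQ, g * i * g⁻¹ ∈ I.comK k hkQ := by
    rintro g hg hgk _ ⟨x, hx, rfl⟩
    refine ⟨g * x * g⁻¹, hg x hx, ?_⟩
    have h2 : g⁻¹ * k = k * g⁻¹ := by
      calc g⁻¹ * k = g⁻¹ * (k * g) * g⁻¹ := by group
        _ = g⁻¹ * (g * k) * g⁻¹ := by rw [hgk]
        _ = k * g⁻¹ := by group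
    have h3 : k⁻¹ * g⁻¹ = g⁻¹ * k⁻¹ := by rw [← mul_inv_rev, ← mul_inv_rev, hgk]
    calc g * (x * k * x⁻¹ * k⁻¹) * g⁻¹ = g * x * k * x⁻¹ * (k⁻¹ * g⁻¹) := by group
      _ = g * x * k * x⁻¹ * (g⁻¹ * k⁻¹) := by rw [h3]
      _ = g * x * (g⁻¹ * g) * k * x⁻¹ * g⁻¹ * k⁻¹ := by group
      _ = g * x * g⁻¹ * (g * k) * x⁻¹ * g⁻¹ * k⁻¹ := by group
      _ = g * x * g⁻¹ * (k * g) * x⁻¹ * g⁻¹ * k⁻¹ := by rw [hgk]
      _ = g * x * g⁻¹ * k * (g * x * g⁻¹)⁻¹ * k⁻¹ := by group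
  have hIV : I.comK k hkQ ≤ V := by
    rintro _ ⟨x, hx, rfl⟩
    exact hkQ x hx
  have hIU : U ≤ normalizer (I.comK k hkQ : Set G) := by
    intro u hu
    obtain ⟨f, hf', x, hx, rfl⟩ := I.exists_mul hu
    refine mul_mem (mem_normalizer_of_conj (hgen f (fun x hx => conj_mem_of_normalizer (I.U_Q1 (I.cj_Y_U hf')) hx)
      (hf f hf'))) (mem_normalizer_of_conj fun i hi => ?_)
    rw [← I.V_comm i (hIV hi) x hx, mul_inv_cancel_right]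
    exact hi
  have hIL : L1 ≤ normalizer (I.comK k hkQ : Set G) :=
    I.L1_le_of hIU (mem_normalizer_of_conj (hgen n1 (fun x hx => conj_mem_of_normalizer I.n1_Q1 hx) hn1))
  rcases I.irrV _ hIV hIL with h | h
  · -- `k` is central
    have hkx : ∀ x ∈ Q1, x * k = k * x := by
      intro x hx
      have h1 : x * k * x⁻¹ * k⁻¹ ∈ I.comK k hkQ := ⟨x, hx, rfl⟩
      rw [h, mem_bot] at h1
      calc x * k = (x * k * x⁻¹ * k⁻¹) * k * x := by group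
        _ = k * x := by rw [h1, one_mul]
    have hU : U ≤ centralizer {k} := by
      intro u hu
      obtain ⟨f, hf', x, hx, rfl⟩ := I.exists_mul hu
      exact mul_mem (mem_centralizer_singleton_iff.2 (hf f hf')) (mem_centralizer_singleton_iff.2 (hkx x hx))
    have hL1 : L1 ≤ centralizer {k} := I.L1_le_of hU (mem_centralizer_singleton_iff.2 hn1)
    have hL2 : L2 ≤ centralizer {k} := I.gen2 _ hU (mem_centralizer_singleton_iff.2 (I.n2_T hk.2))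
    have hc : centralizer {k} ≤ normalizer (zpowers k : Set G) := by
      intro g hg
      refine mem_normalizer_of_conj fun x hx => ?_
      obtain ⟨m, rfl⟩ := mem_zpowers_iff.1 hx
      have h1 : Commute g (k ^ m) := Commute.zpow_right (mem_centralizer_singleton_iff.1 hg) m
      rw [h1.eq, mul_inv_cancel_right]
      exact zpow_mem_zpowers k m
    have h1 := I.core (zpowers k) (by rw [zpowers_le]; exact I.Q1_U hkQ1) (hL1.trans hc) (hL2.trans hc)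
    rw [zpowers_eq_bot] at h1
    exact hkV (h1 ▸ one_mem _)
  · -- `|V : Z| ≤ |Q1 : V T|`
    let θ : Q1 →* V :=
      { toFun := fun x => ⟨x * k * (x : G)⁻¹ * k⁻¹, hkQ x x.2⟩
        map_one' := Subtype.ext (by simp)
        map_mul' := fun x y => Subtype.ext (by
          have h1 := I.V_comm _ (hkQ y y.2) x x.2
          have h2 := I.V_ab (hkQ x x.2) (hkQ y y.2)
          change (x : G) * y * k * (x * y : G)⁻¹ * k⁻¹ = (x * k * (x : G)⁻¹ * k⁻¹) * (y * k * (y : G)⁻¹ * k⁻¹)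
          calc (x : G) * y * k * (x * y : G)⁻¹ * k⁻¹ = (x * (y * k * (y : G)⁻¹ * k⁻¹)) * k * (x : G)⁻¹ * k⁻¹ := by group
            _ = ((y * k * (y : G)⁻¹ * k⁻¹) * x) * k * (x : G)⁻¹ * k⁻¹ := by rw [h1]
            _ = (y * k * (y : G)⁻¹ * k⁻¹) * (x * k * (x : G)⁻¹ * k⁻¹) := by group
            _ = _ := h2.symm) }
    have hθ : Function.Surjective θ := by
      rintro ⟨v, hv⟩
      rw [← h] at hv
      obtain ⟨x, hx, rfl⟩ := hv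
      exact ⟨⟨x, hx⟩, rfl⟩
    have h1 : (𝐖).subgroupOf Q1 ≤ (Z.subgroupOf V).comap θ := by
      intro x hx
      obtain ⟨v, hv, t, ht, e⟩ := I.mem_VT (mem_subgroupOf.1 hx)
      rw [mem_comap, mem_subgroupOf]
      change (x : G) * k * (x : G)⁻¹ * k⁻¹ ∈ Z
      rw [← I.T_inf_V]
      refine ⟨?_, hkQ x x.2⟩
      have h2 := I.V_comm v hv k hkQ1
      have e2 : (x : G) * k * (x : G)⁻¹ * k⁻¹ = v * (t * k * t⁻¹ * k⁻¹) * v⁻¹ := by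
        rw [e]
        have h3 : v⁻¹ * k⁻¹ = k⁻¹ * v⁻¹ := by rw [← mul_inv_rev, ← mul_inv_rev, h2]
        calc v * t * k * (v * t)⁻¹ * k⁻¹ = v * t * k * t⁻¹ * (v⁻¹ * k⁻¹) := by group
          _ = v * t * k * t⁻¹ * (k⁻¹ * v⁻¹) := by rw [h3]
          _ = v * (t * k * t⁻¹ * k⁻¹) * v⁻¹ := by group
      rw [e2]
      have h4 : t * k * t⁻¹ * k⁻¹ ∈ TT Q2 V n2 := mul_mem (mul_mem (mul_mem ht hk.2) (inv_mem ht)) (inv_mem hk.2)
      exact conj_mem_of_normalizer (I.V_T_n hv) h4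
    have h2 := index_antitone h1
    rw [index_comap_of_surjective _ hθ] at h2
    have h3 : Z.relIndex V = q ^ 3 := by
      have h4 := card_mul_rel I.Z_V
      rw [I.card_Z, I.card_V, pow_succ' q 3] at h4
      exact Nat.eq_of_mul_eq_mul_left I.q_pos h4
    have h4 : Z.relIndex V ≤ (𝐖 : Subgroup G).relIndex Q1 := h2
    rw [h3, I.W_rel, pow_succ] at h4
    have h5 := Nat.le_of_mul_le_mul_left (h4.trans (mul_one _).ge) (pow_pos I.q_pos 2)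
    have := I.q4
    omega

end Inp

end Cfsg.Agent.RankTwoClose.UFive
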