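import Cfsg.Agent.RankTwoClose.UFive.LLin

/-!
# `U₅(q)`: the side `L` from THEOREM UNI, part 3: `PanOf.Abs`

* `point` : the isotropic vectors; `Sw n₀` : `n₀ ∈ L` swaps `e₀` and `f₀` (`exists_sw`);
* `move` : for `c ∈ N(R)`: `UU^c` is `UU` or `UU^(u n₀)`;
* `exists_tor` : the torus `diag(c, sg c / c, (sg c)⁻¹)`;
* `abs` : `PanOf.Abs L UU Q n₀`.
-/

set_option autoImplicit false
set_option linter.unusedSectionVars false

open Subgroup

namespace Cfsg.Agent.RankTwoClose.UFive.LSide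

open Cfsg.Agent.Omega.NOne.SU
open Cfsg.Agent.RankTwoClose.UFour (cj cj_mul cj_inv_cj cj_cj_inv cj_one)

variable {G : Type*} [Group G] {k F : Type*} [Field k] [Field F] [Algebra k F]

section

variable {T : Quad k F} {S : Sylow 2 G} {V R Q Q' : Subgroup G} {v : k → F → k → G} {p p' : G → F}
    {Φ : Type*} [AddCommGroup Φ] [Module F Φ] {φ χ : G → Φ} {hm : Φ → Φ → F}
    {W : Type*} [AddCommGroup W] [Module F W] {w : G → W} {g : W → W → F} {f₀ : W}
    {ι : Φ →ₗ[F] W} (D : Out T V R Q Q' v p φ χ hm w g f₀ ι) (I : GIn T S V R Q Q' v p p')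
    {x₀ : Φ} (hx : ∀ x : Φ, ∃ s : F, x = s • x₀) (hne : x₀ ≠ 0)

include D hx in
theorem aniso {x : Φ} (h : hm x x = 0) : x = 0 := by
  by_contra hx0
  obtain ⟨s, rfl⟩ := hx x
  have hs : s ≠ 0 := by
    rintro rfl
    exact hx0 (zero_smul _ _)
  rw [hm_smul D, hm_smul_right D] at h
  have h1 : hm x₀ x₀ = 0 := by
    rcases mul_eq_zero.1 h with h | h
    · exact absurd h hs
    rcases mul_eq_zero.1 h with h | h
    · exact absurd h (T.sg_ne' hs)
    · exact h
  apply hx0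
  apply D.hm_nondeg
  intro u
  obtain ⟨t, rfl⟩ := hx u
  rw [hm_smul D, hm_smul_right D, h1, mul_zero, mul_zero]

include D hx hne in
/-- the norm form is universal -/
theorem exists_hm [CharP k 2] (a : k) : ∃ x : Φ, hm x x = algebraMap k F a := by
  have hk := T.fink
  obtain ⟨κ, hκ⟩ := T.fix _ (hm_sym D x₀ x₀).symm
  have hκ0 : κ ≠ 0 := by
    rintro rfl
    rw [map_zero] at hκ
    exact hne (aniso D hx hκ.symm)
  have hsq : ∃ b : k, b * b = a / κ := by
    have hinj : Function.Injective (fun b : k => b * b) := by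
      intro b c hbc
      have h1 : (b + c) * (b + c) = 0 := by
        have h2 : b * b = c * c := hbc
        have h3 : (b + c) * (b + c) = b * b + c * c + (b * c + b * c) := by ring
        rw [h3, h2, CharTwo.add_self_eq_zero, CharTwo.add_self_eq_zero, add_zero]
      exact CharTwo.add_eq_zero.1 (mul_self_eq_zero.1 h1)
    exact Finite.surjective_of_injective hinj (a / κ)
  obtain ⟨b, hb⟩ := hsq
  refine ⟨algebraMap k F b • x₀, ?_⟩
  rw [hm_smul D, hm_smul_right D, T.sg_alg, ← hκ, ← map_mul, ← map_mul, ← mul_assoc, hb,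
    div_mul_cancel₀ _ hκ0]

include D hx in
/-- **the isotropic vectors** -/
theorem point [CharP k 2] {m : W} (hm0 : m ≠ 0) (hmm : g m m = 0) :
    (∃ s : F, s ≠ 0 ∧ m = s • w (v 0 1 0)) ∨ ∃ (x : Φ) (r b : F), b ≠ 0 ∧ r + T.sg r = hm x x ∧
      g m (w (v 0 1 0)) = b ∧ m = b • (f₀ + ι x + r • w (v 0 1 0)) := by
  obtain ⟨x', hd⟩ := D.decomp m
  set a := g m f₀ with ha
  set b := g m (w (v 0 1 0)) with hb
  have h1 : g m m = a * T.sg b + hm x' x' + b * T.sg a := by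
    have h3 : g (w (v 0 1 0)) m = T.sg b := D.g_sym _ _
    have h4 : g f₀ m = T.sg a := D.g_sym _ _
    have h5 : g (ι x') m = hm x' x' := by
      rw [D.g_sym m (ι x')]
      have : g m (ι x') = hm x' x' := by
        rw [hd, D.g_add, D.g_add, D.g_smul, D.g_smul, D.g_eι, D.g_fι, D.g_ιι]; ring
      rw [this, ← hm_sym D]
    conv_lhs => rw [hd]
    rw [D.g_add, D.g_add, D.g_smul, D.g_smul]
    rw [← hd, h3, h4, h5]
  rw [hmm] at h1
  by_cases hb0 : b = 0
  · left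
    rw [hb0, map_zero, mul_zero, zero_mul, zero_add, add_zero] at h1
    have hx' := aniso D hx h1.symm
    rw [hb0, hx', map_zero, zero_smul, add_zero, add_zero] at hd
    refine ⟨a, ?_, hd⟩
    intro ha0
    rw [ha0, zero_smul] at hd
    exact hm0 hd
  · right
    have hsb : T.sg b ≠ 0 := T.sg_ne' hb0
    refine ⟨b⁻¹ • x', b⁻¹ * a, b, hb0, ?_, rfl, ?_⟩
    · rw [map_mul, map_inv₀, hm_smul D, hm_smul_right D, map_inv₀]
      have h2 : hm x' x' = a * T.sg b + b * T.sg a := by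
        have h3 := T.two_F (a * T.sg b + b * T.sg a)
        linear_combination -h3 - h1
      rw [h2]
      field_simp
    · rw [smul_add, smul_add, smul_smul, mul_inv_cancel_left₀ hb0, map_smul, smul_smul, mul_inv_cancel₀ hb0,
        one_smul]
      conv_lhs => rw [hd]
      abel

/-! ### The swap -/

/-- conjugates of the transvections -/
theorem rho_tv_conj [CharP k 2] {c : G} (hc : c ∈ Lin D I) (d : k) (m : W) :
    D.rho (c * v 0 0 d * c⁻¹) m =
      m + (algebraMap k F d * g m (D.rho c (w (v 0 1 0)))) • D.rho c (w (v 0 1 0)) := by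
  have hcN := Lin_NR D I hc
  have hv := I.CR_NR (I.V_CR (I.v_mem 0 0 d))
  rw [D.rho_mul I (mul_mem hcN hv) (inv_mem hcN), D.rho_mul I hcN hv, D.rho_tv I, D.rho_add I hcN,
    D.rho_inv_right I hcN, rho_smul D I hc]
  congr 3
  rw [← g_rho D I hc, D.rho_inv_right I hcN]

/-- `n₀ ∈ L` swaps `e₀` and `f₀` -/
structure Sw (D : Out T V R Q Q' v p φ χ hm w g f₀ ι) (n₀ : G) : Prop where
  mem : n₀ ∈ LL V R Q Q'
  e : D.rho n₀ (w (v 0 1 0)) = f₀
  f : D.rho n₀ f₀ = w (v 0 1 0)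
  i : ∀ x, D.rho n₀ (ι x) = ι x

include I in
/-- the swap exists -/
theorem exists_sw [CharP k 2] : ∃ n₀, Sw D n₀ := by
  obtain ⟨c, hc, s, hs0, hs⟩ := exists_tran D I D.f_ne D.g_ff
  have hcN := Lin_NR D I hc
  set d : k := (T.nm s)⁻¹ with hd
  have hnm := T.nm_ne hs0
  set y := c * v 0 0 d * c⁻¹ with hy
  have hyL : y ∈ LL V R Q Q' := subset_closure ⟨c, hcN, _, V_le_UU I (I.v_mem 0 0 d), rfl⟩
  have hvL : v 0 0 1 ∈ LL V R Q Q' := UU_le_LL V R Q Q' (V_le_UU I (I.v_mem 0 0 1))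
  have hyN : y ∈ normalizer (R : Set G) := LL_NR D I hyL
  have hvN : v 0 0 1 ∈ normalizer (R : Set G) := LL_NR D I hvL
  have ry : ∀ m, D.rho y m = m + g m f₀ • f₀ := by
    intro m
    rw [hy, rho_tv_conj D I hc, hs, D.g_smul_right, smul_smul]
    congr 2
    have h1 : algebraMap k F d * (s * T.sg s) = 1 := by
      rw [← T.nm_eq, ← map_mul, hd, inv_mul_cancel₀ hnm, map_one]
    linear_combination g m f₀ * h1
  have rv : ∀ m, D.rho (v 0 0 1) m = m + g m (w (v 0 1 0)) • w (v 0 1 0) := by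
    intro m
    rw [D.rho_tv I, map_one, one_mul]
  have h : ∀ m, D.rho (v 0 0 1 * y * v 0 0 1) m = D.rho (v 0 0 1) (D.rho y (D.rho (v 0 0 1) m)) := by
    intro m
    rw [D.rho_mul I (mul_mem hvN hyN) hvN, D.rho_mul I hvN hyN]
  have r1 : D.rho (v 0 0 1) (w (v 0 1 0)) = w (v 0 1 0) := by rw [rv, D.g_ee, zero_smul, add_zero]
  have r2 : D.rho (v 0 0 1) f₀ = f₀ + w (v 0 1 0) := by rw [rv, D.g_fe, one_smul]
  have r3 : D.rho y (w (v 0 1 0)) = w (v 0 1 0) + f₀ := by rw [ry, D.g_ef, one_smul]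
  have r4 : D.rho y (f₀ + w (v 0 1 0)) = w (v 0 1 0) := by
    rw [ry, D.g_add, D.g_ff, D.g_ef, zero_add, one_smul, add_comm f₀, add_assoc, two_W D, add_zero]
  have r5 : D.rho (v 0 0 1) (w (v 0 1 0) + f₀) = f₀ := by
    rw [rv, D.g_add, D.g_ee, D.g_fe, zero_add, one_smul, add_comm (w (v 0 1 0)) f₀, add_assoc, two_W D,
      add_zero]
  refine ⟨v 0 0 1 * y * v 0 0 1, mul_mem (mul_mem hvL hyL) hvL, ?_, ?_, ?_⟩
  · rw [h, r1, r3, r5]
  · rw [h, r2, r4, r1]
  · intro x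
    have r6 : D.rho (v 0 0 1) (ι x) = ι x := by rw [rv, D.g_ιe, zero_smul, add_zero]
    have r7 : D.rho y (ι x) = ι x := by rw [ry, D.g_ιf, zero_smul, add_zero]
    rw [h, r6, r7, r6]

variable {n₀ : G} (N : Sw D n₀)

include N I in
theorem sw_NR [CharP k 2] : n₀ ∈ normalizer (R : Set G) := LL_NR D I N.mem

include N I in
theorem sw_inv [CharP k 2] (m : W) : D.rho n₀⁻¹ m = D.rho n₀ m := by
  have hN := sw_NR D I N
  have hL : n₀ ∈ Lin D I := LL_le_Lin D I N.mem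
  have h2 : ∀ m, D.rho n₀ (D.rho n₀ m) = m := by
    intro m
    obtain ⟨a, x, b, rfl⟩ := D.span m
    simp only [D.rho_add I hN, rho_smul D I hL, N.e, N.f, N.i]
  rw [← h2 (D.rho n₀⁻¹ m), D.rho_inv_right I hN]

include N I in
/-- the transvections with centre `f₀` -/
theorem rho_tv_sw [CharP k 2] (d : k) (m : W) :
    D.rho (n₀ * v 0 0 d * n₀⁻¹) m = m + (algebraMap k F d * g m f₀) • f₀ := by
  rw [rho_tv_conj D I (LL_le_Lin D I N.mem), N.e]

include I hx N in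
/-- **the conjugates of `UU`** -/
theorem move [CharP k 2] (Fd : Fld T V R Q Q' v p φ χ) {c : G} (hc : c ∈ normalizer (R : Set G)) :
    cj c (UU V Q Q') = UU V Q Q' ∨ ∃ u ∈ UU V Q Q', cj c (UU V Q Q') = cj (u * n₀) (UU V Q Q') := by
  obtain ⟨m, hm0, hmm, h⟩ := D.pt c hc
  obtain ⟨s, hs⟩ := h 1
  rw [← D.rho_w I hc (I.E_le _ _)] at hs
  have hm' : D.rho c (w (v 0 1 0)) ≠ 0 := by
    intro h0
    apply D.e_ne
    rw [← D.rho_inv_left I hc (w (v 0 1 0)), h0, D.rho_zero I (inv_mem hc)]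
  have hmm' : g (D.rho c (w (v 0 1 0))) (D.rho c (w (v 0 1 0))) = 0 := by
    rw [hs, D.g_smul, D.g_smul_right, hmm, mul_zero, mul_zero]
  rcases point D hx hm' hmm' with ⟨t, -, ht⟩ | ⟨x, r, b, -, hr, -, ht⟩
  · left
    exact norm_UU D I hc ⟨t, ht⟩
  · right
    obtain ⟨u, hu, hju⟩ := exists_jm D I Fd hr
    have huU : u ∈ UU V Q Q' := NN_le_UU hu
    have huN := UU_NR I huU
    have hnN := sw_NR D I N
    refine ⟨u, huU, ?_⟩
    have h1 : D.rho (u * n₀) (w (v 0 1 0)) = f₀ + ι x + r • w (v 0 1 0) := by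
      rw [D.rho_mul I huN hnN, N.e, hju, jm_f D]
    have hl : u * n₀ ∈ Lin D I := mul_mem (UU_le_Lin D I huU) (LL_le_Lin D I N.mem)
    have hlN := Lin_NR D I hl
    have h2 : D.rho ((u * n₀)⁻¹ * c) (w (v 0 1 0)) = b • w (v 0 1 0) := by
      rw [D.rho_mul I (inv_mem hlN) hc, ht, ← h1, rho_smul D I (inv_mem hl), D.rho_inv_left I hlN]
    have h3 := norm_UU D I (mul_mem (inv_mem hlN) hc) ⟨b, h2⟩
    have h4 := congrArg (cj (u * n₀)) h3
    rwa [← cj_mul, mul_inv_cancel_left] at h4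

/-! ### The torus -/

include hx hne in
/-- the diagonal elements of determinant one -/
theorem diag_of {c : G} (hc : c ∈ Lin D I) (hd : dt D I ⟨c, hc⟩ = 1) {a b : F}
    (ha : D.rho c (w (v 0 1 0)) = a • w (v 0 1 0)) (hb : D.rho c f₀ = b • f₀) :
    a ≠ 0 ∧ b = (T.sg a)⁻¹ ∧ ∀ x, D.rho c (ι x) = (T.sg a * a⁻¹) • ι x := by
  have hcN := Lin_NR D I hc
  have ha0 : a ≠ 0 := by
    rintro rfl
    rw [zero_smul] at ha
    apply D.e_ne
    rw [← D.rho_inv_left I hcN (w (v 0 1 0)), ha, D.rho_zero I (inv_mem hcN)]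
  have hsa : T.sg a ≠ 0 := T.sg_ne' ha0
  have h1 : b * T.sg a = 1 := by
    have h2 := g_rho D I hc f₀ (w (v 0 1 0))
    rw [ha, hb, D.g_smul, D.g_smul_right, D.g_fe, mul_one] at h2
    exact h2
  have hb' : b = (T.sg a)⁻¹ := eq_inv_of_mul_eq_one_left h1
  have hb0 : b ≠ 0 := by rw [hb']; exact inv_ne_zero hsa
  -- `rho c (ι x₀)` is in `ι Φ`
  have h3 : g (D.rho c (ι x₀)) (w (v 0 1 0)) = 0 := by
    have h2 := g_rho D I hc (ι x₀) (w (v 0 1 0))
    rw [ha, D.g_smul_right, D.g_ιe] at h2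
    exact (mul_eq_zero.1 h2).resolve_left hsa
  have h4 : g (D.rho c (ι x₀)) f₀ = 0 := by
    have h2 := g_rho D I hc (ι x₀) f₀
    rw [hb, D.g_smul_right, D.g_ιf] at h2
    exact (mul_eq_zero.1 h2).resolve_left (T.sg_ne' hb0)
  obtain ⟨y, hy⟩ := D.decomp (D.rho c (ι x₀))
  rw [h3, h4, zero_smul, zero_smul, zero_add, add_zero] at hy
  obtain ⟨μ, rfl⟩ := hx y
  rw [map_smul] at hy
  have h5 := dt_diag D I hx hne hc ha hy hb
  rw [hd] at h5
  have hμ : μ = T.sg a * a⁻¹ := by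
    have h6 : a * μ = T.sg a := by
      have : a * μ * b * T.sg a = T.sg a := by rw [← h5, one_mul]
      rwa [mul_assoc (a * μ), h1, mul_one] at this
    rw [← h6]
    field_simp
  refine ⟨ha0, hb', fun x => ?_⟩
  obtain ⟨s, rfl⟩ := hx x
  rw [map_smul, rho_smul D I hc, hy, hμ, smul_smul, smul_smul, mul_comm]

include I hx hne N in
/-- **the torus** -/
theorem exists_tor [CharP k 2] (Fd : Fld T V R Q Q' v p φ χ) {c : F} (hc : c ≠ 0) :
    ∃ t ∈ LL V R Q Q', D.rho t (w (v 0 1 0)) = c • w (v 0 1 0) ∧ D.rho t f₀ = (T.sg c)⁻¹ • f₀ ∧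
      ∀ x, D.rho t (ι x) = (T.sg c * c⁻¹) • ι x := by
  have hsc := T.sg_ne' hc
  obtain ⟨x, hxc⟩ := exists_hm D hx hne (T.tr c)
  rw [T.tr_eq] at hxc
  obtain ⟨u, hu, hju⟩ := exists_jm D I Fd hxc.symm
  have hr' : c⁻¹ + T.sg c⁻¹ = hm (c⁻¹ • x) (c⁻¹ • x) := by
    rw [hm_smul D, hm_smul_right D, hxc, map_inv₀]
    field_simp
    ring
  obtain ⟨u', hu', hju'⟩ := exists_jm D I Fd hr'
  have hnL := N.mem
  have hnN := sw_NR D I N
  have hnLin := LL_le_Lin D I N.mem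
  have huL : u ∈ LL V R Q Q' := UU_le_LL V R Q Q' (NN_le_UU hu)
  have hu'L : u' ∈ LL V R Q Q' := UU_le_LL V R Q Q' (NN_le_UU hu')
  have huN := LL_NR D I huL
  have hu'N := LL_NR D I hu'L
  set u'' := n₀ * u' * n₀⁻¹ with hu''
  have hu''L : u'' ∈ LL V R Q Q' := mul_mem (mul_mem hnL hu'L) (inv_mem hnL)
  have hu''N := LL_NR D I hu''L
  have hu''Lin := LL_le_Lin D I hu''L
  have e1 : D.rho u f₀ = f₀ + ι x + c • w (v 0 1 0) := by rw [hju, jm_f D]
  have e2 : D.rho u'' (c • w (v 0 1 0)) = f₀ + ι x + c • w (v 0 1 0) := by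
    have e3 : D.rho u'' (w (v 0 1 0)) = w (v 0 1 0) + ι (c⁻¹ • x) + c⁻¹ • f₀ := by
      rw [hu'', D.rho_mul I (mul_mem hnN hu'N) (inv_mem hnN), D.rho_mul I hnN hu'N, sw_inv D I N, N.e, hju',
        jm_f D, D.rho_add I hnN, D.rho_add I hnN, rho_smul D I hnLin, N.f, N.i, N.e]
    rw [rho_smul D I hu''Lin, e3, smul_add, smul_add, map_smul, smul_smul, smul_smul, mul_inv_cancel₀ hc,
      one_smul, one_smul]
    abel
  set t' := u''⁻¹ * u * n₀ with ht'
  have ht'L : t' ∈ LL V R Q Q' := mul_mem (mul_mem (inv_mem hu''L) huL) hnL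
  have ht'Lin := LL_le_Lin D I ht'L
  have ht'N := LL_NR D I ht'L
  have e4 : D.rho t' (w (v 0 1 0)) = c • w (v 0 1 0) := by
    rw [ht', D.rho_mul I (mul_mem (inv_mem hu''N) huN) hnN, D.rho_mul I (inv_mem hu''N) huN, N.e, e1, ← e2,
      D.rho_inv_left I hu''N]
  have h5 : g (D.rho t' f₀) (w (v 0 1 0)) = (T.sg c)⁻¹ := by
    have h6 := g_rho D I ht'Lin f₀ (w (v 0 1 0))
    rw [e4, D.g_smul_right, D.g_fe] at h6
    rw [← mul_right_inj' hsc, h6, mul_inv_cancel₀ hsc]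
  have h6 : g (D.rho t' f₀) (D.rho t' f₀) = 0 := by rw [g_rho D I ht'Lin, D.g_ff]
  have h7 : D.rho t' f₀ ≠ 0 := by
    intro h0
    rw [h0, D.g_zero_left] at h5
    exact inv_ne_zero hsc h5.symm
  rcases point D hx h7 h6 with ⟨s, -, hs⟩ | ⟨y, r, b, -, hr, hb, hy⟩
  · exfalso
    rw [hs, D.g_smul, D.g_ee, mul_zero] at h5
    exact inv_ne_zero hsc h5.symm
  · rw [h5] at hb
    obtain ⟨u₃, hu₃, hju₃⟩ := exists_jm D I Fd hr
    have hu₃L : u₃ ∈ LL V R Q Q' := UU_le_LL V R Q Q' (NN_le_UU hu₃)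
    have hu₃N := LL_NR D I hu₃L
    have hu₃Lin := LL_le_Lin D I hu₃L
    have htL : u₃⁻¹ * t' ∈ LL V R Q Q' := mul_mem (inv_mem hu₃L) ht'L
    have e7 : D.rho (u₃⁻¹ * t') (w (v 0 1 0)) = c • w (v 0 1 0) := by
      have e8 : D.rho u₃ (w (v 0 1 0)) = w (v 0 1 0) := by rw [hju₃, jm_e D]
      have e9 : D.rho u₃⁻¹ (w (v 0 1 0)) = w (v 0 1 0) := by
        have := D.rho_inv_left I hu₃N (w (v 0 1 0))
        rwa [e8] at this
      rw [D.rho_mul I (inv_mem hu₃N) ht'N, e4, rho_smul D I (inv_mem hu₃Lin), e9]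
    have e8 : D.rho (u₃⁻¹ * t') f₀ = (T.sg c)⁻¹ • f₀ := by
      have e9 : D.rho u₃ f₀ = f₀ + ι y + r • w (v 0 1 0) := by rw [hju₃, jm_f D]
      rw [D.rho_mul I (inv_mem hu₃N) ht'N, hy, ← e9, rho_smul D I (inv_mem hu₃Lin), D.rho_inv_left I hu₃N, hb]
    obtain ⟨-, -, h9⟩ := diag_of D I hx hne (LL_le_Lin D I htL) (dt_LL D I htL) e7 e8
    exact ⟨_, htL, e7, e8, h9⟩

/-! ### `PanOf.Abs` -/

include I N in
/-- an element of `UU` which stabilises `F f₀` is in `Q` -/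
theorem mem_Q_of_f [CharP k 2] {u : G} (hu : u ∈ UU V Q Q') {s : F} (h : D.rho u f₀ = s • f₀) : u ∈ Q := by
  have _ := N
  obtain ⟨x, r, hr, hj⟩ := rho_UU D I hu
  rw [hj, jm_f D] at h
  have h1 : x = 0 := by
    apply D.hm_nondeg
    intro y
    have h2 := congrArg (fun m => g m (ι y)) h
    simp only [D.g_add, D.g_smul, D.g_fι, D.g_ιι, D.g_eι] at h2
    linear_combination h2
  have h2 : r = 0 := by
    have h2 := congrArg (fun m => g m f₀) h
    simp only [D.g_add, D.g_smul, D.g_ff, D.g_ιf, D.g_ef] at h2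
    linear_combination h2
  apply D.mem_Q_of_rho I (UU_NR I hu)
  intro m
  rw [hj, h1, h2, jm_zero D]

include I N in
/-- normalising `UU^n₀` is stabilising `F f₀` -/
theorem stab_f [CharP k 2] (Fd : Fld T V R Q Q' v p φ χ) {c : G} (hc : c ∈ normalizer (R : Set G))
    (h : cj c (cj n₀ (UU V Q Q')) = cj n₀ (UU V Q Q')) : ∃ s : F, D.rho c f₀ = s • f₀ := by
  have hnN := sw_NR D I N
  have hnLin := LL_le_Lin D I N.mem
  have h1 : cj (n₀⁻¹ * c * n₀) (UU V Q Q') = UU V Q Q' := by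
    rw [cj_mul, cj_mul, h, cj_inv_cj]
  obtain ⟨s, hs⟩ := stab_of_norm D I Fd (mul_mem (mul_mem (inv_mem hnN) hc) hnN) h1
  refine ⟨s, ?_⟩
  rw [D.rho_mul I (mul_mem (inv_mem hnN) hc) hnN, D.rho_mul I (inv_mem hnN) hc, N.e] at hs
  rw [← D.rho_inv_right I hnN (D.rho c f₀), hs, rho_smul D I hnLin, N.e]

include I N in
theorem cj_of_f [CharP k 2] {c : G} (hc : c ∈ normalizer (R : Set G)) (h : ∃ s : F, D.rho c f₀ = s • f₀) :
    cj c (cj n₀ (UU V Q Q')) = cj n₀ (UU V Q Q') := by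
  have hnN := sw_NR D I N
  have hnLin := LL_le_Lin D I N.mem
  obtain ⟨s, hs⟩ := h
  have h1 : D.rho (n₀⁻¹ * c * n₀) (w (v 0 1 0)) = s • w (v 0 1 0) := by
    rw [D.rho_mul I (mul_mem (inv_mem hnN) hc) hnN, D.rho_mul I (inv_mem hnN) hc, N.e, hs,
      rho_smul D I (inv_mem hnLin), sw_inv D I N, N.f]
  have h2 := norm_UU D I (mul_mem (mul_mem (inv_mem hnN) hc) hnN) ⟨s, h1⟩
  have h3 := congrArg (cj n₀) h2
  rwa [← cj_mul, show n₀ * (n₀⁻¹ * c * n₀) = c * n₀ by group, cj_mul] at h3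

include I hx hne N in
/-- **the rank one data of `L`** -/
theorem abs [CharP k 2] (Fd : Fld T V R Q Q' v p φ χ) :
    PanOf.Abs (LL V R Q Q') (UU V Q Q') Q n₀ where
  UL := UU_le_LL V R Q Q'
  QU := Q_le_UU
  LQ := by
    intro c hc
    have hcN := LL_NR D I hc
    rw [mem_normalizer_iff]
    intro x
    refine ⟨fun h => I.nor c hcN x h, fun h => ?_⟩
    have := I.nor_inv hcN h
    simpa [mul_assoc] using this
  two := UU_two D I
  nL := N.mem
  trans := fun c hc => move D I hx N Fd (LL_NR D I hc)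
  ne := by
    intro h
    obtain ⟨s, hs⟩ := stab_of_norm D I Fd (sw_NR D I N) h
    rw [N.e] at hs
    have h1 := D.g_fe
    rw [hs, D.g_smul, D.g_ee, mul_zero] at h1
    exact zero_ne_one h1
  swap := by
    rw [← cj_mul]
    apply norm_UU D I (mul_mem (sw_NR D I N) (sw_NR D I N))
    refine ⟨1, ?_⟩
    rw [D.rho_mul I (sw_NR D I N) (sw_NR D I N), N.e, N.f, one_smul]
  inter := by
    intro u hu h
    obtain ⟨s, hs⟩ := stab_f D I N Fd (UU_NR I hu) h
    exact mem_Q_of_f D I N hu hs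
  fix := by
    intro u hu h
    obtain ⟨b, hb0, hb1⟩ := T.exists_b
    have hbF : algebraMap k F b ≠ 0 := fun h => hb0 ((map_eq_zero _).1 h)
    obtain ⟨t, htL, he, hf, hi⟩ := exists_tor D I hx hne N Fd hbF
    have htN := LL_NR D I htL
    have htLin := LL_le_Lin D I htL
    have huN := UU_NR I hu
    have h1 := h t htL (norm_UU D I htN ⟨_, he⟩) (cj_of_f D I N htN ⟨_, hf⟩)
    -- `t u = (t u t⁻¹ u⁻¹) u t` on `f₀`
    have h2 : D.rho t (D.rho u f₀) = D.rho u (D.rho t f₀) := by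
      have e : t * u = (t * u * t⁻¹ * u⁻¹) * (u * t) := by group
      rw [← D.rho_mul I htN huN, e, D.rho_mul I (I.Q_NR h1) (mul_mem huN htN), D.rho_Q I h1,
        D.rho_mul I huN htN]
    obtain ⟨x, r, hr, hj⟩ := rho_UU D I hu
    have huLin := UU_le_Lin D I hu
    rw [T.sg_alg] at hf hi
    rw [hf, rho_smul D I huLin, hj, jm_f D, D.rho_add I htN, D.rho_add I htN, rho_smul D I htLin, he, hf, hi,
      mul_inv_cancel₀ hbF, one_smul, smul_smul, smul_add, smul_add, smul_smul] at h2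
    have hbi : (algebraMap k F b)⁻¹ ≠ 1 := by
      intro h3
      apply hb1
      have h4 : algebraMap k F b = 1 := inv_eq_one.1 h3
      rw [← map_one (algebraMap k F)] at h4
      exact T.alg_inj h4
    have hx0 : x = 0 := by
      apply D.hm_nondeg
      intro y
      have h3 := congrArg (fun m => g m (ι y)) h2
      simp only [D.g_add, D.g_smul, D.g_fι, D.g_ιι, D.g_eι, mul_zero, zero_add, add_zero] at h3
      have h4 : ((algebraMap k F b)⁻¹ - 1) * hm x y = 0 := by linear_combination -h3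
      exact (mul_eq_zero.1 h4).resolve_left (sub_ne_zero.2 hbi)
    have hr0 : r = 0 := by
      have h3 := congrArg (fun m => g m f₀) h2
      simp only [D.g_add, D.g_smul, D.g_ff, D.g_ιf, D.g_ef, mul_zero, zero_add, add_zero, mul_one] at h3
      by_contra hr0
      have h5 : algebraMap k F b * algebraMap k F b = 1 := by
        have h6 : (algebraMap k F b * algebraMap k F b) * r = r := by
          have h7 : algebraMap k F b * (r * algebraMap k F b) = algebraMap k F b * ((algebraMap k F b)⁻¹ * r) := by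
            rw [h3]
          rw [mul_inv_cancel_left₀ hbF] at h7
          linear_combination h7
        have h7 : (algebraMap k F b * algebraMap k F b - 1) * r = 0 := by rw [sub_mul, h6, one_mul, sub_self]
        exact sub_eq_zero.1 ((mul_eq_zero.1 h7).resolve_right hr0)
      rw [← map_mul, ← map_one (algebraMap k F)] at h5
      have h6 := T.alg_inj h5
      have h7 : (b + 1) * (b + 1) = 0 := by
        have : (b + 1) * (b + 1) = b * b + 1 + (b + b) := by ring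
        rw [this, h6, CharTwo.add_self_eq_zero, CharTwo.add_self_eq_zero, add_zero]
      exact hb1 (CharTwo.add_eq_zero.1 (mul_self_eq_zero.1 h7))
    apply D.mem_Q_of_rho I huN
    intro m
    rw [hj, hx0, hr0, jm_zero D]

end

end Cfsg.Agent.RankTwoClose.UFive.LSide
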