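import Cfsg.Agent.RankTwoClose.UFive.LStab

/-!
# `U₅(q)`: the side `L` from THEOREM UNI, part 2: linear isometries and the group `L`

* `Lin` : the elements of `C_G(R)` which are `F`-linear isometries of `W`; `dt : Lin →* F` the determinant;
* `LL` : the group generated by all `N_G(R)`-conjugates of `UU`; `LL ≤ Lin`, `dt = 1` on `LL`.
-/

set_option autoImplicit false
set_option linter.unusedSectionVars false

open Subgroup

namespace Cfsg.Agent.RankTwoClose.UFive.LSide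

open Cfsg.Agent.Omega.NOne.SU
open Cfsg.Agent.RankTwoClose.UFour (cj)

variable {G : Type*} [Group G] {k F : Type*} [Field k] [Field F] [Algebra k F]

/-- the group generated by the `N_G(R)`-conjugates of `UU` -/
def LL (V R Q Q' : Subgroup G) : Subgroup G :=
  closure {x | ∃ c ∈ normalizer (R : Set G), ∃ u ∈ UU V Q Q', x = c * u * c⁻¹}

theorem conj_LL {V R Q Q' : Subgroup G} {c x : G} (hc : c ∈ normalizer (R : Set G)) (hx : x ∈ LL V R Q Q') :
    c * x * c⁻¹ ∈ LL V R Q Q' := by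
  have h1 : LL V R Q Q' ≤ (LL V R Q Q').comap (MulAut.conj c).toMonoidHom := by
    rw [LL, closure_le]
    rintro _ ⟨d, hd, u, hu, rfl⟩
    change c * (d * u * d⁻¹) * c⁻¹ ∈ LL V R Q Q'
    exact subset_closure ⟨c * d, mul_mem hc hd, u, hu, by group⟩
  exact h1 hx

theorem NR_le_NLL (V R Q Q' : Subgroup G) : normalizer (R : Set G) ≤ normalizer (LL V R Q Q' : Set G) := by
  intro c hc
  rw [mem_normalizer_iff]
  intro x
  refine ⟨fun h => conj_LL hc h, fun h => ?_⟩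
  have := conj_LL (inv_mem hc) h
  simpa [mul_assoc] using this

theorem conj_UU_le {V R Q Q' : Subgroup G} {c : G} (hc : c ∈ normalizer (R : Set G)) :
    cj c (UU V Q Q') ≤ LL V R Q Q' := by
  rintro _ ⟨u, hu, rfl⟩
  exact subset_closure ⟨c, hc, u, hu, rfl⟩

theorem UU_le_LL (V R Q Q' : Subgroup G) : UU V Q Q' ≤ LL V R Q Q' := by
  intro u hu
  exact subset_closure ⟨1, one_mem _, u, hu, by group⟩

section

variable {T : Quad k F} {S : Sylow 2 G} {V R Q Q' : Subgroup G} {v : k → F → k → G} {p p' : G → F}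
    {Φ : Type*} [AddCommGroup Φ] [Module F Φ] {φ χ : G → Φ} {hm : Φ → Φ → F}
    {W : Type*} [AddCommGroup W] [Module F W] {w : G → W} {g : W → W → F} {f₀ : W}
    {ι : Φ →ₗ[F] W} (D : Out T V R Q Q' v p φ χ hm w g f₀ ι) (I : GIn T S V R Q Q' v p p')

/-- the `F`-linear isometries in `C_G(R)` -/
def Lin (D : Out T V R Q Q' v p φ χ hm w g f₀ ι) (I : GIn T S V R Q Q' v p p') : Subgroup G where
  carrier := {c | c ∈ centralizer (R : Set G) ∧ (∀ (s : F) m, D.rho c (s • m) = s • D.rho c m) ∧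
    ∀ m m', g (D.rho c m) (D.rho c m') = g m m'}
  one_mem' := by
    refine ⟨one_mem _, fun s m => ?_, fun m m' => ?_⟩
    · rw [D.rho_one I, D.rho_one I]
    · rw [D.rho_one I, D.rho_one I]
  mul_mem' := by
    rintro a b ⟨ha, ha1, ha2⟩ ⟨hb, hb1, hb2⟩
    have haN := I.CR_NR ha
    have hbN := I.CR_NR hb
    refine ⟨mul_mem ha hb, fun s m => ?_, fun m m' => ?_⟩
    · rw [D.rho_mul I haN hbN, D.rho_mul I haN hbN, hb1, ha1]
    · rw [D.rho_mul I haN hbN, D.rho_mul I haN hbN, ha2, hb2]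
  inv_mem' := by
    rintro a ⟨ha, ha1, ha2⟩
    have haN := I.CR_NR ha
    refine ⟨inv_mem ha, fun s m => ?_, fun m m' => ?_⟩
    · obtain ⟨m, rfl⟩ := D.rho_surj I haN m
      rw [← ha1, D.rho_inv_left I haN, D.rho_inv_left I haN]
    · obtain ⟨m, rfl⟩ := D.rho_surj I haN m
      obtain ⟨m', rfl⟩ := D.rho_surj I haN m'
      rw [D.rho_inv_left I haN, D.rho_inv_left I haN, ha2]

theorem mem_Lin {c : G} : c ∈ Lin D I ↔ c ∈ centralizer (R : Set G) ∧
    (∀ (s : F) m, D.rho c (s • m) = s • D.rho c m) ∧ ∀ m m', g (D.rho c m) (D.rho c m') = g m m' := Iff.rfl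

theorem Lin_CR : Lin D I ≤ centralizer (R : Set G) := fun _ h => h.1

theorem Lin_NR : Lin D I ≤ normalizer (R : Set G) := fun _ h => I.CR_NR h.1

theorem rho_smul {c : G} (hc : c ∈ Lin D I) (s : F) (m : W) : D.rho c (s • m) = s • D.rho c m := hc.2.1 s m

theorem g_rho {c : G} (hc : c ∈ Lin D I) (m m' : W) : g (D.rho c m) (D.rho c m') = g m m' := hc.2.2 m m'

theorem UU_le_Lin [CharP k 2] : UU V Q Q' ≤ Lin D I := by
  intro u hu
  obtain ⟨x, r, hr, h⟩ := rho_UU D I hu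
  refine ⟨UU_CR I hu, fun s m => ?_, fun m m' => ?_⟩
  · rw [h, h, jm_smul D]
  · rw [h, h, g_jm D hr]

theorem exists_tran {m : W} (hm0 : m ≠ 0) (hmm : g m m = 0) :
    ∃ c ∈ Lin D I, ∃ s : F, s ≠ 0 ∧ D.rho c (w (v 0 1 0)) = s • m := by
  obtain ⟨c, hc, h1, h2, s, hs⟩ := D.tran m hm0 hmm
  have hcN := I.CR_NR hc
  refine ⟨c, ⟨hc, fun s m => ?_, fun m m' => ?_⟩, s, ?_, ?_⟩
  · obtain ⟨x, hx, rfl⟩ := D.w_surj m
    obtain ⟨y, hy, e⟩ := D.w_surj (s • w x)
    rw [D.rho_w I hcN hx, ← e, D.rho_w I hcN hy]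
    exact h1 s x hx y hy e
  · obtain ⟨x, hx, rfl⟩ := D.w_surj m
    obtain ⟨y, hy, rfl⟩ := D.w_surj m'
    rw [D.rho_w I hcN hx, D.rho_w I hcN hy]
    exact h2 x hx y hy
  · rintro rfl
    rw [zero_smul, ← D.rho_w I hcN (I.E_le 0 1)] at hs
    apply D.e_ne
    rw [← D.rho_inv_left I hcN (w (v 0 1 0)), hs, D.rho_zero I (inv_mem hcN)]
  · rw [D.rho_w I hcN (I.E_le _ _), hs]

/-- every element of `N(R)` moves `F e₀` like an element of `Lin` -/
theorem exists_Lin {c : G} (hc : c ∈ normalizer (R : Set G)) :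
    ∃ l ∈ Lin D I, ∃ s : F, s ≠ 0 ∧ D.rho (l⁻¹ * c) (w (v 0 1 0)) = s • w (v 0 1 0) := by
  obtain ⟨m, hm0, hmm, h⟩ := D.pt c hc
  obtain ⟨s, hs⟩ := h 1
  rw [← D.rho_w I hc (I.E_le _ _)] at hs
  have hs0 : s ≠ 0 := by
    rintro rfl
    rw [zero_smul] at hs
    apply D.e_ne
    rw [← D.rho_inv_left I hc (w (v 0 1 0)), hs, D.rho_zero I (inv_mem hc)]
  obtain ⟨l, hl, t, ht0, ht⟩ := exists_tran D I hm0 hmm
  have hlN := Lin_NR D I hl
  refine ⟨l, hl, s * t⁻¹, mul_ne_zero hs0 (inv_ne_zero ht0), ?_⟩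
  rw [D.rho_mul I (inv_mem hlN) hc, hs]
  have h1 : s • m = (s * t⁻¹) • (t • m) := by rw [smul_smul, inv_mul_cancel_right₀ ht0]
  rw [h1, rho_smul D I (inv_mem hl), ← ht, D.rho_inv_left I hlN]

theorem LL_le_Lin [CharP k 2] : LL V R Q Q' ≤ Lin D I := by
  rw [LL, closure_le]
  rintro _ ⟨c, hc, u, hu, rfl⟩
  obtain ⟨l, hl, s, -, hs⟩ := exists_Lin D I hc
  have hlN := Lin_NR D I hl
  have h1 := norm_UU D I (mul_mem (inv_mem hlN) hc) ⟨s, hs⟩
  have h2 : (l⁻¹ * c) * u * (l⁻¹ * c)⁻¹ ∈ UU V Q Q' := by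
    rw [← h1]
    exact ⟨u, hu, rfl⟩
  have h3 : c * u * c⁻¹ = l * ((l⁻¹ * c) * u * (l⁻¹ * c)⁻¹) * l⁻¹ := by group
  change c * u * c⁻¹ ∈ Lin D I
  rw [h3]
  exact mul_mem (mul_mem hl (UU_le_Lin D I h2)) (inv_mem hl)

include D I in
theorem LL_CR [CharP k 2] : LL V R Q Q' ≤ centralizer (R : Set G) := (LL_le_Lin D I).trans (Lin_CR D I)

include D I in
theorem LL_NR [CharP k 2] : LL V R Q Q' ≤ normalizer (R : Set G) := (LL_CR D I).trans I.CR_NR

/-! ### The determinant -/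

/-- the linear action -/
noncomputable def lhom (D : Out T V R Q Q' v p φ χ hm w g f₀ ι) (I : GIn T S V R Q Q' v p p') :
    Lin D I →* Module.End F W where
  toFun c :=
    { toFun := D.rho (c : G)
      map_add' := D.rho_add I (Lin_NR D I c.2)
      map_smul' := fun s m => rho_smul D I c.2 s m }
  map_one' := by
    ext m
    exact D.rho_one I m
  map_mul' := by
    intro a b
    ext m
    exact D.rho_mul I (Lin_NR D I a.2) (Lin_NR D I b.2) m

theorem lhom_apply (c : Lin D I) (m : W) : lhom D I c m = D.rho (c : G) m := rfl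

/-- the determinant -/
noncomputable def dt (D : Out T V R Q Q' v p φ χ hm w g f₀ ι) (I : GIn T S V R Q Q' v p p') : Lin D I →* F :=
  (LinearMap.det : (W →ₗ[F] W) →* F).comp (lhom D I)

theorem eq_one_of_pow [CharP F 2] {x : F} {m : ℕ} (h : x ^ 2 ^ m = 1) : x = 1 := by
  have : Fact (Nat.Prime 2) := ⟨Nat.prime_two⟩
  have h1 : (x - 1) ^ 2 ^ m = 0 := by
    rw [sub_pow_char_pow x 1 m, h, one_pow, sub_self]
  exact sub_eq_zero.1 ((pow_eq_zero_iff (by positivity)).1 h1)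

/-- `dt = 1` on the elements of `LL` -/
theorem dt_LL [CharP k 2] {c : G} (hc : c ∈ LL V R Q Q') : dt D I ⟨c, LL_le_Lin D I hc⟩ = 1 := by
  have hF : CharP F 2 := Quad.charF k F
  have h1 : LL V R Q Q' ≤ (dt D I).ker.map (Lin D I).subtype := by
    rw [LL, closure_le]
    rintro _ ⟨c, hc, u, hu, rfl⟩
    have hm : c * u * c⁻¹ ∈ Lin D I := LL_le_Lin D I (subset_closure ⟨c, hc, u, hu, rfl⟩)
    refine ⟨⟨c * u * c⁻¹, hm⟩, ?_, rfl⟩
    change dt D I ⟨c * u * c⁻¹, hm⟩ = 1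
    obtain ⟨n, hn⟩ := UU_two D I ⟨u, hu⟩
    have hn' : u ^ 2 ^ n = 1 := congrArg (fun x : UU V Q Q' => (x : G)) hn
    apply eq_one_of_pow (m := n)
    rw [← map_pow]
    have h2 : (⟨c * u * c⁻¹, hm⟩ : Lin D I) ^ 2 ^ n = 1 := by
      apply Subtype.ext
      change (c * u * c⁻¹) ^ 2 ^ n = 1
      rw [conj_pow, hn', mul_one, mul_inv_cancel]
    rw [h2, map_one]
  obtain ⟨⟨c', hc'⟩, h2, h3⟩ := h1 hc
  change c' = c at h3
  subst h3
  exact h2

/-! ### Dimension one -/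

variable {x₀ : Φ} (hx : ∀ x : Φ, ∃ s : F, x = s • x₀) (hne : x₀ ≠ 0)

include D hx hne in
theorem exists_basis : ∃ b : Module.Basis (Fin 3) F W, b 0 = w (v 0 1 0) ∧ b 1 = ι x₀ ∧ b 2 = f₀ := by
  have hli : LinearIndependent F ![w (v 0 1 0), ι x₀, f₀] := by
    rw [Fintype.linearIndependent_iff]
    intro c hc
    rw [Fin.sum_univ_three] at hc
    simp only [Matrix.cons_val_zero, Matrix.cons_val_one, Matrix.cons_val_two, Matrix.head_cons,
      Matrix.tail_cons] at hc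
    have h0 : c 0 = 0 := by
      have h1 := congrArg (fun m => g m f₀) hc
      simp only [D.g_add, D.g_smul, D.g_ef, D.g_ιf, D.g_ff, D.g_zero_left] at h1
      linear_combination h1
    have h2 : c 2 = 0 := by
      have h1 := congrArg (fun m => g m (w (v 0 1 0))) hc
      simp only [D.g_add, D.g_smul, D.g_ee, D.g_ιe, D.g_fe, D.g_zero_left] at h1
      linear_combination h1
    have h1 : c 1 = 0 := by
      rw [h0, h2, zero_smul, zero_smul, zero_add, add_zero] at hc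
      rcases smul_eq_zero.1 hc with h | h
      · exact h
      · exact absurd (D.ι_inj h) hne
    intro i
    fin_cases i
    · exact h0
    · exact h1
    · exact h2
  have hsp : ⊤ ≤ Submodule.span F (Set.range ![w (v 0 1 0), ι x₀, f₀]) := by
    rintro m -
    obtain ⟨a, x, b, rfl⟩ := D.span m
    obtain ⟨s, rfl⟩ := hx x
    rw [map_smul]
    refine Submodule.add_mem _ (Submodule.add_mem _ ?_ ?_) ?_
    · exact Submodule.smul_mem _ _ (Submodule.subset_span ⟨0, rfl⟩)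
    · exact Submodule.smul_mem _ _ (Submodule.subset_span ⟨1, rfl⟩)
    · exact Submodule.smul_mem _ _ (Submodule.subset_span ⟨2, rfl⟩)
  refine ⟨Module.Basis.mk hli hsp, ?_, ?_, ?_⟩
  · rw [Module.Basis.mk_apply]; rfl
  · rw [Module.Basis.mk_apply]; rfl
  · rw [Module.Basis.mk_apply]; rfl

include hx hne in
/-- the determinant of a diagonal element -/
theorem dt_diag {c : G} (hc : c ∈ Lin D I) {a b d : F} (ha : D.rho c (w (v 0 1 0)) = a • w (v 0 1 0))
    (hb : D.rho c (ι x₀) = b • ι x₀) (hd : D.rho c f₀ = d • f₀) : dt D I ⟨c, hc⟩ = a * b * d := by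
  classical
  obtain ⟨B, h0, h1, h2⟩ := exists_basis D hx hne
  have hM : LinearMap.toMatrix B B (lhom D I ⟨c, hc⟩) = Matrix.diagonal ![a, b, d] := by
    ext i j
    rw [LinearMap.toMatrix_apply]
    have h3 : lhom D I ⟨c, hc⟩ (B j) = (![a, b, d] j) • B j := by
      fin_cases j
      · change D.rho c (B 0) = a • B 0
        rw [h0, ha]
      · change D.rho c (B 1) = b • B 1
        rw [h1, hb]
      · change D.rho c (B 2) = d • B 2
        rw [h2, hd]
    rw [h3, map_smul, Module.Basis.repr_self, Finsupp.smul_apply, Finsupp.single_apply, Matrix.diagonal_apply,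
      smul_eq_mul]
    by_cases hij : i = j
    · subst hij; simp
    · rw [if_neg hij, if_neg (fun h => hij h.symm), mul_zero]
  change LinearMap.det (lhom D I ⟨c, hc⟩) = a * b * d
  rw [← LinearMap.det_toMatrix B, hM, Matrix.det_diagonal, Fin.prod_univ_three]
  rfl

end

end Cfsg.Agent.RankTwoClose.UFive.LSide
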