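import Cfsg.Agent.RankTwoClose.UFive.LFields

/-!
# `U₅(q)`: the side `L` from THEOREM UNI: all fields

`LSide S L U Q V R A n₀ w₀` = the fields of `QInput.QIn` which do not mention `X` and `O`;
`exists_LSide` : `Out`, `GIn`, `Fld` and `dim Φ = 1` give it with `L = LL V R Q Q'` (the group generated by all
`N_G(R)`-conjugates of `U`), `U = UU V Q Q' = Q C_{Q'}(V)`.
-/

set_option autoImplicit false
set_option linter.unusedSectionVars false

open Subgroup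

namespace Cfsg.Agent.RankTwoClose.UFive.LSide

open Cfsg.Agent.Omega.NOne.SU
open Cfsg.Agent.RankTwoClose.UFour (cj mem_norm_iff)

variable {G : Type*} [Group G] {k F : Type*} [Field k] [Field F] [Algebra k F]

/-- The fields of `QInput.QIn` of the side `L`. -/
structure LSide (S : Sylow 2 G) (L U Q V R A : Subgroup G) (n₀ w₀ : G) : Prop where
  aL : PanOf.Abs L U Q n₀
  sL : ∀ P ≤ L, IsPGroup 2 P → U ≤ P → P ≤ U
  US : U ≤ S
  SL : ∀ s ∈ S, ∀ l ∈ L, s * l * s⁻¹ ∈ L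
  NL : normalizer (R : Set G) ≤ normalizer (L : Set G)
  LV : ∀ g ∈ L, cj g U = U → cj g V = V
  /-- `N(R) ∩ N(V)` normalises `U` -/
  NU : ∀ g ∈ normalizer (R : Set G), g ∈ normalizer (V : Set G) → cj g U = U
  /-- `N(R) ∩ N(U)` normalises `V` -/
  NV : ∀ g ∈ normalizer (R : Set G), cj g U = U → cj g V = V
  /-- `N(R) = L (N(R) ∩ N(U))` -/
  tr : ∀ g ∈ normalizer (R : Set G), ∃ l ∈ L, cj (l⁻¹ * g) U = U
  VU : V ≤ U
  LR : ∀ l ∈ L, ∀ z ∈ R, l * z = z * l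
  comm : ⁅Q, Q⁆ = R
  sq : ∀ x ∈ Q, x * x ∈ R
  irr : ∀ N ≤ Q, (∀ l ∈ L, ∀ x ∈ N, l * x * l⁻¹ ∈ N) → N ≤ R ∨ Q ≤ N ⊔ R
  opp : ∀ x ∈ V ⊓ Q, (∀ y ∈ cj n₀ (V ⊓ Q), x * y = y * x) → x ∈ R
  cD : Q.relIndex U ≤ Nat.card ↥((Q ⊓ centralizer (V : Set G)) ⊓ cj n₀ (Q ⊓ centralizer (V : Set G)))
  ruling : ∀ x ∈ V, x ∉ Q → ∃ y ∈ cj n₀ V, cj (x * y * x) (cj n₀ U) = U
  AL : A ≤ L
  AU : A ≤ normalizer (U : Set G)
  Aodd : Odd (Nat.card A)
  Aab : ∀ a ∈ A, ∀ b ∈ A, a * b = b * a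
  AB : ∀ g ∈ L, cj g U = U → g ∈ U ⊔ A
  wQ : w₀ ∈ Q
  cyc : Q ≤ closure {x | ∃ a ∈ A, x = a * w₀ * a⁻¹} ⊔ R
  cent : ∀ s ∈ S, (∀ a ∈ A, a * s = s * a) → s ∈ R

variable {T : Quad k F} {S : Sylow 2 G} {V R Q Q' : Subgroup G} {v : k → F → k → G} {p p' : G → F}
    {Φ : Type*} [AddCommGroup Φ] [Module F Φ] {φ χ : G → Φ} {hm : Φ → Φ → F}
    {W : Type*} [AddCommGroup W] [Module F W] {w : G → W} {g : W → W → F} {f₀ : W}
    {ι : Φ →ₗ[F] W}

/-- **The side `L`**: `dim Φ = 1`. -/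
theorem exists_LSide [Finite G] (D : Out T V R Q Q' v p φ χ hm w g f₀ ι) (I : GIn T S V R Q Q' v p p')
    (Fd : Fld T V R Q Q' v p φ χ) (h1 : Module.finrank F Φ = 1) :
    ∃ (A : Subgroup G) (n₀ w₀ : G), LSide S (LL V R Q Q') (UU V Q Q') Q V R A n₀ w₀ := by
  have hk2 : CharP k 2 := CharTwo.of_one_ne_zero_of_two_eq_zero one_ne_zero I.h2
  obtain ⟨x₀, hne, hx'⟩ := finrank_eq_one_iff'.1 h1
  have hx : ∀ x : Φ, ∃ s : F, x = s • x₀ := fun x => by
    obtain ⟨s, hs⟩ := hx' x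
    exact ⟨s, hs.symm⟩
  obtain ⟨n₀, N⟩ := exists_sw D I
  obtain ⟨A, HA⟩ := exists_A D I hx hne N Fd
  obtain ⟨w₀, hw₀, hcyc⟩ := cyc D I hx hne N HA Fd
  refine ⟨A, n₀, w₀, ?_⟩
  exact
    { aL := abs D I hx hne N Fd
      sL := sylow_LL D I hx hne N Fd
      US := US D I
      SL := SL I
      NL := NR_le_NLL V R Q Q'
      LV := LNV D I Fd
      NU := fun g h1 h2 => norm_of_NV D I h1 h2
      NV := by
        intro c hN h
        obtain ⟨s, hs⟩ := stab_of_norm D I Fd hN h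
        apply mem_norm_iff.1
        apply D.stab c hN
        exact ⟨s, by rw [← hs, D.rho_w I hN (I.E_le _ _)]⟩
      tr := by
        intro c hN
        rcases move D I hx N Fd hN with h | ⟨u, hu, h⟩
        · exact ⟨1, one_mem _, by rw [inv_one, one_mul]; exact h⟩
        · refine ⟨u * n₀, mul_mem (UU_le_LL V R Q Q' hu) N.mem, ?_⟩
          rw [UFour.cj_mul, h, UFour.cj_inv_cj]
      VU := V_le_UU I
      LR := LR D I
      comm := comm_Q D I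
      sq := sq_Q D
      irr := irr D I hx hne N Fd
      opp := opp D I N
      cD := cD D I N
      ruling := ruling D I N
      AL := A_LL D HA
      AU := A_norm D HA
      Aodd := HA.odd
      Aab := A_comm D I hx hne N HA Fd
      AB := fun g hg h => norm_le D I hx hne N HA Fd hg h
      wQ := hw₀
      cyc := hcyc
      cent := cent D I hx hne N HA Fd }

end Cfsg.Agent.RankTwoClose.UFive.LSide
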