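import Cfsg.Agent.Omega.NOne.SU.OutBasic
import Cfsg.Agent.Omega.NOne.SU.QuadFacts
import Cfsg.Agent.Omega.NOne.SU.HermQuad
import Cfsg.Agent.RankTwoClose.PanOf

/-!
# `U₅(q)`: the side `L` from THEOREM UNI, part 1: the stabiliser of a point

`NN = C_{Q'}(V)`, `UU = Q NN`.  `jm x r` is the element of the unipotent radical of the stabiliser of `F e₀`.

* `rho_UU` : the elements of `UU` act as `jm x r`, all of them occur (`exists_jm`);
* `mem_UU` : an element of `N_G(R)` acting as `jm x r` is in `UU`;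
* `norm_UU` : for `c ∈ N_G(R)`: `c` normalises `UU` iff `c` stabilises `F e₀`.
-/

set_option autoImplicit false
set_option linter.unusedSectionVars false

open Subgroup

namespace Cfsg.Agent.RankTwoClose.UFive.LSide

open Cfsg.Agent.Omega.NOne.SU
open Cfsg.Agent.RankTwoClose.UFour (cj)

variable {G : Type*} [Group G] {k F : Type*} [Field k] [Field F] [Algebra k F]

/-- `C_{Q'}(V)` -/
def NN (V Q' : Subgroup G) : Subgroup G := Q' ⊓ centralizer (V : Set G)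

/-- `Q C_{Q'}(V)` -/
def UU (V Q Q' : Subgroup G) : Subgroup G := Q ⊔ NN V Q'

theorem mem_NN {V Q' : Subgroup G} {n : G} : n ∈ NN V Q' ↔ n ∈ Q' ∧ n ∈ centralizer (V : Set G) := mem_inf

/-- the unipotent elements -/
def jm {Φ W : Type*} [AddCommGroup Φ] [Module F Φ] [AddCommGroup W] [Module F W]
    (g : W → W → F) (e₀ : W) (ι : Φ →ₗ[F] W) (x : Φ) (r : F) (m : W) : W :=
  m + g m e₀ • ι x + (g m (ι x) + r * g m e₀) • e₀

section

variable {T : Quad k F} {S : Sylow 2 G} {V R Q Q' : Subgroup G} {v : k → F → k → G} {p p' : G → F}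
    {Φ : Type*} [AddCommGroup Φ] [Module F Φ] {φ χ : G → Φ} {hm : Φ → Φ → F}
    {W : Type*} [AddCommGroup W] [Module F W] {w : G → W} {g : W → W → F} {f₀ : W}
    {ι : Φ →ₗ[F] W} (D : Out T V R Q Q' v p φ χ hm w g f₀ ι) (I : GIn T S V R Q Q' v p p')

/-! ### The form on `Φ` -/

section form
include D

theorem two_W [CharP k 2] (m : W) : m + m = 0 := by
  have _ := D
  have h := T.two_F (1 : F)
  have h1 : ((1 : F) + 1) • m = 0 := by rw [h, zero_smul]
  rwa [add_smul, one_smul] at h1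

theorem eq_of_add [CharP k 2] {m m' : W} (h : m + m' = 0) : m = m' := by
  have h1 := two_W D m'
  exact add_right_cancel (h.trans h1.symm)

theorem hm_sym (x y : Φ) : hm y x = T.sg (hm x y) := by
  rw [← D.g_ιι, ← D.g_ιι, D.g_sym]

theorem hm_add (x x' y : Φ) : hm (x + x') y = hm x y + hm x' y := by
  rw [← D.g_ιι, map_add, D.g_add, D.g_ιι, D.g_ιι]

theorem hm_smul (s : F) (x y : Φ) : hm (s • x) y = s * hm x y := by
  rw [← D.g_ιι, map_smul, D.g_smul, D.g_ιι]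

theorem hm_add_right (x y y' : Φ) : hm x (y + y') = hm x y + hm x y' := by
  rw [← D.g_ιι, map_add, D.g_add_right, D.g_ιι, D.g_ιι]

theorem hm_smul_right (s : F) (x y : Φ) : hm x (s • y) = T.sg s * hm x y := by
  rw [← D.g_ιι, map_smul, D.g_smul_right, D.g_ιι]

theorem hm_zero_left (y : Φ) : hm 0 y = 0 := by
  rw [← D.g_ιι, map_zero, D.g_zero_left]

theorem hm_zero_right (y : Φ) : hm y 0 = 0 := by
  rw [← D.g_ιι, map_zero, D.g_zero_right]

/-- there is `r` with `r + sg r = hm x x` -/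
theorem exists_r [CharP k 2] (x : Φ) : ∃ r : F, r + T.sg r = hm x x := by
  have := T.fink
  have h := hm_sym D x x
  obtain ⟨a, ha⟩ := T.fix _ h.symm
  obtain ⟨θ, hθ⟩ := T.exists_tr_one
  refine ⟨algebraMap k F a * θ, ?_⟩
  rw [map_mul, T.sg_alg, ← mul_add, ← T.tr_eq, hθ, map_one, mul_one, ha]

/-! ### `jm` -/

theorem jm_e (x : Φ) (r : F) : jm g (w (v 0 1 0)) ι x r (w (v 0 1 0)) = w (v 0 1 0) := by
  unfold jm
  rw [D.g_ee, D.g_eι]
  simp only [zero_smul, mul_zero, add_zero]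

theorem jm_f (x : Φ) (r : F) : jm g (w (v 0 1 0)) ι x r f₀ = f₀ + ι x + r • w (v 0 1 0) := by
  unfold jm
  rw [D.g_fe, D.g_fι, one_smul, mul_one, zero_add]

theorem jm_smul (x : Φ) (r s : F) (m : W) :
    jm g (w (v 0 1 0)) ι x r (s • m) = s • jm g (w (v 0 1 0)) ι x r m := by
  unfold jm
  rw [D.g_smul, D.g_smul, smul_add, smul_add, smul_smul, smul_smul]
  congr 2
  ring

theorem jm_add (x : Φ) (r : F) (m m' : W) :
    jm g (w (v 0 1 0)) ι x r (m + m') = jm g (w (v 0 1 0)) ι x r m + jm g (w (v 0 1 0)) ι x r m' := by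
  unfold jm
  rw [D.g_add, D.g_add, add_smul]
  have h1 : g m (ι x) + g m' (ι x) + r * (g m (w (v 0 1 0)) + g m' (w (v 0 1 0))) =
    (g m (ι x) + r * g m (w (v 0 1 0))) + (g m' (ι x) + r * g m' (w (v 0 1 0))) := by ring
  rw [h1, add_smul]
  abel

theorem jm_jm (x x' : Φ) (r r' : F) (m : W) :
    jm g (w (v 0 1 0)) ι x r (jm g (w (v 0 1 0)) ι x' r' m) =
      jm g (w (v 0 1 0)) ι (x + x') (r + r' + hm x' x) m := by
  have h1 : g (jm g (w (v 0 1 0)) ι x' r' m) (w (v 0 1 0)) = g m (w (v 0 1 0)) := by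
    unfold jm
    rw [D.g_add, D.g_add, D.g_smul, D.g_smul, D.g_ιe, D.g_ee, mul_zero, mul_zero, add_zero, add_zero]
  have h2 : g (jm g (w (v 0 1 0)) ι x' r' m) (ι x) = g m (ι x) + g m (w (v 0 1 0)) * hm x' x := by
    unfold jm
    rw [D.g_add, D.g_add, D.g_smul, D.g_smul, D.g_ιι, D.g_eι, mul_zero, add_zero]
  rw [jm, h1, h2]
  unfold jm
  rw [map_add, D.g_add_right, smul_add]
  have h3 : g m (ι x) + g m (ι x') + (r + r' + hm x' x) * g m (w (v 0 1 0)) =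
    (g m (ι x') + r' * g m (w (v 0 1 0))) + (g m (ι x) + g m (w (v 0 1 0)) * hm x' x + r * g m (w (v 0 1 0))) := by ring
  rw [h3, add_smul (g m (ι x') + r' * g m (w (v 0 1 0)))]
  abel

theorem jm_zero (m : W) : jm g (w (v 0 1 0)) ι 0 0 m = m := by
  unfold jm
  rw [map_zero, smul_zero, D.g_zero_right]
  simp only [zero_mul, zero_smul, add_zero]

theorem g_jm_e (x : Φ) (r : F) (m : W) :
    g (jm g (w (v 0 1 0)) ι x r m) (w (v 0 1 0)) = g m (w (v 0 1 0)) := by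
  unfold jm
  rw [D.g_add, D.g_add, D.g_smul, D.g_smul, D.g_ιe, D.g_ee, mul_zero, mul_zero, add_zero, add_zero]

/-- `jm x r` is an isometry -/
theorem g_jm [CharP k 2] {x : Φ} {r : F} (hr : r + T.sg r = hm x x) (m m' : W) :
    g (jm g (w (v 0 1 0)) ι x r m) (jm g (w (v 0 1 0)) ι x r m') = g m m' := by
  have e1 : ∀ u : W, g (jm g (w (v 0 1 0)) ι x r m) (g m' (w (v 0 1 0)) • u) =
      T.sg (g m' (w (v 0 1 0))) * g (jm g (w (v 0 1 0)) ι x r m) u := fun u => D.g_smul_right _ _ _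
  have h1 : g (jm g (w (v 0 1 0)) ι x r m) (ι x) = g m (ι x) + g m (w (v 0 1 0)) * hm x x := by
    unfold jm
    rw [D.g_add, D.g_add, D.g_smul, D.g_smul, D.g_ιι, D.g_eι, mul_zero, add_zero]
  have h2 : g (jm g (w (v 0 1 0)) ι x r m) m' = g m m' + g m (w (v 0 1 0)) * g (ι x) m' +
      (g m (ι x) + r * g m (w (v 0 1 0))) * g (w (v 0 1 0)) m' := by
    rw [jm, D.g_add, D.g_add, D.g_smul, D.g_smul]
  have h3 : g (jm g (w (v 0 1 0)) ι x r m) (jm g (w (v 0 1 0)) ι x r m') =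
      g (jm g (w (v 0 1 0)) ι x r m) m' +
      T.sg (g m' (w (v 0 1 0))) * g (jm g (w (v 0 1 0)) ι x r m) (ι x) +
      T.sg (g m' (ι x) + r * g m' (w (v 0 1 0))) * g (jm g (w (v 0 1 0)) ι x r m) (w (v 0 1 0)) := by
    conv_lhs => rw [show jm g (w (v 0 1 0)) ι x r m' = m' + g m' (w (v 0 1 0)) • ι x +
      (g m' (ι x) + r * g m' (w (v 0 1 0))) • w (v 0 1 0) from rfl]
    rw [D.g_add_right, D.g_add_right, D.g_smul_right, D.g_smul_right]
  rw [h3, h2, h1, g_jm_e D, D.g_sym m' (ι x), D.g_sym m' (w (v 0 1 0)), map_add, map_mul, ← hr]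
  set a := g m (w (v 0 1 0))
  set b := g m (ι x)
  set c := T.sg (g m' (w (v 0 1 0)))
  set d := T.sg (g m' (ι x))
  have h4 := T.two_F (a * d)
  have h5 := T.two_F (b * c)
  have h6 := T.two_F (r * a * c)
  have h7 := T.two_F (T.sg r * c * a)
  linear_combination h4 + h5 + h6 + h7

end form

/-! ### `UU` -/

section grp
include I

theorem NN_CV {n : G} (hn : n ∈ NN V Q') : n ∈ centralizer (V : Set G) := (mem_NN.1 hn).2

theorem CV_CR {c : G} (hc : c ∈ centralizer (V : Set G)) : c ∈ centralizer (R : Set G) := I.CV_le_CR hc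

theorem CV_NR {c : G} (hc : c ∈ centralizer (V : Set G)) : c ∈ normalizer (R : Set G) :=
  I.CR_le_NR (I.CV_le_CR hc)

theorem v_NN (b : F) (d : k) : v 0 b d ∈ NN V Q' :=
  mem_NN.2 ⟨I.E'_le b d, I.V_CV (I.v_mem 0 b d)⟩

theorem V_le_UU : V ≤ UU V Q Q' := by
  intro x hx
  obtain ⟨a, b, d, rfl⟩ := I.v_surj x hx
  have h : v a b d = v a 0 0 * v 0 b d := by rw [I.v_mul, add_zero, zero_add, zero_add]
  rw [h]
  exact mul_mem (mem_sup_left (I.R_Q (I.v_R a))) (mem_sup_right (v_NN I b d))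

omit I in
theorem Q_le_UU : Q ≤ UU V Q Q' := le_sup_left

omit I in
theorem NN_le_UU : NN V Q' ≤ UU V Q Q' := le_sup_right

/-- `UU = Q NN` -/
theorem mem_UU_iff {u : G} : u ∈ UU V Q Q' ↔ ∃ n ∈ NN V Q', ∃ y ∈ Q, u = n * y := by
  constructor
  · intro hu
    let K : Subgroup G :=
      { carrier := {u | ∃ n ∈ NN V Q', ∃ y ∈ Q, u = n * y}
        one_mem' := ⟨1, one_mem _, 1, one_mem _, (mul_one _).symm⟩
        mul_mem' := by
          rintro _ _ ⟨n, hn, y, hy, rfl⟩ ⟨n', hn', y', hy', rfl⟩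
          refine ⟨n * n', mul_mem hn hn', (n'⁻¹ * y * n') * y', mul_mem ?_ hy', by group⟩
          exact I.nor_inv (CV_NR I (NN_CV I hn')) hy
        inv_mem' := by
          rintro _ ⟨n, hn, y, hy, rfl⟩
          refine ⟨n⁻¹, inv_mem hn, n * y⁻¹ * n⁻¹, I.nor _ (CV_NR I (NN_CV I hn)) _ (inv_mem hy), by group⟩ }
    have hK : UU V Q Q' ≤ K := by
      refine sup_le ?_ ?_
      · intro y hy
        exact ⟨1, one_mem _, y, hy, (one_mul _).symm⟩
      · intro n hn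
        exact ⟨n, hn, 1, one_mem _, (mul_one _).symm⟩
    exact hK hu
  · rintro ⟨n, hn, y, hy, rfl⟩
    exact mul_mem (mem_sup_right hn) (mem_sup_left hy)

theorem UU_CR : UU V Q Q' ≤ centralizer (R : Set G) :=
  sup_le I.Q_CR (fun _ hn => CV_CR I (NN_CV I hn))

theorem UU_NR : UU V Q Q' ≤ normalizer (R : Set G) := (UU_CR I).trans I.CR_le_NR

/-- `c ∈ N(R) ∩ N(V)` normalises `V ∩ Q` -/
theorem conj_E {c : G} (hR : c ∈ normalizer (R : Set G)) (hV : c ∈ normalizer (V : Set G)) (a : k) (b : F) :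
    ∃ a' b', c * v a b 0 * c⁻¹ = v a' b' 0 := by
  have h1 : c * v a b 0 * c⁻¹ ∈ V := (mem_normalizer_iff.1 hV _).1 (I.v_mem _ _ _)
  have h2 : c * v a b 0 * c⁻¹ ∈ Q := I.nor c hR _ (I.E_le a b)
  obtain ⟨a', b', d', e⟩ := I.v_surj _ h1
  rw [← e] at h2 ⊢
  exact ⟨a', b', by rw [I.V_Q _ _ _ h2]⟩

end grp

section both
include D I

/-- `w` on conjugates of `V ∩ Q` under `N(R) ∩ N(V)` -/
theorem rho_e {c : G} (hR : c ∈ normalizer (R : Set G)) (hV : c ∈ normalizer (V : Set G)) (b : F) :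
    ∃ b' : F, D.rho c (b • w (v 0 1 0)) = b' • w (v 0 1 0) := by
  obtain ⟨a', b', h⟩ := conj_E I hR hV 0 b
  refine ⟨b', ?_⟩
  rw [← D.w_e, D.rho_w I hR (I.E_le _ _), h, D.w_v I]

theorem rho_NN {n : G} (hn : n ∈ NN V Q') : ∃ r : F, r + T.sg r = hm (χ n) (χ n) ∧
    ∀ m, D.rho n m = jm g (w (v 0 1 0)) ι (χ n) r m := by
  obtain ⟨h1, h2⟩ := mem_NN.1 hn
  obtain ⟨r, hr, h⟩ := D.χ_act n h1 h2
  refine ⟨r, hr, fun m => ?_⟩
  obtain ⟨y, hy, rfl⟩ := D.w_surj m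
  rw [D.rho_w I (CV_NR I h2) hy, h y hy]
  rfl

theorem rho_UU {u : G} (hu : u ∈ UU V Q Q') : ∃ (x : Φ) (r : F), r + T.sg r = hm x x ∧
    ∀ m, D.rho u m = jm g (w (v 0 1 0)) ι x r m := by
  obtain ⟨n, hn, y, hy, rfl⟩ := (mem_UU_iff I).1 hu
  obtain ⟨r, hr, h⟩ := rho_NN D I hn
  refine ⟨χ n, r, hr, fun m => ?_⟩
  rw [D.rho_mul I (CV_NR I (NN_CV I hn)) (I.Q_NR hy), D.rho_Q I hy, h]

/-- all `jm x r` occur -/
theorem exists_jm [CharP k 2] (Fd : Fld T V R Q Q' v p φ χ) {x : Φ} {r : F} (hr : r + T.sg r = hm x x) :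
    ∃ n ∈ NN V Q', ∀ m, D.rho n m = jm g (w (v 0 1 0)) ι x r m := by
  obtain ⟨n, hn1, hn2, hx⟩ := Fd.χ_surj x
  have hn : n ∈ NN V Q' := mem_NN.2 ⟨hn1, hn2⟩
  obtain ⟨r', hr', h⟩ := rho_NN D I hn
  rw [hx] at hr' h
  -- `r = r' + d`
  have h1 : T.sg (r + r') = r + r' := by
    rw [map_add]
    have h2 : r + T.sg r = r' + T.sg r' := by rw [hr, hr']
    have h3 := T.two_F (T.sg r)
    have h4 := T.two_F r'
    linear_combination (-1 : F) * h2 + h3 - h4
  obtain ⟨d, hd⟩ := T.fix _ h1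
  have hd' : algebraMap k F d + r' = r := by
    rw [hd, add_assoc, T.two_F, add_zero]
  refine ⟨v 0 0 d * n, mul_mem (v_NN I 0 d) hn, fun m => ?_⟩
  have e1 : D.rho (v 0 0 d * n) m = jm g (w (v 0 1 0)) ι 0 (algebraMap k F d) (jm g (w (v 0 1 0)) ι x r' m) := by
    rw [D.rho_mul I (CV_NR I (I.V_CV (I.v_mem 0 0 d))) (CV_NR I hn2), h, D.rho_tv I]
    conv_rhs => rw [jm]
    rw [map_zero, smul_zero, D.g_zero_right, add_zero, zero_add]
  rw [e1, jm_jm D, zero_add, hm_zero_right D, add_zero, hd']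

/-- an element of `N(R)` which acts as `jm x r` is in `UU` -/
theorem mem_UU_of [CharP k 2] (Fd : Fld T V R Q Q' v p φ χ) {c : G} (hc : c ∈ normalizer (R : Set G)) {x : Φ}
    {r : F} (hr : r + T.sg r = hm x x) (h : ∀ m, D.rho c m = jm g (w (v 0 1 0)) ι x r m) : c ∈ UU V Q Q' := by
  obtain ⟨n, hn, hn'⟩ := exists_jm D I Fd hr
  have hnR := CV_NR I (NN_CV I hn)
  have h1 : n⁻¹ * c ∈ Q := by
    apply D.mem_Q_of_rho I (mul_mem (inv_mem hnR) hc)
    intro m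
    rw [D.rho_mul I (inv_mem hnR) hc, h, ← hn', D.rho_inv_left I hnR]
  exact (mem_UU_iff I).2 ⟨n, hn, _, h1, by group⟩

/-- `UU` modulo `Q` has exponent 4 -/
theorem pow_four [CharP k 2] {u : G} (hu : u ∈ UU V Q Q') : u ^ 4 ∈ Q := by
  obtain ⟨x, r, hr, h⟩ := rho_UU D I hu
  have hN := UU_NR I hu
  apply D.mem_Q_of_rho I (pow_mem hN 4)
  intro m
  have h2 : ∀ m, D.rho (u ^ 2) m = jm g (w (v 0 1 0)) ι 0 (hm x x) m := by
    intro m
    have hx2 : x + x = 0 := by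
      have h1 := T.two_F (1 : F)
      have h2 : ((1 : F) + 1) • x = 0 := by rw [h1, zero_smul]
      rwa [add_smul, one_smul] at h2
    rw [pow_two, D.rho_mul I hN hN, h, h, jm_jm D, hx2, T.two_F, zero_add]
  have h3 : u ^ 4 = u ^ 2 * u ^ 2 := by group
  rw [h3, D.rho_mul I (pow_mem hN 2) (pow_mem hN 2), h2, h2, jm_jm D, add_zero, T.two_F, zero_add,
    hm_zero_right D, jm_zero D]

theorem UU_two [CharP k 2] : IsPGroup 2 (UU V Q Q') := by
  intro u
  have h1 := pow_four D I u.2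
  obtain ⟨m, hm⟩ := I.Q_two ⟨_, h1⟩
  refine ⟨m + 2, ?_⟩
  have h2 : ((u : G) ^ 4) ^ 2 ^ m = 1 := congrArg (fun x : Q => (x : G)) hm
  apply Subtype.ext
  change (u : G) ^ 2 ^ (m + 2) = 1
  rw [← h2, ← pow_mul, pow_add, mul_comm]
  norm_num

/-- **the elements of `N(R) ∩ N(V)` normalise `UU`** -/
theorem conj_UU [CharP k 2] {c : G} (hR : c ∈ normalizer (R : Set G)) (hV : c ∈ normalizer (V : Set G)) {u : G}
    (hu : u ∈ UU V Q Q') : c * u * c⁻¹ ∈ UU V Q Q' := by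
  obtain ⟨n, hn, y, hy, rfl⟩ := (mem_UU_iff I).1 hu
  have e : c * (n * y) * c⁻¹ = (c * n * c⁻¹) * (c * y * c⁻¹) := by group
  rw [e]
  refine mul_mem ?_ (Q_le_UU (I.nor c hR y hy))
  obtain ⟨hn1, hn2⟩ := mem_NN.1 hn
  set c' := c * n * c⁻¹ with hc'
  have hc'V : c' ∈ centralizer (V : Set G) := by
    rw [mem_centralizer_iff]
    intro x hx
    have h1 : c⁻¹ * x * c ∈ V := by
      have := (mem_normalizer_iff.1 (inv_mem hV) x).1 hx
      rwa [inv_inv] at this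
    have h2 := mem_centralizer_iff.1 hn2 _ h1
    calc x * c' = c * ((c⁻¹ * x * c) * n) * c⁻¹ := by rw [hc']; group
      _ = c * (n * (c⁻¹ * x * c)) * c⁻¹ := by rw [h2]
      _ = c' * x := by rw [hc']; group
  have hc'N := CV_NR I hc'V
  obtain ⟨r, hr, hρ⟩ := rho_NN D I hn
  suffices hrad : ∃ n ∈ Q', n ∈ centralizer (V : Set G) ∧ ∃ d, ∃ y ∈ Q, c' = n * v 0 0 d * y by
    obtain ⟨n', h1', h2', d, z, hz, he⟩ := hrad
    rw [he]
    exact mul_mem (mul_mem (NN_le_UU (mem_NN.2 ⟨h1', h2'⟩)) (V_le_UU I (I.v_mem _ _ _))) (Q_le_UU hz)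
  refine D.rad c' (CV_CR I hc'V) ?_ ?_ ?_
  · intro b
    have := mem_centralizer_iff.1 hc'V _ (I.v_mem 0 b 0)
    have h1 : c' * v 0 b 0 * c'⁻¹ = v 0 b 0 := by rw [← this]; group
    rw [h1]
  · intro x hx hxe
    -- `x` centralises `V`
    have hxV : x ∈ centralizer (V : Set G) := by
      rw [I.mem_CV hx, D.p_eq x hx]; exact hxe
    have hcx : c⁻¹ * x * c ∈ Q := I.nor_inv hR hx
    have hcxV : c⁻¹ * x * c ∈ centralizer (V : Set G) := by
      rw [mem_centralizer_iff]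
      intro y hy
      have h1 : c * y * c⁻¹ ∈ V := (mem_normalizer_iff.1 hV y).1 hy
      have h2 := mem_centralizer_iff.1 hxV _ h1
      calc y * (c⁻¹ * x * c) = c⁻¹ * ((c * y * c⁻¹) * x) * c := by group
        _ = c⁻¹ * (x * (c * y * c⁻¹)) * c := by rw [h2]
        _ = (c⁻¹ * x * c) * y := by group
    have h0 : g (w (c⁻¹ * x * c)) (w (v 0 1 0)) = 0 := by
      rw [← D.p_eq _ hcx]; exact (I.mem_CV hcx).1 hcxV
    have h1 : D.rho n (w (c⁻¹ * x * c)) = w (c⁻¹ * x * c) + (g (w (c⁻¹ * x * c)) (ι (χ n))) • w (v 0 1 0) := by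
      rw [hρ, jm, h0, zero_smul, add_zero, mul_zero, add_zero]
    obtain ⟨b, hb⟩ := rho_e D I hR hV (g (w (c⁻¹ * x * c)) (ι (χ n)))
    refine ⟨b, ?_⟩
    rw [← D.rho_w I hc'N hx, D.w_e, ← hb]
    have hcn : c * n * c⁻¹ = c * (n * c⁻¹) := by group
    have h5 : D.rho c⁻¹ (w x) = w (c⁻¹ * x * c) := by
      rw [D.rho_w I (inv_mem hR) hx, inv_inv]
    rw [hc', hcn, D.rho_mul I hR (mul_mem (CV_NR I hn2) (inv_mem hR)), D.rho_mul I (CV_NR I hn2) (inv_mem hR),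
      h5, h1, D.rho_add I hR, ← h5, D.rho_inv_right I hR]
  · intro x hx
    have hcx : c' * x * c'⁻¹ ∈ Q := I.nor c' hc'N x hx
    rw [← D.p_eq _ hcx, ← D.p_eq x hx]
    have h1 := I.act _ hcx 0 0 1
    have h2 := I.act _ hx 0 0 1
    have hv1 : c'⁻¹ * v 0 0 1 * c' = v 0 0 1 := by
      have := mem_centralizer_iff.1 hc'V _ (I.v_mem 0 0 1)
      rw [mul_assoc, this]; group
    have hv2 : c' * (x * v 0 0 1 * x⁻¹) * c'⁻¹ = x * v 0 0 1 * x⁻¹ := by
      have := mem_centralizer_iff.1 hc'V (x * v 0 0 1 * x⁻¹) (by rw [h2]; exact I.v_mem _ _ _)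
      rw [← this]; group
    have h3 : c' * x * c'⁻¹ * v 0 0 1 * (c' * x * c'⁻¹)⁻¹ = x * v 0 0 1 * x⁻¹ := by
      calc c' * x * c'⁻¹ * v 0 0 1 * (c' * x * c'⁻¹)⁻¹ = c' * (x * (c'⁻¹ * v 0 0 1 * c') * x⁻¹) * c'⁻¹ := by group
        _ = x * v 0 0 1 * x⁻¹ := by rw [hv1, hv2]
    rw [h1, h2] at h3
    have h4 := (I.v_ext h3).2.1
    simpa using h4

theorem norm_of_NV [CharP k 2] {c : G} (hR : c ∈ normalizer (R : Set G)) (hV : c ∈ normalizer (V : Set G)) :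
    cj c (UU V Q Q') = UU V Q Q' := by
  apply le_antisymm
  · rintro _ ⟨u, hu, rfl⟩
    exact conj_UU D I hR hV hu
  · intro u hu
    refine ⟨c⁻¹ * u * c, ?_, ?_⟩
    · have := conj_UU D I (inv_mem hR) (inv_mem hV) hu
      rwa [inv_inv] at this
    · change c * (c⁻¹ * u * c) * c⁻¹ = u
      group

/-- if `c` stabilises `F e₀`, then it normalises `UU` -/
theorem norm_UU [CharP k 2] {c : G} (hR : c ∈ normalizer (R : Set G))
    (h : ∃ s : F, D.rho c (w (v 0 1 0)) = s • w (v 0 1 0)) : cj c (UU V Q Q') = UU V Q Q' := by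
  apply norm_of_NV D I hR
  apply D.stab c hR
  obtain ⟨s, hs⟩ := h
  exact ⟨s, by rw [← hs, D.rho_w I hR (I.E_le _ _)]⟩

/-- the fixed points of `UU` -/
theorem fixed_UU [CharP k 2] (Fd : Fld T V R Q Q' v p φ χ) {m : W}
    (h : ∀ u ∈ UU V Q Q', D.rho u m = m) : ∃ s : F, m = s • w (v 0 1 0) := by
  have key : ∀ (x : Φ) (r : F), r + T.sg r = hm x x → jm g (w (v 0 1 0)) ι x r m = m := by
    intro x r hr
    obtain ⟨n, hn, hn'⟩ := exists_jm D I Fd hr
    rw [← hn']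
    exact h n (NN_le_UU hn)
  have h1 : g m (w (v 0 1 0)) = 0 := by
    have h2 := key 0 1 (by rw [map_one, T.two_F, hm_zero_left D])
    unfold jm at h2
    rw [map_zero, smul_zero, D.g_zero_right, add_zero, one_mul, zero_add] at h2
    have h3 : g m (w (v 0 1 0)) • w (v 0 1 0) = 0 := by
      have : m + g m (w (v 0 1 0)) • w (v 0 1 0) = m + 0 := by rw [h2, add_zero]
      exact add_left_cancel this
    rcases smul_eq_zero.1 h3 with h | h
    · exact h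
    · exact absurd h D.e_ne
  have h2 : ∀ x : Φ, g m (ι x) = 0 := by
    intro x
    obtain ⟨r, hr⟩ := exists_r D x
    have h2 := key x r hr
    unfold jm at h2
    rw [h1, zero_smul, add_zero, mul_zero, add_zero] at h2
    have h3 : g m (ι x) • w (v 0 1 0) = 0 := by
      have : m + g m (ι x) • w (v 0 1 0) = m + 0 := by rw [h2, add_zero]
      exact add_left_cancel this
    rcases smul_eq_zero.1 h3 with h | h
    · exact h
    · exact absurd h D.e_ne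
  obtain ⟨x, hx⟩ := D.decomp m
  refine ⟨g m f₀, ?_⟩
  have h3 : x = 0 := by
    apply D.hm_nondeg
    intro u
    have h4 := h2 u
    rw [hx, D.g_add, D.g_add, D.g_smul, D.g_smul, D.g_eι, D.g_fι, D.g_ιι, mul_zero, mul_zero, zero_add,
      add_zero] at h4
    exact h4
  rw [h1, h3, map_zero, zero_smul, add_zero, add_zero] at hx
  exact hx

/-- if `c` normalises `UU`, then it stabilises `F e₀` -/
theorem stab_of_norm [CharP k 2] (Fd : Fld T V R Q Q' v p φ χ) {c : G} (hR : c ∈ normalizer (R : Set G))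
    (h : cj c (UU V Q Q') = UU V Q Q') : ∃ s : F, D.rho c (w (v 0 1 0)) = s • w (v 0 1 0) := by
  apply fixed_UU D I Fd
  intro u hu
  rw [← h] at hu
  obtain ⟨u', hu', rfl⟩ := hu
  change D.rho (c * u' * c⁻¹) (D.rho c (w (v 0 1 0))) = D.rho c (w (v 0 1 0))
  have hu'R := UU_NR I hu'
  obtain ⟨x, r, hr, hj⟩ := rho_UU D I hu'
  rw [← D.rho_mul I (mul_mem (mul_mem hR hu'R) (inv_mem hR)) hR]
  have e : c * u' * c⁻¹ * c = c * u' := by group
  rw [e, D.rho_mul I hR hu'R, hj, jm_e D]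

theorem cj_UU_iff [CharP k 2] (Fd : Fld T V R Q Q' v p φ χ) {c : G} (hR : c ∈ normalizer (R : Set G)) :
    cj c (UU V Q Q') = UU V Q Q' ↔ ∃ s : F, D.rho c (w (v 0 1 0)) = s • w (v 0 1 0) :=
  ⟨stab_of_norm D I Fd hR, norm_UU D I hR⟩

end both

end

end Cfsg.Agent.RankTwoClose.UFive.LSide
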