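import Mathlib

/-!
# The weights of the torus of `SU₃(q)` on its natural module

`F` a field of order `q²`, `q ≥ 4` even: `{(α, α^{q-1}, α^{-q}) : α ∈ F×}` spans `F³` additively.
-/

set_option autoImplicit false
set_option linter.unusedSectionVars false
set_option linter.style.haveILetI false

namespace Cfsg.Agent.RankTwoClose.UFive.Weights

variable {F : Type*} [Field F] [Fintype F] [CharP F 2] {q : ℕ}

/-- the diagonal action -/
def act (q : ℕ) (α : Fˣ) (x : F × F × F) : F × F × F :=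
  ((α : F) * x.1, (α : F) ^ (q - 1) * x.2.1, ((α⁻¹ : Fˣ) : F) ^ q * x.2.2)

theorem frob (hF : Fintype.card F = q ^ 2) (h2 : ∃ m, q = 2 ^ m) (x y : F) : (x + y) ^ q = x ^ q + y ^ q := by
  obtain ⟨m, rfl⟩ := h2
  haveI : Fact (Nat.Prime 2) := ⟨Nat.prime_two⟩
  exact add_pow_char_pow x y 2 m

theorem pow_inj {m : ℕ} {x : F} (h : x ^ (2 ^ m) = 0) : x = 0 := pow_eq_zero_iff (by positivity) |>.1 h

/-- **The weights `1`, `q - 1`, `-q` are linearly disjoint over `𝔽₂`.** -/
theorem span (hF : Fintype.card F = q ^ 2) (h2 : ∃ m, q = 2 ^ m) (h4 : 4 ≤ q) (W : AddSubgroup (F × F × F))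
    (hW : ∀ α : Fˣ, ∀ x ∈ W, act q α x ∈ W) (h1 : ((1 : F), (1 : F), (1 : F)) ∈ W) : W = ⊤ := by
  classical
  have hchar : ∀ x : F, x + x = 0 := fun x => CharTwo.add_self_eq_zero x
  have hq1 : 1 < q := by omega
  -- powers
  have hpow : ∀ α : Fˣ, (α : F) ^ (q ^ 2 - 1) = 1 := by
    intro α
    have h := FiniteField.pow_card_sub_one_eq_one (α : F) α.ne_zero
    rwa [hF] at h
  -- an element `α ≠ 1` with `α^{q-1} = 1`
  obtain ⟨g, hg⟩ := IsCyclic.exists_generator (α := Fˣ)
  have hog : orderOf g = q ^ 2 - 1 := by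
    rw [orderOf_eq_card_of_forall_mem_zpowers hg, Nat.card_eq_fintype_card, Fintype.card_units, hF]
  have hfac : q ^ 2 - 1 = (q + 1) * (q - 1) := by
    rw [show q ^ 2 - 1 = q ^ 2 - 1 ^ 2 by norm_num, Nat.sq_sub_sq]
  obtain ⟨a, ha, ha1⟩ : ∃ a : Fˣ, a ^ (q - 1) = 1 ∧ a ≠ 1 := by
    refine ⟨g ^ (q + 1), ?_, ?_⟩
    · rw [← pow_mul, ← hfac, ← hog, pow_orderOf_eq_one]
    · intro h
      have h3 := orderOf_dvd_of_pow_eq_one h
      rw [hog, hfac] at h3
      have h5 := Nat.le_of_dvd (by omega) h3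
      have h6 : (q + 1) * 2 ≤ (q + 1) * (q - 1) := Nat.mul_le_mul_left _ (by omega)
      omega
  -- `(a - 1, 0, ·) ∈ W`
  have haq : ((a⁻¹ : Fˣ) : F) ^ q = ((a⁻¹ : Fˣ) : F) := by
    have h3 : a ^ q = a := by
      have : q = (q - 1) + 1 := by omega
      rw [this, pow_succ, ha, one_mul]
    rw [← Units.val_pow_eq_pow_val, inv_pow, h3]
  have haF : (a : F) ^ (q - 1) = 1 := by rw [← Units.val_pow_eq_pow_val, ha, Units.val_one]
  have e1 : ((a : F) + 1, (0 : F), ((a⁻¹ : Fˣ) : F) + 1) ∈ W := by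
    have h3 := W.add_mem (hW a _ h1) h1
    have e : act q a ((1 : F), (1 : F), (1 : F)) + ((1 : F), (1 : F), (1 : F)) =
      ((a : F) + 1, (0 : F), ((a⁻¹ : Fˣ) : F) + 1) := by
      simp only [act, mul_one, haq, haF, Prod.mk_add_mk, hchar]
    rwa [e] at h3
  have ha1F : (a : F) + 1 ≠ 0 := by
    intro h
    apply ha1
    have h3 : (a : F) = 1 := by
      have := hchar (1 : F)
      have h5 : (a : F) + 1 + 1 = 0 + 1 := by rw [h]
      rwa [add_assoc, this, add_zero, zero_add] at h5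
    exact Units.ext h3
  have ha2F : ((a⁻¹ : Fˣ) : F) + 1 ≠ 0 := by
    intro h
    apply ha1F
    have h3 : (a : F) * (((a⁻¹ : Fˣ) : F) + 1) = 0 := by rw [h, mul_zero]
    rw [mul_add, Units.mul_inv, mul_one, add_comm] at h3
    exact h3
  -- `b` with `b² + b + 1 ≠ 0`, `b ≠ 0, 1`
  obtain ⟨b, hb0, hb1, hb2⟩ : ∃ b : F, b ≠ 0 ∧ b + 1 ≠ 0 ∧ b ^ 2 + b + 1 ≠ 0 := by
    by_contra hcon
    push Not at hcon
    have hsub : (Finset.univ : Finset F) ⊆ {0, 1} ∪ (Polynomial.roots (Polynomial.X ^ 2 + Polynomial.X + 1 : Polynomial F)).toFinset := by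
      intro b _
      by_cases hb : b = 0
      · simp [hb]
      by_cases hb' : b + 1 = 0
      · have : b = 1 := by
          have h5 : b + 1 + 1 = 0 + 1 := by rw [hb']
          rwa [add_assoc, hchar, add_zero, zero_add] at h5
        simp [this]
      · have h3 := hcon b hb hb'
        refine Finset.mem_union_right _ ?_
        rw [Multiset.mem_toFinset, Polynomial.mem_roots (by
          intro h0
          have := congrArg (Polynomial.eval 0) h0
          simp at this)]
        simpa [Polynomial.IsRoot] using h3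
    have h3 := Finset.card_le_card hsub
    have h5 : (Polynomial.roots (Polynomial.X ^ 2 + Polynomial.X + 1 : Polynomial F)).toFinset.card ≤ 2 := by
      refine (Multiset.toFinset_card_le _).trans ((Polynomial.card_roots' _).trans ?_)
      compute_degree
    have h6 := Finset.card_union_le ({0, 1} : Finset F) (Polynomial.roots (Polynomial.X ^ 2 + Polynomial.X + 1 : Polynomial F)).toFinset
    have h7 : ({0, 1} : Finset F).card ≤ 2 := Finset.card_le_two
    rw [Finset.card_univ, hF] at h3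
    have h8 : 4 ^ 2 ≤ q ^ 2 := Nat.pow_le_pow_left h4 2
    omega
  set β : Fˣ := Units.mk0 b hb0 with hβ
  set γ : Fˣ := Units.mk0 (b + 1) hb1 with hγ
  -- the group ring element `β + γ + 1` kills the first coordinate
  have kill : ∀ x z : F, (x, (0 : F), z) ∈ W →
      ((0 : F), (0 : F), (((β⁻¹ : Fˣ) : F) + ((γ⁻¹ : Fˣ) : F) + 1) ^ q * z) ∈ W := by
    intro x z hx
    have h3 := W.add_mem (W.add_mem (hW β _ hx) (hW γ _ hx)) hx
    have e : act q β (x, (0 : F), z) + act q γ (x, (0 : F), z) + (x, (0 : F), z) =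
      ((0 : F), (0 : F), (((β⁻¹ : Fˣ) : F) + ((γ⁻¹ : Fˣ) : F) + 1) ^ q * z) := by
      simp only [act, mul_zero, Prod.mk_add_mk, add_zero]
      refine Prod.ext ?_ (Prod.ext rfl ?_)
      · change b * x + (b + 1) * x + x = 0
        have : b * x + (b + 1) * x + x = (b + b) * x + (x + x) := by ring
        rw [this, hchar, hchar, zero_mul, add_zero]
      · change ((β⁻¹ : Fˣ) : F) ^ q * z + ((γ⁻¹ : Fˣ) : F) ^ q * z + z = _
        rw [frob hF h2, frob hF h2, one_pow]
        ring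
    rwa [e] at h3
  have hc : (((β⁻¹ : Fˣ) : F) + ((γ⁻¹ : Fˣ) : F) + 1) ≠ 0 := by
    intro h
    apply hb2
    have h3 : b * (b + 1) * (((β⁻¹ : Fˣ) : F) + ((γ⁻¹ : Fˣ) : F) + 1) = 0 := by rw [h, mul_zero]
    have h5 : ((β⁻¹ : Fˣ) : F) = b⁻¹ := by rw [Units.val_inv_eq_inv_val]; rfl
    have h6 : ((γ⁻¹ : Fˣ) : F) = (b + 1)⁻¹ := by rw [Units.val_inv_eq_inv_val]; rfl
    rw [h5, h6] at h3
    have h7 : b * (b + 1) * (b⁻¹ + (b + 1)⁻¹ + 1) = (b + 1) + b + b * (b + 1) := by
      field_simp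
    rw [h7] at h3
    have h8 : (b + 1) + b + b * (b + 1) = b ^ 2 + b + 1 + (b + b) := by ring
    rw [h8, hchar, add_zero] at h3
    exact h3
  -- the third coordinate
  have third : ∀ z : F, ((0 : F), (0 : F), z) ∈ W := by
    have h3 := kill _ _ e1
    set c : F := (((β⁻¹ : Fˣ) : F) + ((γ⁻¹ : Fˣ) : F) + 1) ^ q * (((a⁻¹ : Fˣ) : F) + 1) with hcdef
    have hc0 : c ≠ 0 := mul_ne_zero (pow_ne_zero _ hc) ha2F
    intro z
    by_cases hz : z = 0
    · rw [hz]; exact W.zero_mem
    -- `δ` with `δ^{-q} c = z`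
    have hsurj : Function.Surjective (fun x : F => x ^ q) := by
      apply Finite.surjective_of_injective
      intro x y hxy
      obtain ⟨m, hm⟩ := h2
      have h5 : (x + y) ^ q = 0 := by
        rw [frob hF ⟨m, hm⟩]
        change x ^ q = y ^ q at hxy
        rw [hxy, hchar]
      have h6 := pow_eq_zero_iff (by omega : q ≠ 0) |>.1 h5
      have h7 : x + y + y = 0 + y := by rw [h6]
      rwa [add_assoc, hchar, add_zero, zero_add] at h7
    obtain ⟨d, hd⟩ := hsurj (z * c⁻¹)
    have hd0 : d ≠ 0 := by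
      intro h
      rw [h] at hd
      change (0 : F) ^ q = z * c⁻¹ at hd
      rw [zero_pow (by omega)] at hd
      exact mul_ne_zero hz (inv_ne_zero hc0) hd.symm
    have h5 := hW (Units.mk0 d hd0)⁻¹ _ h3
    have e : act q (Units.mk0 d hd0)⁻¹ ((0 : F), (0 : F), c) = ((0 : F), (0 : F), z) := by
      simp only [act, mul_zero, inv_inv, Units.val_mk0]
      change ((0 : F), (0 : F), (fun x : F => x ^ q) d * c) = _
      rw [hd, inv_mul_cancel_right₀ hc0]
    rwa [e] at h5
  -- the first coordinate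
  have first : ∀ x : F, (x, (0 : F), (0 : F)) ∈ W := by
    have h3 : ((a : F) + 1, (0 : F), (0 : F)) ∈ W := by
      have h5 := W.add_mem e1 (third (((a⁻¹ : Fˣ) : F) + 1))
      have e : ((a : F) + 1, (0 : F), ((a⁻¹ : Fˣ) : F) + 1) + ((0 : F), (0 : F), ((a⁻¹ : Fˣ) : F) + 1) =
        ((a : F) + 1, (0 : F), (0 : F)) := by
        simp only [Prod.mk_add_mk, add_zero, hchar]
      rwa [e] at h5
    intro x
    by_cases hx : x = 0
    · rw [hx]; exact W.zero_mem
    have h5 := hW (Units.mk0 (x * ((a : F) + 1)⁻¹) (mul_ne_zero hx (inv_ne_zero ha1F))) _ h3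
    have e : act q (Units.mk0 (x * ((a : F) + 1)⁻¹) (mul_ne_zero hx (inv_ne_zero ha1F))) ((a : F) + 1, (0 : F), (0 : F)) =
      (x, (0 : F), (0 : F)) := by
      simp only [act, mul_zero, Units.val_mk0]
      rw [inv_mul_cancel_right₀ ha1F]
    rwa [e] at h5
  -- the second coordinate
  have second1 : ((0 : F), (1 : F), (0 : F)) ∈ W := by
    have h3 := W.add_mem (W.add_mem h1 (first 1)) (third 1)
    have e : ((1 : F), (1 : F), (1 : F)) + ((1 : F), (0 : F), (0 : F)) + ((0 : F), (0 : F), (1 : F)) =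
      ((0 : F), (1 : F), (0 : F)) := by
      simp only [Prod.mk_add_mk, add_zero, hchar]
    rwa [e] at h3
  let K : Subring F :=
    { carrier := {y | ∀ x : F, ((0 : F), x, (0 : F)) ∈ W → ((0 : F), y * x, (0 : F)) ∈ W}
      mul_mem' := by
        intro y y' hy hy' x hx
        rw [mul_assoc]
        exact hy _ (hy' x hx)
      one_mem' := by
        intro x hx
        rwa [one_mul]
      add_mem' := by
        intro y y' hy hy' x hx
        have h3 := W.add_mem (hy x hx) (hy' x hx)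
        have e : ((0 : F), y * x, (0 : F)) + ((0 : F), y' * x, (0 : F)) = ((0 : F), (y + y') * x, (0 : F)) := by
          simp only [Prod.mk_add_mk, add_zero, add_mul]
        rwa [e] at h3
      zero_mem' := by
        intro x _
        rw [zero_mul]
        exact W.zero_mem
      neg_mem' := by
        intro y hy x hx
        have h3 := W.neg_mem (hy x hx)
        have e : -((0 : F), y * x, (0 : F)) = ((0 : F), -y * x, (0 : F)) := by
          simp only [Prod.neg_mk, neg_zero, neg_mul]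
        rwa [e] at h3 }
  have hK : ∀ α : Fˣ, (α : F) ^ (q - 1) ∈ K := by
    intro α x hx
    have h3 := hW α _ hx
    have e : act q α ((0 : F), x, (0 : F)) = ((0 : F), (α : F) ^ (q - 1) * x, (0 : F)) := by
      simp only [act, mul_zero]
    rwa [e] at h3
  -- `K` is a field of order `> q`
  have hKtop : ∀ x : F, x ∈ K := by
    have hinj : Set.InjOn (fun i : ℕ => ((g ^ (q - 1)) ^ i : Fˣ)) (Finset.range (q + 1)) := by
      intro i hi j hj hij
      have hord : orderOf (g ^ (q - 1)) = q + 1 := by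
        rw [orderOf_pow_of_dvd (by omega) (by rw [hog, hfac]; exact dvd_mul_left _ _), hog, hfac]
        exact Nat.mul_div_cancel _ (by omega)
      have h3 : (g ^ (q - 1)) ^ i = (g ^ (q - 1)) ^ j := hij
      rw [pow_inj_mod, hord] at h3
      have hi' : i < q + 1 := Finset.mem_range.1 hi
      have hj' : j < q + 1 := Finset.mem_range.1 hj
      rwa [Nat.mod_eq_of_lt hi', Nat.mod_eq_of_lt hj'] at h3
    have hcard : q + 1 ≤ Nat.card K := by
      have h3 : Function.Injective (fun i : Fin (q + 1) => (⟨((g ^ (q - 1)) ^ (i : ℕ) : Fˣ), by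
          rw [Units.val_pow_eq_pow_val]
          refine K.pow_mem ?_ _
          rw [Units.val_pow_eq_pow_val]
          exact hK g⟩ : K)) := by
        intro i j hij
        have h5 : (((g ^ (q - 1)) ^ (i : ℕ) : Fˣ) : F) = (((g ^ (q - 1)) ^ (j : ℕ) : Fˣ) : F) :=
          congrArg (fun x : K => (x : F)) hij
        exact Fin.ext (hinj (Finset.mem_coe.2 (Finset.mem_range.2 i.2)) (Finset.mem_coe.2 (Finset.mem_range.2 j.2)) (Units.ext h5))
      have h5 := Nat.card_le_card_of_injective _ h3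
      rwa [Nat.card_eq_fintype_card, Fintype.card_fin] at h5
    -- cardinality: `F` is a vector space over `K`
    letI : Field K := Fintype.fieldOfDomain K
    haveI : Fintype K := Fintype.ofFinite K
    have h3 := Module.card_eq_pow_finrank (K := K) (V := F)
    rw [hF] at h3
    have h5 : Nat.card K = Fintype.card K := Nat.card_eq_fintype_card
    rw [h5] at hcard
    have h6 : Module.finrank K F = 1 := by
      have h7 : Module.finrank K F < 2 := by
        by_contra hcon
        push Not at hcon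
        have h8 : (q + 1) ^ 2 ≤ Fintype.card K ^ Module.finrank K F :=
          (Nat.pow_le_pow_left hcard 2).trans (Nat.pow_le_pow_right (by omega) hcon)
        rw [← h3] at h8
        have := Nat.pow_lt_pow_left (show q < q + 1 by omega) (n := 2) (by norm_num)
        omega
      have h8 : 0 < Module.finrank K F := Module.finrank_pos
      omega
    rw [h6, pow_one] at h3
    have h7 : Nat.card K = Nat.card F := by rw [h5, ← h3, Nat.card_eq_fintype_card, hF]
    have h8 : (K : Set F) = Set.univ :=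
      Set.eq_of_subset_of_ncard_le (Set.subset_univ _) (by rw [Set.ncard_univ]; exact h7.ge)
    intro x
    have : x ∈ (K : Set F) := by rw [h8]; trivial
    exact this
  have second : ∀ y : F, ((0 : F), y, (0 : F)) ∈ W := by
    intro y
    have h3 := hKtop y 1 second1
    rwa [mul_one] at h3
  rw [eq_top_iff]
  rintro ⟨x, y, z⟩ -
  have h3 := W.add_mem (W.add_mem (first x) (second y)) (third z)
  have e : (x, (0 : F), (0 : F)) + ((0 : F), y, (0 : F)) + ((0 : F), (0 : F), z) = (x, y, z) := by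
    simp only [Prod.mk_add_mk, add_zero, zero_add]
  rwa [e] at h3

/-- **The cyclic vector**, group form: `Q/Z` is `F³` with the torus `A` acting with the weights
`1`, `q - 1`, `-q`. -/
theorem exists_cyc {G : Type*} [Group G] (hF : Fintype.card F = q ^ 2) (h2 : ∃ m, q = 2 ^ m) (h4 : 4 ≤ q)
    {Q Z A : Subgroup G} (π : G → F × F × F) (hmul : ∀ x ∈ Q, ∀ y ∈ Q, π (x * y) = π x + π y)
    (hsurj : ∀ v, ∃ x ∈ Q, π x = v) (hker : ∀ x ∈ Q, π x = 0 → x ∈ Z) (hZQ : Z ≤ Q)
    (hAQ : ∀ a ∈ A, ∀ x ∈ Q, a * x * a⁻¹ ∈ Q) (hAZ : ∀ a ∈ A, ∀ z ∈ Z, a * z * a⁻¹ ∈ Z)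
    (hA : ∀ α : Fˣ, ∃ a ∈ A, ∀ x ∈ Q, π (a * x * a⁻¹) = act q α (π x)) :
    ∃ w ∈ Q, Q ≤ Subgroup.closure {x | ∃ a ∈ A, x = a * w * a⁻¹} ⊔ Z := by
  obtain ⟨w, hw, hw1⟩ := hsurj (1, 1, 1)
  refine ⟨w, hw, ?_⟩
  set M := Subgroup.closure {x | ∃ a ∈ A, x = a * w * a⁻¹} ⊔ Z with hM
  have hMQ : M ≤ Q := by
    refine sup_le ?_ hZQ
    rw [Subgroup.closure_le]
    rintro _ ⟨a, ha, rfl⟩
    exact hAQ a ha w hw
  have hMA : ∀ a ∈ A, ∀ x ∈ M, a * x * a⁻¹ ∈ M := by
    intro a ha x hx
    have h1 : M ≤ M.comap (MulAut.conj a).toMonoidHom := by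
      refine sup_le ?_ ?_
      · rw [Subgroup.closure_le]
        rintro _ ⟨b, hb, rfl⟩
        change a * (b * w * b⁻¹) * a⁻¹ ∈ M
        exact Subgroup.mem_sup_left (Subgroup.subset_closure ⟨a * b, mul_mem ha hb, by group⟩)
      · intro z hz
        exact Subgroup.mem_sup_right (hAZ a ha z hz)
    exact h1 hx
  have h0 : π 1 = 0 := by
    have := hmul 1 (one_mem _) 1 (one_mem _)
    rw [mul_one] at this
    exact left_eq_add.1 this
  have hinv : ∀ x ∈ Q, π x⁻¹ = -π x := by
    intro x hx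
    have := hmul x hx x⁻¹ (inv_mem hx)
    rw [mul_inv_cancel, h0] at this
    exact (neg_eq_of_add_eq_zero_right this.symm).symm
  let W : AddSubgroup (F × F × F) :=
    { carrier := {v | ∃ m ∈ M, π m = v}
      add_mem' := by
        rintro _ _ ⟨m, hm, rfl⟩ ⟨m', hm', rfl⟩
        exact ⟨m * m', mul_mem hm hm', hmul m (hMQ hm) m' (hMQ hm')⟩
      zero_mem' := ⟨1, one_mem _, h0⟩
      neg_mem' := by
        rintro _ ⟨m, hm, rfl⟩
        exact ⟨m⁻¹, inv_mem hm, hinv m (hMQ hm)⟩ }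
  have hW : W = ⊤ := by
    refine span hF h2 h4 W ?_ ?_
    · rintro α _ ⟨m, hm, rfl⟩
      obtain ⟨a, ha, h⟩ := hA α
      exact ⟨a * m * a⁻¹, hMA a ha m hm, h m (hMQ hm)⟩
    · refine ⟨w, Subgroup.mem_sup_left (Subgroup.subset_closure ⟨1, one_mem _, by group⟩), hw1⟩
  intro x hx
  have h3 : π x ∈ W := by rw [hW]; trivial
  obtain ⟨m, hm, e⟩ := h3
  have h5 : m⁻¹ * x ∈ Z := by
    refine hker _ (mul_mem (inv_mem (hMQ hm)) hx) ?_
    rw [hmul _ (inv_mem (hMQ hm)) _ hx, hinv m (hMQ hm), e, neg_add_cancel]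
  have h6 := mul_mem hm (Subgroup.mem_sup_right h5 : m⁻¹ * x ∈ M)
  rwa [mul_inv_cancel_left] at h6

end Cfsg.Agent.RankTwoClose.UFive.Weights
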