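import Cfsg.Agent.RankTwoClose.UFive.LAbs
import Cfsg.Agent.RankTwoClose.UFive.Weights
import Cfsg.Agent.Omega.NOne.SU.HermSemi

/-!
# `U₅(q)`: the side `L` from THEOREM UNI, part 4: the torus `A`

* `mem_UU_of_e` : the stabiliser of `e₀` in `L` is `UU`;
* `TT` : the stabiliser of `F e₀`, `F f₀` in `L`; `exists_A` : a complement `A` of `Q` in `TT`;
* `Tor A` : the properties of `A`.
-/

set_option autoImplicit false
set_option linter.unusedSectionVars false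

open Subgroup

namespace Cfsg.Agent.RankTwoClose.UFive.LSide

open Cfsg.Agent.Omega.NOne.SU
open Cfsg.Agent.RankTwoClose.UFour (cj cj_mul cj_inv_cj cj_cj_inv cj_one mem_norm_iff cj_eq_of_mem)

/-- in a 2-group, a proper subgroup is properly contained in its normaliser -/
theorem exists_norm_of_lt {G : Type*} [Group G] [Finite G] {P U : Subgroup G} (hP : IsPGroup 2 P) (hU : U ≤ P)
    (hne : ¬ P ≤ U) : ∃ x ∈ P, x ∉ U ∧ cj x U = U := by
  have : Fact (Nat.Prime 2) := ⟨Nat.prime_two⟩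
  have hnil : Group.IsNilpotent P := hP.isNilpotent
  have hnc : NormalizerCondition P := Group.normalizerCondition_of_isNilpotent
  have hlt : U.subgroupOf P < ⊤ := by
    rw [lt_top_iff_ne_top]
    intro h
    exact hne (subgroupOf_eq_top.1 h)
  obtain ⟨x, hx, hxn⟩ := SetLike.exists_of_lt (hnc _ hlt)
  refine ⟨x, x.2, fun h => hxn (mem_subgroupOf.2 h), ?_⟩
  rw [← mem_norm_iff, mem_normalizer_iff]
  intro u
  rw [mem_normalizer_iff] at hx
  constructor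
  · intro hu
    exact (hx ⟨u, hU hu⟩).1 (mem_subgroupOf.2 hu)
  · intro hu
    have h1 : u ∈ P := by
      have h2 := mul_mem (mul_mem (inv_mem x.2) (hU hu)) x.2
      have e : (x : G)⁻¹ * (x * u * (x : G)⁻¹) * x = u := by group
      rwa [e] at h2
    exact (hx ⟨u, h1⟩).2 (mem_subgroupOf.2 hu)

variable {G : Type*} [Group G] {k F : Type*} [Field k] [Field F] [Algebra k F]

/-- the stabiliser of the two points -/
def TT (V R Q Q' : Subgroup G) (n₀ : G) : Subgroup G :=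
  LL V R Q Q' ⊓ (normalizer (UU V Q Q' : Set G) ⊓ normalizer (cj n₀ (UU V Q Q') : Set G))

theorem mem_TT {V R Q Q' : Subgroup G} {n₀ t : G} : t ∈ TT V R Q Q' n₀ ↔
    t ∈ LL V R Q Q' ∧ cj t (UU V Q Q') = UU V Q Q' ∧ cj t (cj n₀ (UU V Q Q')) = cj n₀ (UU V Q Q') := by
  rw [TT, mem_inf, mem_inf, mem_norm_iff, mem_norm_iff]

section

variable {T : Quad k F} {S : Sylow 2 G} {V R Q Q' : Subgroup G} {v : k → F → k → G} {p p' : G → F}
    {Φ : Type*} [AddCommGroup Φ] [Module F Φ] {φ χ : G → Φ} {hm : Φ → Φ → F}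
    {W : Type*} [AddCommGroup W] [Module F W] {w : G → W} {g : W → W → F} {f₀ : W}
    {ι : Φ →ₗ[F] W} (D : Out T V R Q Q' v p φ χ hm w g f₀ ι) (I : GIn T S V R Q Q' v p p')
    {x₀ : Φ} (hx : ∀ x : Φ, ∃ s : F, x = s • x₀) (hne : x₀ ≠ 0) {n₀ : G} (N : Sw D n₀)

include I hx N in
/-- an element of `L` which stabilises `F e₀` is `u t` with `t` diagonal -/
theorem exists_ut [CharP k 2] (Fd : Fld T V R Q Q' v p φ χ) {c : G} (hc : c ∈ LL V R Q Q') {a : F}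
    (ha : D.rho c (w (v 0 1 0)) = a • w (v 0 1 0)) : ∃ u ∈ UU V Q Q', ∃ b : F,
      D.rho (u⁻¹ * c) (w (v 0 1 0)) = a • w (v 0 1 0) ∧ D.rho (u⁻¹ * c) f₀ = b • f₀ := by
  have _ := N
  have hcN := LL_NR D I hc
  have hcL := LL_le_Lin D I hc
  have ha0 : a ≠ 0 := by
    rintro rfl
    rw [zero_smul] at ha
    apply D.e_ne
    rw [← D.rho_inv_left I hcN (w (v 0 1 0)), ha, D.rho_zero I (inv_mem hcN)]
  have h1 : g (D.rho c f₀) (w (v 0 1 0)) * T.sg a = 1 := by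
    have h2 := g_rho D I hcL f₀ (w (v 0 1 0))
    rw [ha, D.g_smul_right, D.g_fe] at h2
    rw [mul_comm]; exact h2
  have h6 : g (D.rho c f₀) (D.rho c f₀) = 0 := by rw [g_rho D I hcL, D.g_ff]
  have h7 : D.rho c f₀ ≠ 0 := by
    intro h0
    rw [h0, D.g_zero_left, zero_mul] at h1
    exact zero_ne_one h1
  rcases point D hx h7 h6 with ⟨s, -, hs⟩ | ⟨y, r, b, -, hr, hb, hy⟩
  · exfalso
    rw [hs, D.g_smul, D.g_ee, mul_zero, zero_mul] at h1
    exact zero_ne_one h1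
  · obtain ⟨u, hu, hju⟩ := exists_jm D I Fd hr
    have huU : u ∈ UU V Q Q' := NN_le_UU hu
    have huN := UU_NR I huU
    have huLin := UU_le_Lin D I huU
    refine ⟨u, huU, b, ?_, ?_⟩
    · have e8 : D.rho u (w (v 0 1 0)) = w (v 0 1 0) := by rw [hju, jm_e D]
      have e9 : D.rho u⁻¹ (w (v 0 1 0)) = w (v 0 1 0) := by
        have := D.rho_inv_left I huN (w (v 0 1 0))
        rwa [e8] at this
      rw [D.rho_mul I (inv_mem huN) hcN, ha, rho_smul D I (inv_mem huLin), e9]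
    · have e9 : D.rho u f₀ = f₀ + ι y + r • w (v 0 1 0) := by rw [hju, jm_f D]
      rw [D.rho_mul I (inv_mem huN) hcN, hy, ← e9, rho_smul D I (inv_mem huLin), D.rho_inv_left I huN]

include I hx hne N in
/-- the stabiliser of `e₀` in `L` is `UU` -/
theorem mem_UU_of_e [CharP k 2] (Fd : Fld T V R Q Q' v p φ χ) {c : G} (hc : c ∈ LL V R Q Q')
    (h : D.rho c (w (v 0 1 0)) = w (v 0 1 0)) : c ∈ UU V Q Q' := by
  obtain ⟨u, hu, b, h1, h2⟩ := exists_ut D I hx N Fd hc (a := 1) (by rw [h, one_smul])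
  have hL : u⁻¹ * c ∈ LL V R Q Q' := mul_mem (inv_mem (UU_le_LL V R Q Q' hu)) hc
  have hLin := LL_le_Lin D I hL
  obtain ⟨-, hb, h3⟩ := diag_of D I hx hne hLin (dt_LL D I hL) h1 h2
  have h4 : u⁻¹ * c ∈ Q := by
    apply D.mem_Q_of_rho I (LL_NR D I hL)
    intro m
    obtain ⟨x, y, z, rfl⟩ := D.span m
    rw [D.rho_add I (LL_NR D I hL), D.rho_add I (LL_NR D I hL), rho_smul D I hLin, rho_smul D I hLin, h1, h2,
      h3, hb, map_one, inv_one, mul_one, one_smul, one_smul, one_smul]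
  have h5 : c = u * (u⁻¹ * c) := by group
  rw [h5]
  exact mul_mem hu (Q_le_UU h4)

include I hx hne N in
/-- the elements of `TT` are diagonal -/
theorem TT_diag [CharP k 2] (Fd : Fld T V R Q Q' v p φ χ) {t : G} (ht : t ∈ TT V R Q Q' n₀) :
    ∃ a : F, a ≠ 0 ∧ D.rho t (w (v 0 1 0)) = a • w (v 0 1 0) ∧ D.rho t f₀ = (T.sg a)⁻¹ • f₀ ∧
      ∀ x, D.rho t (ι x) = (T.sg a * a⁻¹) • ι x := by
  obtain ⟨h1, h2, h3⟩ := mem_TT.1 ht
  have hN := LL_NR D I h1
  obtain ⟨a, ha⟩ := stab_of_norm D I Fd hN h2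
  obtain ⟨b, hb⟩ := stab_f D I N Fd hN h3
  obtain ⟨ha0, hb', h4⟩ := diag_of D I hx hne (LL_le_Lin D I h1) (dt_LL D I h1) ha hb
  exact ⟨a, ha0, ha, by rw [hb, hb'], h4⟩

include I N in
/-- a diagonal element of `L` is in `TT` -/
theorem mem_TT_of [CharP k 2] {t : G} (ht : t ∈ LL V R Q Q') {a b : F}
    (ha : D.rho t (w (v 0 1 0)) = a • w (v 0 1 0)) (hb : D.rho t f₀ = b • f₀) : t ∈ TT V R Q Q' n₀ := by
  have hN := LL_NR D I ht
  exact mem_TT.2 ⟨ht, norm_UU D I hN ⟨a, ha⟩, cj_of_f D I N hN ⟨b, hb⟩⟩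

include I N in
theorem Q_le_TT [CharP k 2] : Q ≤ TT V R Q Q' n₀ := by
  intro y hy
  exact mem_TT_of D I N (UU_le_LL V R Q Q' (Q_le_UU hy)) (a := 1) (b := 1) (by rw [D.rho_Q I hy, one_smul])
    (by rw [D.rho_Q I hy, one_smul])

include I hx hne N in
theorem mem_Q_of_TT [CharP k 2] (Fd : Fld T V R Q Q' v p φ χ) {t : G} (ht : t ∈ TT V R Q Q' n₀)
    (h : D.rho t (w (v 0 1 0)) = w (v 0 1 0)) : t ∈ Q := by
  obtain ⟨a, ha0, ha, hb, hc⟩ := TT_diag D I hx hne N Fd ht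
  have hL := (mem_TT.1 ht).1
  have hLin := LL_le_Lin D I hL
  have h1 : a = 1 := by
    have h2 : g (a • w (v 0 1 0)) f₀ = g (w (v 0 1 0)) f₀ := by rw [← ha, h]
    rwa [D.g_smul, D.g_ef, mul_one] at h2
  subst h1
  apply D.mem_Q_of_rho I (LL_NR D I hL)
  intro m
  obtain ⟨x, y, z, rfl⟩ := D.span m
  rw [D.rho_add I (LL_NR D I hL), D.rho_add I (LL_NR D I hL), rho_smul D I hLin, rho_smul D I hLin, ha, hb,
    hc, map_one, inv_one, mul_one, one_smul, one_smul, one_smul]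

/-- the properties of the torus -/
structure Tor (D : Out T V R Q Q' v p φ χ hm w g f₀ ι) (n₀ : G) (A : Subgroup G) : Prop where
  le : A ≤ TT V R Q Q' n₀
  odd : Odd (Nat.card A)
  inf : ∀ a ∈ A, a ∈ Q → a = 1
  fac : ∀ t ∈ TT V R Q Q' n₀, ∃ q ∈ Q, ∃ a ∈ A, t = q * a

include I hx hne N in
theorem exists_A [CharP k 2] [Finite G] (Fd : Fld T V R Q Q' v p φ χ) : ∃ A, Tor D n₀ A := by
  have : Fact (Nat.Prime 2) := ⟨Nat.prime_two⟩
  have hF : CharP F 2 := Quad.charF k F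
  have hQT : Q ≤ TT V R Q Q' n₀ := Q_le_TT D I N
  have hnor : (Q.subgroupOf (TT V R Q Q' n₀)).Normal := by
    constructor
    intro y hy t
    rw [mem_subgroupOf] at hy ⊢
    exact I.nor t (LL_NR D I (mem_TT.1 t.2).1) y hy
  have hodd : ¬ 2 ∣ (Q.subgroupOf (TT V R Q Q' n₀)).index := by
    intro hdvd
    rw [Subgroup.index] at hdvd
    obtain ⟨x, hx2⟩ := exists_prime_orderOf_dvd_card' (G := TT V R Q Q' n₀ ⧸ Q.subgroupOf (TT V R Q Q' n₀)) 2 hdvd
    obtain ⟨t, rfl⟩ := QuotientGroup.mk_surjective x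
    have h1 : ((t : TT V R Q Q' n₀ ⧸ Q.subgroupOf (TT V R Q Q' n₀))) ^ 2 = 1 := by
      rw [← hx2]; exact pow_orderOf_eq_one _
    have h2 : (t : TT V R Q Q' n₀ ⧸ Q.subgroupOf (TT V R Q Q' n₀)) ≠ 1 := by
      intro h
      rw [h, orderOf_one] at hx2
      exact absurd hx2 (by norm_num)
    rw [← QuotientGroup.mk_pow, QuotientGroup.eq_one_iff, mem_subgroupOf] at h1
    rw [Ne, QuotientGroup.eq_one_iff, mem_subgroupOf] at h2
    apply h2
    obtain ⟨a, ha0, ha, hb, hc⟩ := TT_diag D I hx hne N Fd t.2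
    have htN := LL_NR D I (mem_TT.1 t.2).1
    have htL := LL_le_Lin D I (mem_TT.1 t.2).1
    have h3 : D.rho ((t : G) ^ 2) (w (v 0 1 0)) = w (v 0 1 0) := D.rho_Q I h1 _
    rw [pow_two, D.rho_mul I htN htN, ha, rho_smul D I htL, ha, smul_smul] at h3
    have h4 : a * a = 1 := by
      have h5 := congrArg (fun m => g m f₀) h3
      simp only [D.g_smul, D.g_ef, mul_one] at h5
      exact h5
    have h5 : a = 1 := eq_one_of_pow (m := 1) (by rw [pow_one, pow_two, h4])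
    apply mem_Q_of_TT D I hx hne N Fd t.2
    rw [ha, h5, one_smul]
  have hodd' : Odd (Q.subgroupOf (TT V R Q Q' n₀)).index := Nat.odd_iff.2 (by omega)
  have hcop : (Nat.card (Q.subgroupOf (TT V R Q Q' n₀))).Coprime (Q.subgroupOf (TT V R Q Q' n₀)).index := by
    have hp : IsPGroup 2 (Q.subgroupOf (TT V R Q Q' n₀)) := by
      intro x
      obtain ⟨m, hm⟩ := I.Q_two ⟨x.1.1, mem_subgroupOf.1 x.2⟩
      refine ⟨m, ?_⟩
      apply Subtype.ext
      apply Subtype.ext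
      exact congrArg (fun z : Q => (z : G)) hm
    obtain ⟨m, hm⟩ := (IsPGroup.iff_card (p := 2)).1 hp
    rw [hm]
    exact Nat.Coprime.pow_left m (Nat.coprime_two_left.2 hodd')
  obtain ⟨H, hH⟩ := Subgroup.exists_right_complement'_of_coprime hcop
  refine ⟨H.map (TT V R Q Q' n₀).subtype, ?_, ?_, ?_, ?_⟩
  · exact map_subtype_le H
  · have h1 : Nat.card (H.map (TT V R Q Q' n₀).subtype) = Nat.card H :=
      Nat.card_congr (H.equivMapOfInjective _ (Subtype.val_injective)).toEquiv.symm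
    rw [h1, ← hH.symm.index_eq_card]
    exact hodd'
  · rintro _ ⟨a, ha, rfl⟩ haQ
    have h1 := hH.disjoint.le_bot (mem_inf.2 ⟨mem_subgroupOf.2 haQ, ha⟩)
    rw [mem_bot] at h1
    rw [h1]; rfl
  · intro t ht
    obtain ⟨⟨q, a⟩, h1⟩ := hH.2 ⟨t, ht⟩
    refine ⟨q.1.1, mem_subgroupOf.1 q.2, a.1.1, ⟨a.1, a.2, rfl⟩, ?_⟩
    exact (congrArg (fun z : TT V R Q Q' n₀ => (z : G)) h1).symm

variable {A : Subgroup G} (HA : Tor D n₀ A)

include HA in
theorem A_LL : A ≤ LL V R Q Q' := fun _ ha => (mem_TT.1 (HA.le ha)).1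

include HA in
theorem A_norm : A ≤ normalizer (UU V Q Q' : Set G) := fun _ ha => mem_norm_iff.2 (mem_TT.1 (HA.le ha)).2.1

include I hx hne N HA in
theorem A_comm [CharP k 2] (Fd : Fld T V R Q Q' v p φ χ) : ∀ a ∈ A, ∀ b ∈ A, a * b = b * a := by
  intro a ha b hb
  have hcA : a * b * a⁻¹ * b⁻¹ ∈ A := mul_mem (mul_mem (mul_mem ha hb) (inv_mem ha)) (inv_mem hb)
  have haL := A_LL D HA ha
  have hbL := A_LL D HA hb
  have haN := LL_NR D I haL
  have hbN := LL_NR D I hbL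
  obtain ⟨α, hα0, hα, -⟩ := TT_diag D I hx hne N Fd (HA.le ha)
  obtain ⟨β, hβ0, hβ, -⟩ := TT_diag D I hx hne N Fd (HA.le hb)
  have h1 : D.rho (a * b) (w (v 0 1 0)) = D.rho (b * a) (w (v 0 1 0)) := by
    rw [D.rho_mul I haN hbN, D.rho_mul I hbN haN, hα, hβ, rho_smul D I (LL_le_Lin D I haL),
      rho_smul D I (LL_le_Lin D I hbL), hα, hβ, smul_smul, smul_smul, mul_comm]
  have h2 : D.rho ((b * a)⁻¹ * (a * b)) (w (v 0 1 0)) = w (v 0 1 0) := by
    rw [D.rho_mul I (inv_mem (mul_mem hbN haN)) (mul_mem haN hbN), h1, D.rho_inv_left I (mul_mem hbN haN)]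
  have hm : (b * a)⁻¹ * (a * b) ∈ A := mul_mem (inv_mem (mul_mem hb ha)) (mul_mem ha hb)
  have h3 := HA.inf _ hm (mem_Q_of_TT D I hx hne N Fd (HA.le hm) h2)
  exact (inv_mul_eq_one.1 h3).symm

include I hx hne N HA in
/-- every weight occurs -/
theorem exists_a [CharP k 2] (Fd : Fld T V R Q Q' v p φ χ) {c : F} (hc : c ≠ 0) : ∃ a ∈ A,
    D.rho a (w (v 0 1 0)) = c • w (v 0 1 0) ∧ D.rho a f₀ = (T.sg c)⁻¹ • f₀ ∧
      ∀ x, D.rho a (ι x) = (T.sg c * c⁻¹) • ι x := by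
  obtain ⟨t, htL, h1, h2, h3⟩ := exists_tor D I hx hne N Fd hc
  obtain ⟨q, hq, a, ha, rfl⟩ := HA.fac t (mem_TT_of D I N htL h1 h2)
  have haN := LL_NR D I (A_LL D HA ha)
  have h4 : ∀ m, D.rho (q * a) m = D.rho a m := by
    intro m
    rw [D.rho_mul I (I.Q_NR hq) haN, D.rho_Q I hq]
  refine ⟨a, ha, ?_, ?_, ?_⟩
  · rw [← h4, h1]
  · rw [← h4, h2]
  · intro x
    rw [← h4, h3]

include I hx hne N HA in
/-- `N_L(UU) = UU A` -/
theorem norm_le [CharP k 2] (Fd : Fld T V R Q Q' v p φ χ) {c : G} (hc : c ∈ LL V R Q Q')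
    (h : cj c (UU V Q Q') = UU V Q Q') : c ∈ UU V Q Q' ⊔ A := by
  obtain ⟨a, ha⟩ := stab_of_norm D I Fd (LL_NR D I hc) h
  obtain ⟨u, hu, b, h1, h2⟩ := exists_ut D I hx N Fd hc ha
  have hL : u⁻¹ * c ∈ LL V R Q Q' := mul_mem (inv_mem (UU_le_LL V R Q Q' hu)) hc
  obtain ⟨q, hq, a', ha', e⟩ := HA.fac _ (mem_TT_of D I N hL h1 h2)
  have e2 : c = u * q * a' := by rw [mul_assoc, ← e]; group
  rw [e2]
  exact mul_mem (mem_sup_left (mul_mem hu (Q_le_UU hq))) (mem_sup_right ha')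

include I hx hne N in
/-- `UU` is a Sylow subgroup of `L` -/
theorem sylow_LL [CharP k 2] [Finite G] (Fd : Fld T V R Q Q' v p φ χ) : ∀ P ≤ LL V R Q Q', IsPGroup 2 P →
    UU V Q Q' ≤ P → P ≤ UU V Q Q' := by
  intro P hPL hP hU
  have hF : CharP F 2 := Quad.charF k F
  by_contra hcon
  obtain ⟨x, hxP, hxU, hn⟩ := exists_norm_of_lt hP hU hcon
  have hxL := hPL hxP
  have hxN := LL_NR D I hxL
  obtain ⟨a, ha⟩ := stab_of_norm D I Fd hxN hn
  apply hxU
  apply mem_UU_of_e D I hx hne N Fd hxL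
  obtain ⟨m, hm⟩ := hP ⟨x, hxP⟩
  have hm' : x ^ 2 ^ m = 1 := congrArg (fun z : P => (z : G)) hm
  have key : ∀ j : ℕ, D.rho (x ^ j) (w (v 0 1 0)) = a ^ j • w (v 0 1 0) := by
    intro j
    induction j with
    | zero => rw [pow_zero, pow_zero, D.rho_one I, one_smul]
    | succ j ih =>
      rw [pow_succ, D.rho_mul I (pow_mem hxN j) hxN, ha, rho_smul D I (pow_mem (LL_le_Lin D I hxL) j), ih,
        smul_smul, pow_succ, mul_comm]
  have h1 := key (2 ^ m)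
  rw [hm', D.rho_one I] at h1
  have h2 : a ^ 2 ^ m = 1 := by
    have h5 := congrArg (fun m => g m f₀) h1
    simp only [D.g_smul, D.g_ef, mul_one] at h5
    exact h5.symm
  rw [ha, eq_one_of_pow h2, one_smul]

end

end Cfsg.Agent.RankTwoClose.UFive.LSide
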