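import Cfsg.Agent.RankTwoClose.UFive.Kill

/-!
# Closing of the type `U₅(q)`: orders, fixed points of the torus

`|T| = q³`, `|Q1| = q⁸`, `|Q2| = q⁷`, `|U| = q¹⁰`; `C_U(H) = 1`, `n1², n2² ∈ H`; `Q1/V` and `Q2/Z` are
elementary abelian, `[n1 T n1⁻¹, n2 Y n2⁻¹] Y = Q1 ∩ Q2`.
-/

set_option autoImplicit false
set_option linter.unusedSectionVars false
set_option linter.style.haveILetI false

namespace Cfsg.Agent.RankTwoClose.UFive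

open Subgroup Cfsg.Agent.Omega.BTwo

section Gen

variable {G : Type*} [Group G]

/-- the elements of `U` whose coset of `K` is fixed by `A` -/
def fixOn (A U K : Subgroup G) (hK : U ≤ normalizer (K : Set G)) : Subgroup G where
  carrier := {u | u ∈ U ∧ ∀ h ∈ A, h * u * h⁻¹ * u⁻¹ ∈ K}
  one_mem' := ⟨one_mem _, fun h _ => by
    have : h * 1 * h⁻¹ * 1⁻¹ = 1 := by group
    rw [this]; exact one_mem _⟩
  mul_mem' := by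
    rintro a b ⟨ha1, ha2⟩ ⟨hb1, hb2⟩
    refine ⟨mul_mem ha1 hb1, fun h hh => ?_⟩
    have e : h * (a * b) * h⁻¹ * (a * b)⁻¹ = (h * a * h⁻¹ * a⁻¹) * (a * (h * b * h⁻¹ * b⁻¹) * a⁻¹) := by group
    rw [e]
    exact mul_mem (ha2 h hh) (conj_mem_of_normalizer (hK ha1) (hb2 h hh))
  inv_mem' := by
    rintro a ⟨ha1, ha2⟩
    refine ⟨inv_mem ha1, fun h hh => ?_⟩
    have e : h * a⁻¹ * h⁻¹ * a⁻¹⁻¹ = a⁻¹ * (h * a * h⁻¹ * a⁻¹)⁻¹ * a⁻¹⁻¹ := by group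
    rw [e]
    exact conj_mem_of_normalizer (hK (inv_mem ha1)) (inv_mem (ha2 h hh))

theorem mem_fixOn {A U K : Subgroup G} {hK : U ≤ normalizer (K : Set G)} {u : G} :
    u ∈ fixOn A U K hK ↔ u ∈ U ∧ ∀ h ∈ A, h * u * h⁻¹ * u⁻¹ ∈ K := Iff.rfl

theorem exists_sq_mem {A B : Subgroup G} (hA : IsPGroup 2 A) (hne : ∃ a ∈ A, a ∉ B) :
    ∃ a ∈ A, a ∉ B ∧ a * a ∈ B := by
  obtain ⟨a, ha, haB⟩ := hne
  obtain ⟨k, hk⟩ := hA ⟨a, ha⟩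
  have hk' : a ^ 2 ^ k = 1 := congrArg Subtype.val hk
  have h1 : ∀ k : ℕ, ∀ a ∈ A, a ∉ B → a ^ 2 ^ k ∈ B → ∃ a ∈ A, a ∉ B ∧ a * a ∈ B := by
    intro k
    induction k with
    | zero => intro a _ h1 h2; rw [pow_zero, pow_one] at h2; exact absurd h2 h1
    | succ k ih =>
      intro a ha h1 h2
      by_cases h3 : a * a ∈ B
      · exact ⟨a, ha, h1, h3⟩
      · refine ih (a * a) (mul_mem ha ha) h3 ?_
        rw [← pow_two, ← pow_mul, ← pow_succ']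
        exact h2
  exact h1 k a ha haB (by rw [hk']; exact one_mem _)

end Gen

namespace Inp

variable {G : Type*} [Group G] {q : ℕ} {L1 L2 U Q1 Q2 V Y Z H : Subgroup G} {n1 n2 : G}
  (I : Inp q L1 L2 U Q1 Q2 V Y Z H n1 n2) [Finite G]

include I

local notation "𝐖" => (V ⊔ TT Q2 V n2)
local notation "𝐉" => ((V ⊔ TT Q2 V n2) ⊓ cj n1 (V ⊔ TT Q2 V n2))

/-- `[U, V T] ≤ V` -/
theorem U_W' {u w : G} (hu : u ∈ U) (hw : w ∈ 𝐖) : u * w * u⁻¹ * w⁻¹ ∈ V := I.J_eq.le (I.U_W hu hw)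

/-- `[Q1, Q1] ≤ V` -/
theorem Q1_Q1' {x y : G} (hx : x ∈ Q1) (hy : y ∈ Q1) : x * y * x⁻¹ * y⁻¹ ∈ V := I.J_eq.le (I.Q1_Q1 hx hy)

theorem V_rel_W : V.relIndex 𝐖 = q ^ 2 := by
  have h1 := I.J_rel
  rwa [I.J_eq] at h1

theorem card_W : Nat.card ↥𝐖 = q ^ 6 := by
  rw [← card_mul_rel (le_sup_left : V ≤ 𝐖), I.card_V, I.V_rel_W]; ring

theorem card_Q1 : Nat.card Q1 = q ^ 8 := by
  rw [← card_mul_rel I.VT_Q1, I.card_W, I.W_rel]; ring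

theorem card_U : Nat.card U = q ^ 10 := by
  rw [← card_mul_rel I.Q1_U, I.card_Q1, I.card_U1]; ring

theorem Z_rel_T : Z.relIndex (TT Q2 V n2) = q ^ 2 := by
  rw [← I.T_inf_V, inf_relIndex_left, ← I.V_rel_W]
  refine relIndex_eq_of_exists_mul le_sup_right fun w hw => ?_
  obtain ⟨v, hv, t, ht, e⟩ := I.mem_VT (inv_mem hw)
  exact ⟨t⁻¹, inv_mem ht, v⁻¹, inv_mem hv, by rw [← mul_inv_rev, ← e, inv_inv]⟩

theorem card_T : Nat.card ↥(TT Q2 V n2) = q ^ 3 := by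
  rw [← card_mul_rel I.Z_T, I.card_Z, I.Z_rel_T]; ring

theorem V_inf_Q2 : V ⊓ Q2 = Y := le_antisymm I.VQ (le_inf I.Y_V I.Y_Q2)

theorem Q2_rel : Q2.relIndex (V ⊔ Q2) = q := by
  have h1 : Q2.relIndex V = Q2.relIndex (V ⊔ Q2) :=
    relIndex_eq_of_exists_mul le_sup_left fun u hu => exists_of_mem_sup I.V_Q2n hu
  rw [← h1, ← inf_relIndex_left, I.V_inf_Q2]
  have h2 := card_mul_rel I.Y_V
  rw [I.card_Y, I.card_V, pow_succ] at h2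
  exact Nat.eq_of_mul_eq_mul_left (pow_pos I.q_pos 3) h2

theorem VQ2_U : V ⊔ Q2 ≤ U := sup_le I.V_U I.Q2_U

theorem card_VQ2 : Nat.card ↥(V ⊔ Q2) = q ^ 8 := by
  have h1 := card_mul_rel I.VQ2_U
  rw [I.card_U, I.card_U2, show q ^ 10 = q ^ 8 * q ^ 2 by ring] at h1
  exact Nat.eq_of_mul_eq_mul_right (pow_pos I.q_pos 2) h1

theorem card_Q2 : Nat.card Q2 = q ^ 7 := by
  have h1 := card_mul_rel (le_sup_right : Q2 ≤ V ⊔ Q2)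
  rw [I.card_VQ2, I.Q2_rel, pow_succ] at h1
  exact Nat.eq_of_mul_eq_mul_right I.q_pos h1

theorem Q2_rel_U : Q2.relIndex U = q ^ 3 := by
  have h1 := card_mul_rel I.Q2_U
  rw [I.card_U, I.card_Q2, show q ^ 10 = q ^ 7 * q ^ 3 by ring] at h1
  exact Nat.eq_of_mul_eq_mul_left (pow_pos I.q_pos 7) h1

/-- `E ∩ Q2 = 1`, `E = n1 T n1⁻¹` -/
theorem E_inf : cj n1 (TT Q2 V n2) ⊓ Q2 = ⊥ := by
  have h1 : Q2.relIndex (cj n1 (TT Q2 V n2)) = q ^ 3 := by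
    rw [← I.Q2_rel_U]
    exact relIndex_eq_of_exists_mul (I.cj_T_Q1.trans I.Q1_U) fun u hu => I.exists_EQ2 hu
  have h2 := card_mul_rel (inf_le_left : cj n1 (TT Q2 V n2) ⊓ Q2 ≤ cj n1 (TT Q2 V n2))
  rw [inf_relIndex_left, h1, card_cj, I.card_T] at h2
  refine Subgroup.card_eq_one.1 ?_
  exact Nat.eq_of_mul_eq_mul_right (pow_pos I.q_pos 3) (h2.trans (one_mul _).symm)

theorem not_V_le_Y : ¬ V ≤ Y := by
  intro hV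
  have h3 := Subgroup.card_le_of_le hV
  rw [I.card_V, I.card_Y, pow_succ] at h3
  have h4 := Nat.le_of_mul_le_mul_left (h3.trans (mul_one _).ge) (pow_pos I.q_pos 3)
  have := I.q4
  omega

/-! ### Fixed points of `H ∩ L1` -/

theorem U_VQ2 : U ≤ normalizer ((V ⊔ Q2 : Subgroup G) : Set G) := le_normalizer_sup' I.U_V I.U_Q2

theorem H_VQ2 : H ≤ normalizer ((V ⊔ Q2 : Subgroup G) : Set G) := le_normalizer_sup' I.H_V I.H_Q2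

theorem conj_H1 {g h : G} (hg : g ∈ H) (hh : h ∈ H ⊓ L1) : g⁻¹ * h * g ∈ H ⊓ L1 :=
  mem_inf.2 ⟨mul_mem (mul_mem (inv_mem hg) hh.1) hg, conj_inv_mem_of_normalizer (I.H_L1 hg) hh.2⟩

theorem n1_conj_H1 {h : G} (hh : h ∈ H ⊓ L1) : n1⁻¹ * h * n1 ∈ H ⊓ L1 := mem_inf.2
  ⟨conj_inv_mem_of_normalizer I.n1_H hh.1, mul_mem (mul_mem (inv_mem I.n1_mem) hh.2) I.n1_mem⟩

theorem n1_conj_H1' {h : G} (hh : h ∈ H ⊓ L1) : n1 * h * n1⁻¹ ∈ H ⊓ L1 := mem_inf.2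
  ⟨conj_mem_of_normalizer I.n1_H hh.1, mul_mem (mul_mem I.n1_mem hh.2) (inv_mem I.n1_mem)⟩

theorem fixU2 {u : G} (hu : u ∈ U) (h : ∀ h ∈ H ⊓ L1, h * u * h⁻¹ * u⁻¹ ∈ V ⊔ Q2) : u ∈ V ⊔ Q2 := by
  have h1 : V ⊔ Q2 ≤ fixOn (H ⊓ L1) U (V ⊔ Q2) I.U_VQ2 := fun x hx =>
    ⟨I.VQ2_U hx, fun h hh => mul_mem (conj_mem_of_normalizer (I.H_VQ2 hh.1) hx) (inv_mem hx)⟩
  rcases I.irrU _ h1 (fun x hx => hx.1) (fun g hg => mem_normalizer_of_conj fun x hx =>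
    ⟨conj_mem_of_normalizer (I.H_U hg) hx.1, fun h hh => by
      have h2 := conj_mem_of_normalizer (I.H_VQ2 hg) (hx.2 _ (I.conj_H1 hg hh))
      have e : g * (g⁻¹ * h * g * x * (g⁻¹ * h * g)⁻¹ * x⁻¹) * g⁻¹ =
        h * (g * x * g⁻¹) * h⁻¹ * (g * x * g⁻¹)⁻¹ := by group
      rwa [e] at h2⟩) with h2 | h2
  · rw [← h2]
    exact ⟨hu, h⟩
  · exfalso
    refine I.not_V_le_Y fun v hv => I.fixVY v hv fun h hh => ?_
    refine I.triv (I.H_U hh.1) (I.H_Q2 hh.1) (I.H_V hh.1) (fun u hu => ?_) v hv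
    rw [← h2] at hu
    exact hu.2 h hh

theorem fixW {x : G} (hx : x ∈ Q1) (h : ∀ h ∈ H ⊓ L1, h * x * h⁻¹ * x⁻¹ ∈ 𝐖) : x ∈ 𝐖 := by
  have h1 : 𝐖 ≤ V ⊔ Q2 := sup_le_sup_left I.T_Q2 V
  have h2 := I.fixU2 (I.Q1_U hx) fun a ha => h1 (h a ha)
  rw [I.VT_eq]
  exact ⟨hx, h2⟩

theorem fixW' {x : G} (hx : x ∈ Q1) (h : ∀ h ∈ H ⊓ L1, h * x * h⁻¹ * x⁻¹ ∈ cj n1 𝐖) : x ∈ cj n1 𝐖 := by
  rw [mem_cj]
  refine I.fixW (conj_inv_mem_of_normalizer I.n1_Q1 hx) fun a ha => ?_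
  have h1 := mem_cj.1 (h _ (I.n1_conj_H1' ha))
  have e : n1⁻¹ * (n1 * a * n1⁻¹ * x * (n1 * a * n1⁻¹)⁻¹ * x⁻¹) * n1 =
    a * (n1⁻¹ * x * n1) * a⁻¹ * (n1⁻¹ * x * n1)⁻¹ := by group
  rwa [e] at h1

/-- `C_{Q1/V}(H ∩ L1) = 1` -/
theorem fixQV {x : G} (hx : x ∈ Q1) (h : ∀ h ∈ H ⊓ L1, h * x * h⁻¹ * x⁻¹ ∈ V) : x ∈ V := by
  rw [← I.J_eq]
  exact mem_inf.2 ⟨I.fixW hx fun a ha => (I.V_J (h a ha)).1, I.fixW' hx fun a ha => (I.V_J (h a ha)).2⟩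

/-- `C_{Q1}(H ∩ L1) = 1` -/
theorem fixQ1 {x : G} (hx : x ∈ Q1) (h : ∀ h ∈ H ⊓ L1, h * x = x * h) : x = 1 :=
  I.fixV x (I.fixQV hx fun a ha => by rw [h a ha, mul_inv_cancel_right, mul_inv_cancel]; exact one_mem _) h

/-- **`C_U(H) = 1`** -/
theorem fixH {u : G} (hu : u ∈ U) (h : ∀ h ∈ H, h * u = u * h) : u = 1 := by
  have h1 : u ∈ V ⊔ Q2 := I.fixU2 hu fun a ha => by
    rw [h a ha.1, mul_inv_cancel_right, mul_inv_cancel]; exact one_mem _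
  obtain ⟨v, hv, w, hw, rfl⟩ := exists_of_mem_sup I.V_Q2n h1
  have h2 : v ∈ Y := by
    refine I.fixVY v hv fun a ha => I.VQ
      (mem_inf.2 ⟨mul_mem (conj_mem_of_normalizer (I.H_V ha.1) hv) (inv_mem hv), ?_⟩)
    have h3 := h a ha.1
    have e : a * v * a⁻¹ * v⁻¹ = v * w * (a * w⁻¹ * a⁻¹) * v⁻¹ := by
      calc a * v * a⁻¹ * v⁻¹ = (a * (v * w)) * w⁻¹ * a⁻¹ * v⁻¹ := by group
        _ = (v * w * a) * w⁻¹ * a⁻¹ * v⁻¹ := by rw [h3]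
        _ = v * w * (a * w⁻¹ * a⁻¹) * v⁻¹ := by group
    have e2 : v * w * (a * w⁻¹ * a⁻¹) * v⁻¹ = v * (w * (a * w⁻¹ * a⁻¹)) * v⁻¹ := by group
    rw [e, e2]
    exact conj_mem_of_normalizer (I.V_Q2n hv)
      (mul_mem hw (conj_mem_of_normalizer (I.H_Q2 ha.1) (inv_mem hw)))
  have h3 : v * w ∈ Q2 := mul_mem (I.Y_Q2 h2) hw
  obtain ⟨f, hf, x, hx, e⟩ := I.exists_mul hu
  rw [e] at h h3
  have hfH : ∀ a ∈ H, a * f * a⁻¹ ∈ cj n2 Y := fun a ha =>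
    conj_mem_of_normalizer (le_normalizer_cj I.n2_H I.H_Y ha) hf
  -- `[H, f] ≤ Z`
  have hfZ : ∀ a ∈ H, a * f * a⁻¹ * f⁻¹ ∈ Z := by
    intro a ha
    rw [← I.inf_eq, ← I.inf_Q1]
    refine mem_inf.2 ⟨mul_mem (hfH a ha) (inv_mem hf), ?_⟩
    have e3 : a * f * a⁻¹ * f⁻¹ = f * (x * (a * x⁻¹ * a⁻¹)) * f⁻¹ := by
      have := h a ha
      calc a * f * a⁻¹ * f⁻¹ = (a * (f * x)) * x⁻¹ * a⁻¹ * f⁻¹ := by group
        _ = (f * x * a) * x⁻¹ * a⁻¹ * f⁻¹ := by rw [this]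
        _ = f * (x * (a * x⁻¹ * a⁻¹)) * f⁻¹ := by group
    rw [e3]
    exact conj_mem_of_normalizer (I.U_Q1 (I.cj_Y_U hf))
      (mul_mem hx (conj_mem_of_normalizer (I.H_Q1 ha) (inv_mem hx)))
  have hg : n2⁻¹ * f * n2 ∈ Y := mem_cj.1 hf
  have hgZ : ∀ a ∈ H ⊓ L1, a * (n2⁻¹ * f * n2) * a⁻¹ * (n2⁻¹ * f * n2)⁻¹ ∈ Z := by
    intro a ha
    have h4 := hfZ _ (conj_mem_of_normalizer I.n2_H ha.1)
    have h5 : n2⁻¹ * (n2 * a * n2⁻¹ * f * (n2 * a * n2⁻¹)⁻¹ * f⁻¹) * n2 ∈ Z := by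
      rw [mul_assoc, ← I.ZL2 _ h4 n2 I.n2_L2, inv_mul_cancel_left]
      exact h4
    have e4 : n2⁻¹ * (n2 * a * n2⁻¹ * f * (n2 * a * n2⁻¹)⁻¹ * f⁻¹) * n2 =
      a * (n2⁻¹ * f * n2) * a⁻¹ * (n2⁻¹ * f * n2)⁻¹ := by group
    rwa [e4] at h5
  obtain ⟨z, hz, hz2⟩ := exists_fix I.H1_odd (inf_le_left.trans I.H_Z)
    (fun v hv w hw => I.V_ab (I.Z_V hv) (I.Z_V hw)) (fun v hv => I.V_sq v (I.Z_V hv)) hgZ
  have h6 := I.fixV _ (mul_mem (I.Z_V hz) (I.Y_V hg)) hz2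
  have h7 : n2⁻¹ * f * n2 ∈ Z := by
    have : n2⁻¹ * f * n2 = z⁻¹ := by rw [eq_inv_iff_mul_eq_one]; rw [I.V_ab (I.Y_V hg) (I.Z_V hz)]; exact h6
    rw [this]; exact inv_mem hz
  have h8 : f ∈ Q1 := by
    have : f = n2⁻¹ * f * n2 := by
      have h9 := I.ZL2 _ h7 n2 I.n2_L2
      calc f = n2 * (n2⁻¹ * f * n2) * n2⁻¹ := by group
        _ = (n2⁻¹ * f * n2) * n2 * n2⁻¹ := by rw [h9]
        _ = n2⁻¹ * f * n2 := by group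
    rw [this]
    exact I.V_Q1 (I.Z_V h7)
  rw [e]
  exact I.fixQ1 (mul_mem h8 hx) fun a ha => h a ha.1

theorem U_inf_H : U ⊓ H = ⊥ := by
  rw [eq_bot_iff]
  intro x hx
  obtain ⟨k, hk⟩ := I.two ⟨x, hx.1⟩
  have hk' : x ^ 2 ^ k = 1 := congrArg Subtype.val hk
  have h5 := orderOf_dvd_of_pow_eq_one hk'
  have h6 : (orderOf x).Coprime (2 ^ k) := Nat.Coprime.pow_right k (I.odd_H hx.2).coprime_two_right
  exact mem_bot.2 (orderOf_eq_one_iff.1 (Nat.eq_one_of_dvd_coprimes h6 dvd_rfl h5))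

/-- elements of `U H` as products -/
theorem exists_UH {b : G} (hb : b ∈ U ⊔ H) : ∃ u ∈ U, ∃ h ∈ H, b = u * h := by
  rw [sup_comm] at hb
  obtain ⟨h, hh, u, hu, e⟩ := exists_of_mem_sup I.H_U (inv_mem hb)
  exact ⟨u⁻¹, inv_mem hu, h⁻¹, inv_mem hh, by rw [← mul_inv_rev, ← e, inv_inv]⟩

/-- **`N_{UH}(H) = H`** -/
theorem normH {g : G} (hg : g ∈ U ⊔ H) (hn : g ∈ normalizer (H : Set G)) : g ∈ H := by
  obtain ⟨u, hu, h, hh, rfl⟩ := I.exists_UH hg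
  have hun : u ∈ normalizer (H : Set G) := by
    have := mul_mem hn (inv_mem (le_normalizer hh))
    rwa [mul_inv_cancel_right] at this
  have h1 : u = 1 := by
    refine I.fixH hu fun a ha => ?_
    have h2 : a * u * a⁻¹ * u⁻¹ ∈ U ⊓ H := by
      refine mem_inf.2 ⟨mul_mem (conj_mem_of_normalizer (I.H_U ha) hu) (inv_mem hu), ?_⟩
      have := mul_mem ha (conj_mem_of_normalizer hun (inv_mem ha))
      have e : a * (u * a⁻¹ * u⁻¹) = a * u * a⁻¹ * u⁻¹ := by group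
      rwa [e] at this
    rw [I.U_inf_H, mem_bot] at h2
    calc a * u = (a * u * a⁻¹ * u⁻¹) * u * a := by group
      _ = u * a := by rw [h2, one_mul]
  rw [h1, one_mul]
  exact hh

theorem n1_sq_H : n1 * n1 ∈ H := I.normH I.n1_sq (mul_mem I.n1_H I.n1_H)

theorem n2_sq_H : n2 * n2 ∈ H := I.normH I.n2_sq (mul_mem I.n2_H I.n2_H)

/-! ### `Q1/V` and `Q2/Z` are elementary abelian -/

theorem sq_U {u : G} (hu : u ∈ U) : u * u ∈ V ⊔ Q2 := by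
  let M : Subgroup G :=
    { carrier := {x | x ∈ U ∧ x * x ∈ V ⊔ Q2}
      one_mem' := ⟨one_mem _, by rw [one_mul]; exact one_mem _⟩
      mul_mem' := by
        rintro a b ⟨ha1, ha2⟩ ⟨hb1, hb2⟩
        refine ⟨mul_mem ha1 hb1, ?_⟩
        have e : a * b * (a * b) = a * a * (a⁻¹ * b * a⁻¹⁻¹ * b⁻¹) * (b * b) := by group
        rw [e]
        exact mul_mem (mul_mem ha2 (I.comU _ (inv_mem ha1) _ hb1)) hb2
      inv_mem' := by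
        rintro a ⟨ha1, ha2⟩
        refine ⟨inv_mem ha1, ?_⟩
        have := inv_mem ha2
        rwa [mul_inv_rev] at this }
  have h1 : V ⊔ Q2 ≤ M := fun x hx => ⟨I.VQ2_U hx, mul_mem hx hx⟩
  rcases I.irrU M h1 (fun x hx => hx.1) (fun g hg => mem_normalizer_of_conj fun x hx =>
    ⟨conj_mem_of_normalizer (I.H_U hg) hx.1, by
      have h2 := conj_mem_of_normalizer (I.H_VQ2 hg) hx.2
      have e : g * (x * x) * g⁻¹ = g * x * g⁻¹ * (g * x * g⁻¹) := by group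
      rwa [e] at h2⟩) with h2 | h2
  · exfalso
    have h3 : ∃ a ∈ U, a ∉ V ⊔ Q2 := by
      by_contra h4
      push Not at h4
      have h5 := Subgroup.card_le_of_le (h4 : U ≤ V ⊔ Q2)
      rw [I.card_U, I.card_VQ2] at h5
      have := I.q4
      have h6 : q ^ 8 < q ^ 10 := Nat.pow_lt_pow_right (by omega) (by omega)
      omega
    obtain ⟨a, ha, ha2, ha3⟩ := exists_sq_mem I.two h3
    apply ha2
    rw [← h2]
    exact ⟨ha, ha3⟩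
  · rw [← h2] at hu
    exact hu.2

/-- squares of elements of `Q1` are in `V` -/
theorem sq_Q1 {x : G} (hx : x ∈ Q1) : x * x ∈ V := by
  have h1 : ∀ x ∈ Q1, x * x ∈ 𝐖 := by
    intro x hx
    rw [I.VT_eq]
    exact mem_inf.2 ⟨mul_mem hx hx, I.sq_U (I.Q1_U hx)⟩
  rw [← I.J_eq]
  refine mem_inf.2 ⟨h1 x hx, mem_cj.2 ?_⟩
  have h2 := h1 _ (conj_inv_mem_of_normalizer I.n1_Q1 hx)
  have e : n1⁻¹ * x * n1 * (n1⁻¹ * x * n1) = n1⁻¹ * (x * x) * n1 := by group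
  rwa [e] at h2

theorem sq_T {t : G} (ht : t ∈ TT Q2 V n2) : t * t ∈ Z := by
  rw [← I.T_inf_V]
  exact mem_inf.2 ⟨mul_mem ht ht, I.sq_Q1 (I.T_Q1 ht)⟩

theorem com_T {s t : G} (hs : s ∈ TT Q2 V n2) (ht : t ∈ TT Q2 V n2) : s * t * s⁻¹ * t⁻¹ ∈ Z := by
  rw [← I.T_inf_V]
  exact mem_inf.2 ⟨mul_mem (mul_mem (mul_mem hs ht) (inv_mem hs)) (inv_mem ht), I.Q1_Q1' (I.T_Q1 hs) (I.T_Q1 ht)⟩

theorem Z_Q2 {z x : G} (hz : z ∈ Z) (hx : x ∈ Q2) : x * z = z * x := I.ZL2 z hz x (I.U_L2 (I.Q2_U hx))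

/-- `[Q2, Q2] ≤ Z` -/
theorem com_Q2 {x y : G} (hx : x ∈ Q2) (hy : y ∈ Q2) : x * y * x⁻¹ * y⁻¹ ∈ Z := by
  -- the centraliser of `y` modulo `Z`
  let C : G → Subgroup G := fun y =>
    { carrier := {x | x ∈ Q2 ∧ x * y * x⁻¹ * y⁻¹ ∈ Z}
      one_mem' := ⟨one_mem _, by
        have : 1 * y * 1⁻¹ * y⁻¹ = 1 := by group
        rw [this]; exact one_mem _⟩
      mul_mem' := by
        rintro a b ⟨ha1, ha2⟩ ⟨hb1, hb2⟩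
        refine ⟨mul_mem ha1 hb1, ?_⟩
        have h1 := I.Z_Q2 hb2 ha1
        have e : a * b * y * (a * b)⁻¹ * y⁻¹ = (b * y * b⁻¹ * y⁻¹) * (a * y * a⁻¹ * y⁻¹) := by
          calc a * b * y * (a * b)⁻¹ * y⁻¹ = (a * (b * y * b⁻¹ * y⁻¹)) * y * a⁻¹ * y⁻¹ := by group
            _ = ((b * y * b⁻¹ * y⁻¹) * a) * y * a⁻¹ * y⁻¹ := by rw [h1]
            _ = (b * y * b⁻¹ * y⁻¹) * (a * y * a⁻¹ * y⁻¹) := by group
        rw [e]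
        exact mul_mem hb2 ha2
      inv_mem' := by
        rintro a ⟨ha1, ha2⟩
        refine ⟨inv_mem ha1, ?_⟩
        have h1 := I.Z_Q2 (inv_mem ha2) ha1
        have e : a⁻¹ * y * a⁻¹⁻¹ * y⁻¹ = (a * y * a⁻¹ * y⁻¹)⁻¹ := by
          calc a⁻¹ * y * a⁻¹⁻¹ * y⁻¹ = a⁻¹ * ((a * y * a⁻¹ * y⁻¹)⁻¹ * a) := by group
            _ = a⁻¹ * (a * (a * y * a⁻¹ * y⁻¹)⁻¹) := by rw [h1]
            _ = _ := by group
        rw [e]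
        exact inv_mem ha2 }
  have hC : ∀ a ∈ Q2, ∀ b ∈ Q2, a ∈ C b → b ∈ C a := by
    rintro a ha b hb ⟨-, h2⟩
    refine ⟨hb, ?_⟩
    have := inv_mem h2
    have e : (a * b * a⁻¹ * b⁻¹)⁻¹ = b * a * b⁻¹ * a⁻¹ := by group
    rwa [e] at this
  have h1 : ∀ a b : G, a ∈ Q2 → a * b = b * a → a ∈ C b := fun a b ha hab =>
    ⟨ha, by rw [hab, mul_inv_cancel_right, mul_inv_cancel]; exact one_mem _⟩
  have hgen : ∀ b : G, (∀ f ∈ cj n2 Y, f ∈ C b) → (∀ y ∈ Y, y ∈ C b) → (∀ t ∈ TT Q2 V n2, t ∈ C b) → Q2 ≤ C b := by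
    intro b hf hy ht x hx
    obtain ⟨f, hf', y, hy', t, ht', rfl⟩ := I.exists_fYT hx
    exact mul_mem (mul_mem (hf f hf') (hy y hy')) (ht t ht')
  have hFF : ∀ a ∈ cj n2 Y, ∀ b ∈ cj n2 Y, a * b = b * a := by
    rintro _ ⟨a, ha, rfl⟩ _ ⟨b, hb, rfl⟩
    change n2 * a * n2⁻¹ * (n2 * b * n2⁻¹) = n2 * b * n2⁻¹ * (n2 * a * n2⁻¹)
    have := I.V_ab (I.Y_V ha) (I.Y_V hb)
    calc n2 * a * n2⁻¹ * (n2 * b * n2⁻¹) = n2 * (a * b) * n2⁻¹ := by group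
      _ = n2 * (b * a) * n2⁻¹ := by rw [this]
      _ = n2 * b * n2⁻¹ * (n2 * a * n2⁻¹) := by group
  have hFY : ∀ a ∈ cj n2 Y, ∀ b ∈ Y, a ∈ C b := fun a ha b hb => ⟨I.cj_Y_Q2 ha, I.YU a (I.cj_Y_U ha) b hb⟩
  have hYT : ∀ a ∈ Y, ∀ t ∈ TT Q2 V n2, a * t = t * a := fun a ha t ht => (mem_TT.1 ht).2.1 a (I.Y_V ha)
  have hF : ∀ b ∈ cj n2 Y, Q2 ≤ C b := fun b hb => hgen b (fun f hf => h1 f b (I.cj_Y_Q2 hf) (hFF f hf b hb))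
    (fun y hy => hC b (I.cj_Y_Q2 hb) y (I.Y_Q2 hy) (hFY b hb y hy))
    (fun t ht => h1 t b ht.1 (I.f_T hb ht).symm)
  have hY : ∀ b ∈ Y, Q2 ≤ C b := fun b hb => hgen b (fun f hf => hFY f hf b hb)
    (fun y hy => h1 y b (I.Y_Q2 hy) (I.V_ab (I.Y_V hy) (I.Y_V hb)))
    (fun t ht => h1 t b ht.1 (hYT b hb t ht).symm)
  have hT : ∀ b ∈ TT Q2 V n2, Q2 ≤ C b := fun b hb => hgen b (fun f hf => h1 f b (I.cj_Y_Q2 hf) (I.f_T hf hb))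
    (fun y hy => h1 y b (I.Y_Q2 hy) (hYT y hy b hb)) (fun t ht => ⟨ht.1, I.com_T ht hb⟩)
  exact (hgen y (fun f hf => hC y hy f (I.cj_Y_Q2 hf) (hF f hf hy)) (fun a ha => hC y hy a (I.Y_Q2 ha) (hY a ha hy))
    (fun t ht => hC y hy t ht.1 (hT t ht hy)) hx).2

/-- squares of elements of `Q2` are in `Z` -/
theorem sq_Q2 {x : G} (hx : x ∈ Q2) : x * x ∈ Z := by
  have hmul : ∀ a ∈ Q2, ∀ b ∈ Q2, a * a ∈ Z → b * b ∈ Z → a * b * (a * b) ∈ Z := by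
    intro a ha b hb h1 h2
    have e : a * b * (a * b) = a * a * (a⁻¹ * b * a⁻¹⁻¹ * b⁻¹) * (b * b) := by group
    rw [e]
    exact mul_mem (mul_mem h1 (I.com_Q2 (inv_mem ha) hb)) h2
  obtain ⟨f, hf, y, hy, t, ht, rfl⟩ := I.exists_fYT hx
  have hf2 : f * f ∈ Z := by
    obtain ⟨a, ha, rfl⟩ := hf
    change n2 * a * n2⁻¹ * (n2 * a * n2⁻¹) ∈ Z
    have e : n2 * a * n2⁻¹ * (n2 * a * n2⁻¹) = n2 * (a * a) * n2⁻¹ := by group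
    rw [e, I.V_sq a (I.Y_V ha), mul_one, mul_inv_cancel]
    exact one_mem _
  have hy2 : y * y ∈ Z := by rw [I.V_sq y (I.Y_V hy)]; exact one_mem _
  exact hmul _ (mul_mem (I.cj_Y_Q2 hf) (I.Y_Q2 hy)) _ ht.1
    (hmul _ (I.cj_Y_Q2 hf) _ (I.Y_Q2 hy) hf2 hy2) (I.sq_T ht)

end Inp

end Cfsg.Agent.RankTwoClose.UFive
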