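import Cfsg.Agent.RankTwoClose.UFive.EF
import Cfsg.Agent.RankTwoClose.BN

/-!
# Closing of the type `U₅(q)`: the path conditions

Root groups `n2 (Y ∩ n1 Y n1⁻¹) n2⁻¹` (type `n1`) and `E = n1 T n1⁻¹` (type `n2`).
-/

set_option autoImplicit false
set_option linter.unusedSectionVars false

namespace Cfsg.Agent.RankTwoClose.UFive

open Subgroup Cfsg.Agent.Omega.BTwo

namespace Inp

variable {G : Type*} [Group G] {q : ℕ} {L1 L2 U Q1 Q2 V Y Z H : Subgroup G} {n1 n2 : G}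
  (I : Inp q L1 L2 U Q1 Q2 V Y Z H n1 n2) [Finite G]

include I

/-- `Y = (Y ∩ n1 Y n1⁻¹) Z` -/
theorem exists_YZ {y : G} (hy : y ∈ Y) : ∃ a ∈ Y ⊓ cj n1 Y, ∃ z ∈ Z, y = a * z := by
  have h1 : n1⁻¹ * y * n1 ∈ Y ⊔ cj n1 Z := I.VZ (conj_inv_mem_of_normalizer I.n1_V (I.Y_V hy))
  have h2 : Y ≤ normalizer (cj n1 Z : Set G) := by
    intro a ha
    refine mem_normalizer_of_conj fun x hx => ?_
    have hxV : x ∈ V := by rw [← I.cj_n1_V]; exact (cj_mono I.Z_V) hx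
    rw [I.V_ab (I.Y_V ha) hxV, mul_inv_cancel_right]
    exact hx
  obtain ⟨a, ha, z, hz, e⟩ := exists_of_mem_sup h2 h1
  have hz2 : n1 * z * n1⁻¹ ∈ Z := by
    have h3 : n1 * n1 ∈ normalizer (Z : Set G) := I.H_Z I.n1_sq_H
    have h4 := conj_mem_of_normalizer h3 (mem_cj.1 hz)
    have e2 : n1 * n1 * (n1⁻¹ * z * n1) * (n1 * n1)⁻¹ = n1 * z * n1⁻¹ := by group
    rwa [e2] at h4
  have e3 : y = (n1 * a * n1⁻¹) * (n1 * z * n1⁻¹) := by
    have e4 : y = n1 * (n1⁻¹ * y * n1) * n1⁻¹ := by group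
    rw [e4, e]; group
  refine ⟨n1 * a * n1⁻¹, mem_inf.2 ⟨?_, conj_mem_cj ha⟩, _, hz2, e3⟩
  have e5 : n1 * a * n1⁻¹ = y * (n1 * z * n1⁻¹)⁻¹ := by rw [e3]; group
  rw [e5]
  exact mul_mem hy (inv_mem (I.Z_Y hz2))

/-- `U = (n2 (Y ∩ n1 Y n1⁻¹) n2⁻¹) Q1` -/
theorem exists_X1 {u : G} (hu : u ∈ U) : ∃ f ∈ cj n2 (Y ⊓ cj n1 Y), ∃ x ∈ Q1, u = f * x := by
  obtain ⟨f, hf, x, hx, e⟩ := I.exists_mul hu
  obtain ⟨a, ha, z, hz, e2⟩ := I.exists_YZ (mem_cj.1 hf)
  refine ⟨n2 * a * n2⁻¹, conj_mem_cj ha, n2 * z * n2⁻¹ * x, ?_, ?_⟩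
  · have : n2 * z * n2⁻¹ = z := by rw [I.ZL2 z hz n2 I.n2_L2, mul_inv_cancel_right]
    rw [this]
    exact mul_mem (I.V_Q1 (I.Z_V hz)) hx
  · have e3 : f = n2 * (n2⁻¹ * f * n2) * n2⁻¹ := by group
    rw [e, e3, e2]; group

theorem cj_nn1_T : cj n1 (cj n1 (TT Q2 V n2)) = TT Q2 V n2 := by
  rw [← cj_mul, cj_eq_self_iff.2 (I.H_T I.n1_sq_H)]

theorem cj_nn1_Y : cj n1 (cj n1 Y) = Y := by
  rw [← cj_mul, cj_eq_self_iff.2 (I.H_Y I.n1_sq_H)]

theorem cj_n1_X : cj n1 (Y ⊓ cj n1 Y) = Y ⊓ cj n1 Y := by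
  rw [cj_inf, I.cj_nn1_Y, inf_comm]

theorem cj_nn2_X : cj n2 (cj n2 (Y ⊓ cj n1 Y)) = Y ⊓ cj n1 Y := by
  rw [← cj_mul, cj_eq_self_iff]
  exact le_normalizer_inf' I.H_Y (le_normalizer_cj I.n1_H I.H_Y) I.n2_sq_H

theorem n1_Q1H {c : G} (hc : c ∈ Q1 ⊔ H) : n1⁻¹ * c * n1 ∈ U ⊔ H := by
  have h1 : Q1 ⊔ H ≤ cj n1 (U ⊔ H) := by
    refine sup_le ?_ ?_
    · intro x hx
      exact mem_cj.2 (mem_sup_left (I.Q1_U (conj_inv_mem_of_normalizer I.n1_Q1 hx)))
    · intro x hx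
      exact mem_cj.2 (mem_sup_right (conj_inv_mem_of_normalizer I.n1_H hx))
  exact mem_cj.1 (h1 hc)

theorem n2_Q2H {c : G} (hc : c ∈ Q2 ⊔ H) : n2⁻¹ * c * n2 ∈ U ⊔ H := by
  have h1 : Q2 ⊔ H ≤ cj n2 (U ⊔ H) := by
    refine sup_le ?_ ?_
    · intro x hx
      exact mem_cj.2 (mem_sup_left (I.Q2_U (conj_inv_mem_of_normalizer I.n2_Q2 hx)))
    · intro x hx
      exact mem_cj.2 (mem_sup_right (conj_inv_mem_of_normalizer I.n2_H hx))
  exact mem_cj.1 (h1 hc)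

/-- The path conditions of length `< 4`. -/
theorem pathTo (F : Frame G) (hB : F.B = U ⊔ H) {i0 : Bool} (h1 : F.n i0 = n1) (h2 : F.n (!i0) = n2) :
    ∀ k < 4, F.PathTo k := by
  have hXU : cj n2 (Y ⊓ cj n1 Y) ≤ U := (cj_mono inf_le_left).trans I.cj_Y_U
  have hTU : TT Q2 V n2 ≤ U := I.T_Q2.trans I.Q2_U
  have hEU : cj n1 (TT Q2 V n2) ≤ U := I.cj_T_Q1.trans I.Q1_U
  have hYU : Y ⊓ cj n1 Y ≤ U := inf_le_left.trans (I.Y_V.trans I.V_U)
  intro k hk
  refine F.pathTo_of_root (k := k)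
    (fun i => if i = i0 then (cj n2 (Y ⊓ cj n1 Y) : Set G) else (cj n1 (TT Q2 V n2) : Set G)) ?_ ?_
  · intro i b hb
    rw [hB] at hb
    obtain ⟨u, hu, h, hh, rfl⟩ := I.exists_UH hb
    by_cases hi : i = i0
    · subst hi
      obtain ⟨f, hf, x, hx, rfl⟩ := I.exists_X1 hu
      have hc : x * h ∈ Q1 ⊔ H := mul_mem (mem_sup_left hx) (mem_sup_right hh)
      refine ⟨f, by rw [if_pos rfl]; exact hf, x * h, ?_, by rw [mul_assoc], ?_⟩
      · rw [hB]
        exact (sup_le_sup_right I.Q1_U H) hc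
      · rw [h1, hB]
        exact I.n1_Q1H hc
    · have hi' : i = !i0 := by cases i <;> cases i0 <;> simp_all
      subst hi'
      obtain ⟨f, hf, x, hx, rfl⟩ := I.exists_EQ2 hu
      have hc : x * h ∈ Q2 ⊔ H := mul_mem (mem_sup_left hx) (mem_sup_right hh)
      refine ⟨f, by rw [if_neg hi]; exact hf, x * h, ?_, by rw [mul_assoc], ?_⟩
      · rw [hB]
        exact (sup_le_sup_right I.Q2_U H) hc
      · rw [h2, hB]
        exact I.n2_Q2H hc
  · -- a word conjugates the root group into `U`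
    have key : ∀ (g : G) (X : Subgroup G), cj g X ≤ U → ∀ x ∈ (X : Set G), g * x * g⁻¹ ∈ F.B := by
      intro g X hX x hx
      rw [hB]
      exact mem_sup_left (hX (conj_mem_cj hx))
    intro i
    rcases Decidable.eq_or_ne i i0 with hi | hi
    · -- words starting with `n1`
      subst hi
      have e2 : (!i) ≠ i := by cases i <;> simp
      match k, hk with
      | 0, _ =>
        rw [nxt_zero]
        simp only [alt_zero]
        rw [if_pos trivial]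
        exact key 1 _ (by rw [cj_one]; exact hXU)
      | 1, _ =>
        rw [nxt_succ, nxt_zero]
        simp only [alt_one, h1]
        rw [if_neg e2]
        exact key n1 _ (by rw [I.cj_nn1_T]; exact hTU)
      | 2, _ =>
        rw [nxt_succ, nxt_succ, nxt_zero, Bool.not_not]
        simp only [alt_succ, alt_zero, h1, h2, mul_one]
        rw [if_pos trivial]
        exact key (n1 * n2) _ (by rw [cj_mul, I.cj_nn2_X, I.cj_n1_X]; exact hYU)
      | 3, _ =>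
        rw [nxt_succ, nxt_succ, nxt_succ, nxt_zero, Bool.not_not]
        simp only [alt_succ, alt_zero, h1, h2, mul_one, Bool.not_not]
        rw [if_neg e2]
        exact key (n1 * (n2 * n1)) _ (by rw [cj_mul, cj_mul, I.cj_nn1_T, I.cj_n2_T]; exact hEU)
    · have hi' : i = !i0 := by cases i <;> cases i0 <;> simp_all
      subst hi'
      match k, hk with
      | 0, _ =>
        rw [nxt_zero]
        simp only [alt_zero]
        rw [if_neg hi]
        exact key 1 _ (by rw [cj_one]; exact hEU)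
      | 1, _ =>
        rw [nxt_succ, nxt_zero, Bool.not_not]
        simp only [alt_one, h2]
        rw [if_pos trivial]
        exact key n2 _ (by rw [I.cj_nn2_X]; exact hYU)
      | 2, _ =>
        rw [nxt_succ, nxt_succ, nxt_zero, Bool.not_not]
        simp only [alt_succ, alt_zero, h1, h2, mul_one, Bool.not_not]
        rw [if_neg hi]
        exact key (n2 * n1) _ (by rw [cj_mul, I.cj_nn1_T, I.cj_n2_T]; exact hTU)
      | 3, _ =>
        rw [nxt_succ, nxt_succ, nxt_succ, nxt_zero, Bool.not_not, Bool.not_not]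
        simp only [alt_succ, alt_zero, h1, h2, mul_one, Bool.not_not]
        rw [if_pos trivial]
        exact key (n2 * (n1 * n2)) _ (by rw [cj_mul, cj_mul, I.cj_nn2_X, I.cj_n1_X]; exact hXU)

end Inp

end Cfsg.Agent.RankTwoClose.UFive
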