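import Cfsg.Agent.RankTwoClose.UFive.Inp

/-!
# Closing of the type `U₅(q)`: structure of `Q2`

`Y ∩ n2 Y n2⁻¹ = Z`, `U = (n2 Y n2⁻¹) Q1`, `T = C_{Q2}(V, n2 V n2⁻¹)`, `Q2 = (n2 Y n2⁻¹) Y T`, `Q1 ∩ Q2 = Y T`.
-/

set_option autoImplicit false

namespace Cfsg.Agent.RankTwoClose.UFive

open Subgroup Cfsg.Agent.Omega.BTwo

/-! ### Generalities -/

section Gen

variable {G : Type*} [Group G]

theorem exists_mul_of_relIndex [Finite G] {A U Q : Subgroup G} (hA : A ≤ U) (h : Q.relIndex A = Q.relIndex U) :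
    ∀ u ∈ U, ∃ a ∈ A, ∃ x ∈ Q, u = a * x := by
  intro u hu
  let f : A ⧸ Q.subgroupOf A → U ⧸ Q.subgroupOf U :=
    Quotient.map' (fun a => (⟨a, hA a.2⟩ : U)) (by
      intro a b hab
      rw [QuotientGroup.leftRel_apply] at hab ⊢
      exact hab)
  have hinj : Function.Injective f := by
    intro a b
    induction a using QuotientGroup.induction_on
    induction b using QuotientGroup.induction_on
    intro hab
    have h1 := QuotientGroup.eq.1 hab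
    exact QuotientGroup.eq.2 h1
  have hcard : Nat.card (A ⧸ Q.subgroupOf A) = Nat.card (U ⧸ Q.subgroupOf U) := h
  have hbij := (Nat.bijective_iff_injective_and_card f).2 ⟨hinj, hcard⟩
  obtain ⟨a, ha⟩ := hbij.2 (QuotientGroup.mk (⟨u, hu⟩ : U))
  induction a using QuotientGroup.induction_on with
  | H a =>
    have h1 := QuotientGroup.eq.1 ha
    refine ⟨a, a.2, (a : G)⁻¹ * u, h1, ?_⟩
    group

theorem isPGroup_of_odd [Finite G] {X : Subgroup G} (h : ∀ x ∈ X, Odd (orderOf x) → x = 1) : IsPGroup 2 X := by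
  rintro ⟨x, hx⟩
  obtain ⟨k, m, hm, e⟩ := Nat.exists_eq_two_pow_mul_odd (orderOf_pos x).ne'
  refine ⟨k, Subtype.ext ?_⟩
  have h1 : orderOf (x ^ 2 ^ k) = m := by
    rw [orderOf_pow_of_dvd (by positivity) ⟨m, e⟩, e]
    exact Nat.mul_div_cancel_left _ (by positivity)
  exact h _ (pow_mem hx _) (show Odd (orderOf (x ^ 2 ^ k)) by rw [h1]; exact hm)

theorem card_mul_rel {K L : Subgroup G} (h : K ≤ L) : Nat.card K * K.relIndex L = Nat.card L := by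
  have := relIndex_mul_relIndex ⊥ K L bot_le h
  rwa [relIndex_bot_left, relIndex_bot_left] at this

theorem conj_mem' {g x : G} {K : Subgroup G} (hg : g ∈ normalizer (K : Set G)) (hx : x ∈ K) : g * x * g⁻¹ ∈ K :=
  conj_mem_of_normalizer hg hx

/-- an element of odd order that moves `w` by a commuting involution commutes with `w` -/
theorem comm_of_odd [Finite G] {x w y : G} (hx : Odd (orderOf x)) (h : x * w * x⁻¹ * w⁻¹ = y) (hxy : x * y = y * x)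
    (hy : y * y = 1) : x * w = w * x := by
  have h1 : ∀ k : ℕ, x ^ k * w = y ^ k * w * x ^ k := by
    intro k
    induction k with
    | zero => simp
    | succ k ih =>
      have e : x * w = y * w * x := by rw [← h]; group
      have hc : Commute x (y ^ k) := Commute.pow_right hxy k
      calc x ^ (k + 1) * w = x * (x ^ k * w) := by rw [pow_succ']; group
        _ = x * (y ^ k * w * x ^ k) := by rw [ih]
        _ = (x * y ^ k) * w * x ^ k := by group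
        _ = (y ^ k * x) * w * x ^ k := by rw [hc.eq]
        _ = y ^ k * (x * w) * x ^ k := by group
        _ = y ^ k * (y * w * x) * x ^ k := by rw [e]
        _ = y ^ (k + 1) * w * x ^ (k + 1) := by rw [pow_succ, pow_succ']; group
  obtain ⟨m, hm⟩ := hx
  have h2 := h1 (orderOf x)
  rw [pow_orderOf_eq_one, one_mul, mul_one] at h2
  have h3 : y ^ orderOf x = 1 := by
    have := congrArg (· * w⁻¹) h2
    simp only [mul_inv_cancel, mul_inv_cancel_right] at this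
    exact this.symm
  have h4 : y = 1 := by
    rw [hm, pow_succ, pow_mul, pow_two, hy, one_pow, one_mul] at h3
    exact h3
  have e : x * w = y * w * x := by rw [← h]; group
  rw [e, h4, one_mul]

end Gen

namespace Inp

variable {G : Type*} [Group G] {q : ℕ} {L1 L2 U Q1 Q2 V Y Z H : Subgroup G} {n1 n2 : G}
  (I : Inp q L1 L2 U Q1 Q2 V Y Z H n1 n2)

include I

theorem U_Q1 : U ≤ normalizer (Q1 : Set G) := I.U_L1.trans I.L1_Q1
theorem U_Q2 : U ≤ normalizer (Q2 : Set G) := I.U_L2.trans I.L2_Q2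
theorem U_V : U ≤ normalizer (V : Set G) := I.U_L1.trans I.L1_V
theorem V_ab {v w : G} (hv : v ∈ V) (hw : w ∈ V) : v * w = w * v := I.V_comm v hv w (I.V_Q1 hw)
theorem V_U : V ≤ U := I.V_Q1.trans I.Q1_U
theorem Z_V : Z ≤ V := I.Z_Y.trans I.Y_V
theorem n1_Q1 : n1 ∈ normalizer (Q1 : Set G) := I.L1_Q1 I.n1_mem
theorem n1_V : n1 ∈ normalizer (V : Set G) := I.L1_V I.n1_mem
theorem n2_Q2 : n2 ∈ normalizer (Q2 : Set G) := I.L2_Q2 I.n2_L2
theorem cj_n1_V : cj n1 V = V := cj_eq_self_iff.2 I.n1_V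
theorem cj_n1_Q1 : cj n1 Q1 = Q1 := cj_eq_self_iff.2 I.n1_Q1
theorem cj_n2_Q2 : cj n2 Q2 = Q2 := cj_eq_self_iff.2 I.n2_Q2

theorem q_pos : 0 < q := by have := I.q4; omega

theorem U_Y [Finite G] : U ≤ normalizer (Y : Set G) := by
  intro u hu
  refine mem_normalizer_of_conj fun y hy => ?_
  have h1 := mul_mem (I.Z_Y (I.YU u hu y hy)) hy
  rwa [inv_mul_cancel_right] at h1

theorem UH_Y [Finite G] : U ⊔ H ≤ normalizer (Y : Set G) := sup_le I.U_Y I.H_Y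

theorem cj_Y_Q2 : cj n2 Y ≤ Q2 := by
  rw [← I.cj_n2_Q2]
  exact cj_mono I.Y_Q2

theorem cj_Y_U : cj n2 Y ≤ U := I.cj_Y_Q2.trans I.Q2_U

theorem Z_cj : Z ≤ cj n2 Y := by
  intro z hz
  rw [mem_cj]
  have h1 : n2⁻¹ * z * n2 = z := by
    rw [mul_assoc, ← I.ZL2 z hz n2 I.n2_L2]; group
  rw [h1]
  exact I.Z_Y hz

/-- `Y ∩ n2 Y n2⁻¹` is centralised by `V` and `n2 V n2⁻¹` -/
theorem V_D {v d : G} (hv : v ∈ V) (hd : d ∈ Y ⊓ cj n2 Y) : v * d = d * v := I.V_ab hv (I.Y_V hd.1)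

theorem cjV_D {v d : G} (hv : v ∈ cj n2 V) (hd : d ∈ Y ⊓ cj n2 Y) : v * d = d * v := by
  obtain ⟨w, hw, rfl⟩ := hv
  obtain ⟨e, he, rfl⟩ := hd.2
  change n2 * w * n2⁻¹ * (n2 * e * n2⁻¹) = n2 * e * n2⁻¹ * (n2 * w * n2⁻¹)
  have := I.V_ab hw (I.Y_V he)
  calc n2 * w * n2⁻¹ * (n2 * e * n2⁻¹) = n2 * (w * e) * n2⁻¹ := by group
    _ = n2 * (e * w) * n2⁻¹ := by rw [this]
    _ = n2 * e * n2⁻¹ * (n2 * w * n2⁻¹) := by group

theorem f_mem {f : G} (hf : f ∈ cj n2 Y) (h : ∀ v ∈ V, v * f * v⁻¹ * f⁻¹ ∈ Y ⊓ cj n2 Y) : f ∈ Y := by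
  let S : Subgroup G :=
    { carrier := {x | (∀ d ∈ Y ⊓ cj n2 Y, x * d = d * x) ∧ x * f * x⁻¹ * f⁻¹ ∈ Y ⊓ cj n2 Y}
      one_mem' := ⟨fun d _ => by rw [one_mul, mul_one], by
        have : (1 : G) * f * 1⁻¹ * f⁻¹ = 1 := by group
        rw [this]; exact one_mem _⟩
      mul_mem' := by
        rintro x y ⟨hx1, hx2⟩ ⟨hy1, hy2⟩
        refine ⟨fun d hd => by rw [mul_assoc, hy1 d hd, ← mul_assoc, hx1 d hd, mul_assoc], ?_⟩
        have e : x * y * f * (x * y)⁻¹ * f⁻¹ = x * (y * f * y⁻¹ * f⁻¹) * x⁻¹ * (x * f * x⁻¹ * f⁻¹) := by group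
        rw [e, hx1 _ hy2, mul_inv_cancel_right]
        exact mul_mem hy2 hx2
      inv_mem' := by
        rintro x ⟨hx1, hx2⟩
        refine ⟨fun d hd => by
          rw [inv_mul_eq_iff_eq_mul, ← mul_assoc, hx1 d hd, mul_inv_cancel_right], ?_⟩
        have e : x⁻¹ * f * x⁻¹⁻¹ * f⁻¹ = x⁻¹ * (x * f * x⁻¹ * f⁻¹)⁻¹ * x := by group
        have e2 := hx1 _ (inv_mem hx2)
        rw [e, mul_assoc, ← e2, inv_mul_cancel_left]
        exact inv_mem hx2 }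
  have hV : V ≤ S := fun v hv => ⟨fun d hd => I.V_D hv hd, h v hv⟩
  have hV' : cj n2 V ≤ S := by
    intro v hv
    refine ⟨fun d hd => I.cjV_D hv hd, ?_⟩
    have h1 : v * f = f * v := by
      obtain ⟨w, hw, rfl⟩ := hv
      obtain ⟨e, he, rfl⟩ := hf
      change n2 * w * n2⁻¹ * (n2 * e * n2⁻¹) = n2 * e * n2⁻¹ * (n2 * w * n2⁻¹)
      have := I.V_ab hw (I.Y_V he)
      calc n2 * w * n2⁻¹ * (n2 * e * n2⁻¹) = n2 * (w * e) * n2⁻¹ := by group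
        _ = n2 * (e * w) * n2⁻¹ := by rw [this]
        _ = n2 * e * n2⁻¹ * (n2 * w * n2⁻¹) := by group
    rw [h1, mul_inv_cancel_right, mul_inv_cancel]
    exact one_mem _
  have h1 : n2⁻¹ ∈ S := inv_mem ((sup_le hV hV') I.n2_X)
  have h2 := h1.2.1
  rw [inv_inv] at h2
  have h3 : n2⁻¹ * f * n2 ∈ Y := mem_cj.1 hf
  have e : f = (n2⁻¹ * f * n2 * f⁻¹)⁻¹ * (n2⁻¹ * f * n2) := by group
  rw [e]
  exact mul_mem (inv_mem h2) h3

variable [Finite G]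

theorem not_le : ¬ cj n2 Y ≤ Q1 := by
  intro hle
  have h1 : cj n2 Y ≤ Y := by
    intro f hf
    refine I.f_mem hf fun v hv => ?_
    rw [I.V_comm v hv f (hle hf), mul_inv_cancel_right, mul_inv_cancel]
    exact one_mem _
  have h2 : cj n2 Y = Y := eq_of_le_of_card_ge h1 (card_cj _ _).ge
  -- `X` acts trivially on `Q2/Y` and on `Y`
  let S : Subgroup G :=
    { carrier := {x | (∀ y ∈ Y, x * y = y * x) ∧ ∀ w ∈ Q2, x * w * x⁻¹ * w⁻¹ ∈ Y}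
      one_mem' := ⟨fun d _ => by rw [one_mul, mul_one], fun w _ => by
        have : (1 : G) * w * 1⁻¹ * w⁻¹ = 1 := by group
        rw [this]; exact one_mem _⟩
      mul_mem' := by
        rintro x y ⟨hx1, hx2⟩ ⟨hy1, hy2⟩
        refine ⟨fun d hd => by rw [mul_assoc, hy1 d hd, ← mul_assoc, hx1 d hd, mul_assoc], fun w hw => ?_⟩
        have e : x * y * w * (x * y)⁻¹ * w⁻¹ = x * (y * w * y⁻¹ * w⁻¹) * x⁻¹ * (x * w * x⁻¹ * w⁻¹) := by group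
        rw [e, hx1 _ (hy2 w hw), mul_inv_cancel_right]
        exact mul_mem (hy2 w hw) (hx2 w hw)
      inv_mem' := by
        rintro x ⟨hx1, hx2⟩
        refine ⟨fun d hd => by
          rw [inv_mul_eq_iff_eq_mul, ← mul_assoc, hx1 d hd, mul_inv_cancel_right], fun w hw => ?_⟩
        have e : x⁻¹ * w * x⁻¹⁻¹ * w⁻¹ = x⁻¹ * (x * w * x⁻¹ * w⁻¹)⁻¹ * x := by group
        have e2 := hx1 _ (inv_mem (hx2 w hw))
        rw [e, mul_assoc, ← e2, inv_mul_cancel_left]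
        exact inv_mem (hx2 w hw) }
  have hV0 : ∀ v ∈ V, ∀ w ∈ Q2, v * w * v⁻¹ * w⁻¹ ∈ Y := by
    intro v hv w hw
    have h3 := inv_mem (I.VU w (I.Q2_U hw) v hv)
    have e : (w * v * w⁻¹ * v⁻¹)⁻¹ = v * w * v⁻¹ * w⁻¹ := by group
    rwa [e] at h3
  have hV : V ≤ S := fun v hv => ⟨fun y hy => I.V_ab hv (I.Y_V hy), hV0 v hv⟩
  have hV' : cj n2 V ≤ S := by
    rintro _ ⟨v, hv, rfl⟩
    change n2 * v * n2⁻¹ ∈ S
    constructor
    · intro y hy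
      rw [← h2] at hy
      obtain ⟨e, he, rfl⟩ := hy
      change n2 * v * n2⁻¹ * (n2 * e * n2⁻¹) = n2 * e * n2⁻¹ * (n2 * v * n2⁻¹)
      have := I.V_ab hv (I.Y_V he)
      calc n2 * v * n2⁻¹ * (n2 * e * n2⁻¹) = n2 * (v * e) * n2⁻¹ := by group
        _ = n2 * (e * v) * n2⁻¹ := by rw [this]
        _ = n2 * e * n2⁻¹ * (n2 * v * n2⁻¹) := by group
    · intro w hw
      have h3 := hV0 v hv (n2⁻¹ * w * n2) (conj_inv_mem_of_normalizer I.n2_Q2 hw)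
      have h4 := conj_mem_cj (g := n2) h3
      rw [h2] at h4
      have e : n2 * (v * (n2⁻¹ * w * n2) * v⁻¹ * (n2⁻¹ * w * n2)⁻¹) * n2⁻¹ =
        n2 * v * n2⁻¹ * w * (n2 * v * n2⁻¹)⁻¹ * w⁻¹ := by group
      rwa [e] at h4
  have hX : V ⊔ cj n2 V ≤ S := sup_le hV hV'
  have hXL : V ⊔ cj n2 V ≤ L2 := by
    refine sup_le (I.V_U.trans I.U_L2) ?_
    rw [cj_le_iff]
    intro v hv
    exact mul_mem (mul_mem I.n2_L2 (I.U_L2 (I.V_U hv))) (inv_mem I.n2_L2)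
  apply I.X_two
  apply isPGroup_of_odd
  intro x hx hodd
  have h3 := hX hx
  have h4 : x ∈ Q2 := by
    refine I.CQ2 x (hXL hx) fun w hw => ?_
    have h5 := h3.2 w hw
    exact (comm_of_odd hodd rfl (h3.1 _ h5) (I.V_sq _ (I.Y_V h5))).symm
  obtain ⟨k, hk⟩ := I.two ⟨x, I.Q2_U h4⟩
  have hk' : x ^ 2 ^ k = 1 := congrArg Subtype.val hk
  have h5 := orderOf_dvd_of_pow_eq_one hk'
  have h6 : (orderOf x).Coprime (2 ^ k) := Nat.Coprime.pow_right k hodd.coprime_two_right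
  exact orderOf_eq_one_iff.1 (Nat.eq_one_of_dvd_coprimes h6 dvd_rfl h5)

theorem inf_Q1 : cj n2 Y ⊓ Q1 = Y ⊓ cj n2 Y := by
  apply le_antisymm
  · rintro f ⟨hf, hf1⟩
    refine ⟨I.f_mem hf fun v hv => ?_, hf⟩
    rw [I.V_comm v hv f hf1, mul_inv_cancel_right, mul_inv_cancel]
    exact one_mem _
  · rintro f ⟨hf, hf1⟩
    exact ⟨hf1, I.V_Q1 (I.Y_V hf)⟩

theorem card_D : Nat.card ↥(Y ⊓ cj n2 Y) * Q1.relIndex (cj n2 Y) = q ^ 3 := by
  rw [← I.inf_Q1, ← inf_relIndex_right, inf_comm Q1, ← I.card_Y, ← card_cj n2 Y]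
  exact card_mul_rel inf_le_left

/-- **`Y ∩ n2 Y n2⁻¹ = Z`** -/
theorem inf_eq : Y ⊓ cj n2 Y = Z := by
  have hZ : Z ≤ Y ⊓ cj n2 Y := le_inf I.Z_Y I.Z_cj
  have hcent : ∀ d ∈ Y ⊓ cj n2 Y, ∀ a ∈ cj n2 Y, a * d = d * a := fun d hd a ha =>
    I.cjV_D (cj_mono I.Y_V ha) hd
  rcases I.line _ I.cj_Y_U I.not_le with h | ⟨h1, h2, h3⟩
  · exact le_antisymm (fun d hd => h d hd.1 (hcent d hd)) hZ
  · exfalso
    have h4 := I.card_D
    have h5 : q ^ 2 ≤ Nat.card ↥(Y ⊓ cj n2 Y) := by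
      have h6 : q ^ 3 ≤ Nat.card ↥(Y ⊓ cj n2 Y) * q := by
        rw [← h4]
        exact Nat.mul_le_mul_left _ h1
      have h7 : q ^ 2 * q ≤ Nat.card ↥(Y ⊓ cj n2 Y) * q := by
        rw [← pow_succ]; exact h6
      exact Nat.le_of_mul_le_mul_right h7 I.q_pos
    have h6 : Y ⊓ cj n2 Y = Y ⊓ centralizer (cj n2 Y : Set G) := by
      apply eq_of_le_of_card_ge
      · intro d hd
        exact ⟨hd.1, mem_centralizer_iff.2 fun a ha => hcent d hd a ha⟩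
      · refine (h3 _ inf_le_left ?_).trans h5
        intro d hd a ha
        exact mem_centralizer_iff.1 hd.2 a ha
    apply I.not_le
    intro a ha
    refine I.V_Q1 (I.Y_V (I.f_mem ha fun v hv => ?_))
    rw [h6]
    have e : v * a * v⁻¹ * a⁻¹ = (a * v * a⁻¹ * v⁻¹)⁻¹ := by group
    rw [e]
    refine inv_mem ⟨I.VU a (I.cj_Y_U ha) v hv, mem_centralizer_iff.2 fun b hb => ?_⟩
    exact h2 a ha v hv b hb

theorem relIndex_cj : Q1.relIndex (cj n2 Y) = q ^ 2 := by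
  have h1 := I.card_D
  rw [I.inf_eq, I.card_Z, show q ^ 3 = q * q ^ 2 by ring] at h1
  exact Nat.eq_of_mul_eq_mul_left I.q_pos h1

/-- **`U = (n2 Y n2⁻¹) Q1`** -/
theorem exists_mul {u : G} (hu : u ∈ U) : ∃ f ∈ cj n2 Y, ∃ x ∈ Q1, u = f * x :=
  exists_mul_of_relIndex I.cj_Y_U (by rw [I.relIndex_cj, I.card_U1]) u hu

theorem cj_inf_V : cj n2 Y ⊓ V ≤ Z := by
  intro x hx
  rw [← I.inf_eq, ← I.inf_Q1]
  exact ⟨hx.1, I.V_Q1 hx.2⟩

theorem CY {y : G} (hy : y ∈ V) (h : ∀ f ∈ cj n2 Y, f * y = y * f) : y ∈ Z := by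
  refine I.CVU y hy fun u hu => ?_
  obtain ⟨f, hf, x, hx, rfl⟩ := I.exists_mul hu
  rw [mul_assoc, ← I.V_comm y hy x hx, ← mul_assoc, h f hf, mul_assoc]

/-! ### The group `T` -/

end Inp

/-- `T = C_{Q2}(V) ∩ C_{Q2}(n2 V n2⁻¹)` -/
def TT {G : Type*} [Group G] (Q2 V : Subgroup G) (n2 : G) : Subgroup G :=
  Q2 ⊓ centralizer ((V ⊔ cj n2 V : Subgroup G) : Set G)

namespace Inp

variable {G : Type*} [Group G] {q : ℕ} {L1 L2 U Q1 Q2 V Y Z H : Subgroup G} {n1 n2 : G}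
  (I : Inp q L1 L2 U Q1 Q2 V Y Z H n1 n2)

include I

omit I in
theorem mem_TT {t : G} : t ∈ TT Q2 V n2 ↔ t ∈ Q2 ∧ (∀ v ∈ V, v * t = t * v) ∧ ∀ v ∈ cj n2 V, v * t = t * v := by
  rw [TT, mem_inf, mem_centralizer_iff]
  refine and_congr_right fun _ => ⟨fun h => ⟨fun v hv => h v (mem_sup_left hv), fun v hv => h v (mem_sup_right hv)⟩,
    fun h v hv => ?_⟩
  have hle : V ⊔ cj n2 V ≤ centralizer {t} :=
    sup_le (fun v hv => mem_centralizer_singleton_iff.2 (h.1 v hv))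
      (fun v hv => mem_centralizer_singleton_iff.2 (h.2 v hv))
  exact mem_centralizer_singleton_iff.1 (hle hv)

theorem T_Q2 : TT Q2 V n2 ≤ Q2 := inf_le_left

theorem T_Q1 : TT Q2 V n2 ≤ Q1 := fun t ht => I.CV t (I.Q2_U ht.1) (mem_TT.1 ht).2.1

theorem n2_T {t : G} (ht : t ∈ TT Q2 V n2) : n2 * t = t * n2 := mem_centralizer_iff.1 ht.2 _ I.n2_X

theorem cj_n2_T : cj n2 (TT Q2 V n2) = TT Q2 V n2 := by
  ext t
  rw [mem_cj]
  constructor
  · intro h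
    have := I.n2_T h
    have e : t = n2 * (n2⁻¹ * t * n2) * n2⁻¹ := by group
    rw [e, this, mul_inv_cancel_right]
    exact h
  · intro h
    have := I.n2_T h
    rw [mul_assoc, ← this, inv_mul_cancel_left]
    exact h

theorem f_T {f t : G} (hf : f ∈ cj n2 Y) (ht : t ∈ TT Q2 V n2) : f * t = t * f :=
  (mem_TT.1 ht).2.2 f (cj_mono I.Y_V hf)

theorem Z_T : Z ≤ TT Q2 V n2 := by
  intro z hz
  refine mem_TT.2 ⟨I.Y_Q2 (I.Z_Y hz), fun v hv => I.V_ab hv (I.Z_V hz), fun v hv => ?_⟩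
  exact I.cjV_D hv ⟨I.Z_Y hz, I.Z_cj hz⟩

variable [Finite G]

theorem T_inf_V : TT Q2 V n2 ⊓ V = Z := by
  apply le_antisymm
  · rintro t ⟨ht, htV⟩
    exact I.CY htV fun f hf => I.f_T hf ht
  · exact le_inf I.Z_T I.Z_V

/-- `x ∈ Q2` is `y r` with `y ∈ Y`, `r ∈ Q2` centralising `n2 V n2⁻¹` -/
theorem exists_Y {x : G} (hx : x ∈ Q2) : ∃ y ∈ Y, ∃ r ∈ Q2, (∀ v ∈ cj n2 V, v * r = r * v) ∧ x = y * r := by
  obtain ⟨f, hf, w, hw, e⟩ := I.exists_mul (I.Q2_U (conj_inv_mem_of_normalizer I.n2_Q2 hx))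
  have hn : n2 * n2 ∈ normalizer (Y : Set G) := I.UH_Y I.n2_sq
  have hy : n2 * f * n2⁻¹ ∈ Y := by
    have h1 := conj_mem_of_normalizer hn (mem_cj.1 hf)
    have e2 : n2 * n2 * (n2⁻¹ * f * n2) * (n2 * n2)⁻¹ = n2 * f * n2⁻¹ := by group
    rwa [e2] at h1
  refine ⟨_, hy, n2 * w * n2⁻¹, ?_, ?_, ?_⟩
  · have e3 : n2 * w * n2⁻¹ = (n2 * f * n2⁻¹)⁻¹ * x := by
      have : x = n2 * (n2⁻¹ * x * n2) * n2⁻¹ := by group
      rw [this, e]; group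
    rw [e3]
    exact mul_mem (inv_mem (I.Y_Q2 hy)) hx
  · rintro _ ⟨v, hv, rfl⟩
    change n2 * v * n2⁻¹ * (n2 * w * n2⁻¹) = n2 * w * n2⁻¹ * (n2 * v * n2⁻¹)
    have := I.V_comm v hv w hw
    calc n2 * v * n2⁻¹ * (n2 * w * n2⁻¹) = n2 * (v * w) * n2⁻¹ := by group
      _ = n2 * (w * v) * n2⁻¹ := by rw [this]
      _ = n2 * w * n2⁻¹ * (n2 * v * n2⁻¹) := by group
  · have : x = n2 * (n2⁻¹ * x * n2) * n2⁻¹ := by group
    rw [this, e]; group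

/-- **`Q1 ∩ Q2 = Y T`** -/
theorem exists_YT {x : G} (hx : x ∈ Q2) (hx1 : x ∈ Q1) : ∃ y ∈ Y, ∃ t ∈ TT Q2 V n2, x = y * t := by
  obtain ⟨y, hy, r, hr, hr2, e⟩ := I.exists_Y hx
  refine ⟨y, hy, r, mem_TT.2 ⟨hr, fun v hv => ?_, hr2⟩, e⟩
  have e2 : r = y⁻¹ * x := by rw [e]; group
  have h1 : r ∈ Q1 := by
    rw [e2]
    exact mul_mem (inv_mem (I.V_Q1 (I.Y_V hy))) hx1
  exact I.V_comm v hv r h1

/-- **`Q2 = (n2 Y n2⁻¹) Y T`** -/
theorem exists_fYT {x : G} (hx : x ∈ Q2) : ∃ f ∈ cj n2 Y, ∃ y ∈ Y, ∃ t ∈ TT Q2 V n2, x = f * y * t := by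
  obtain ⟨f, hf, w, hw, e⟩ := I.exists_mul (I.Q2_U hx)
  have hw2 : w ∈ Q2 := by
    have : w = f⁻¹ * x := by rw [e]; group
    rw [this]
    exact mul_mem (inv_mem (I.cj_Y_Q2 hf)) hx
  obtain ⟨y, hy, t, ht, e2⟩ := I.exists_YT hw2 hw
  exact ⟨f, hf, y, hy, t, ht, by rw [e, e2, mul_assoc]⟩

/-- `U = Q2 Q1` -/
theorem Q_sup : Q2 ⊔ Q1 = U := by
  apply le_antisymm (sup_le I.Q2_U I.Q1_U)
  intro u hu
  obtain ⟨f, hf, x, hx, rfl⟩ := I.exists_mul hu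
  exact mul_mem (mem_sup_left (I.cj_Y_Q2 hf)) (mem_sup_right hx)

end Inp

end Cfsg.Agent.RankTwoClose.UFive
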