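import Cfsg.Agent.RankTwoClose.UFive.Irr
import Cfsg.Agent.RankTwoClose.UFive.Path
import Cfsg.Agent.RankTwoClose.Quad

/-!
# Closing of the type `U₅(q)`: the quadrangle data

From `Inp` and the torus and panel data `Ext` to `Quad.QData`; the central root group is `Z`, its torus
`A = H ∩ L2`.
-/

set_option autoImplicit false
set_option linter.unusedSectionVars false
set_option linter.unusedVariables false

universe u

namespace Cfsg.Agent.RankTwoClose.UFive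

open Subgroup Cfsg.Agent.Omega.BTwo
open scoped commutatorElement

/-! ### Panels -/

section Pan

variable {G : Type u} [Group G] {L U X H : Subgroup G} {n : G}

theorem two_mem [Finite G] (hU : IsPGroup 2 U) (hodd : Odd (Nat.card H)) (hHU : H ≤ normalizer (U : Set G))
    {P : Subgroup G} (hP : IsPGroup 2 P) {x : G} (hx : x ∈ P) (hB : x ∈ U ⊔ H) : x ∈ U := by
  rw [sup_comm] at hB
  obtain ⟨h, hh, u, hu, rfl⟩ := exists_of_mem_sup hHU hB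
  obtain ⟨k, hk⟩ := hP ⟨h * u, hx⟩
  have hk' : (h * u) ^ 2 ^ k = 1 := congrArg Subtype.val hk
  have key : ∀ n : ℕ, ∃ v ∈ U, (h * u) ^ n = v * h ^ n := by
    intro n
    induction n with
    | zero => exact ⟨1, one_mem _, by simp⟩
    | succ n ih =>
      obtain ⟨v, hv, e⟩ := ih
      have h1 : h ^ (n + 1) ∈ normalizer (U : Set G) := hHU (pow_mem hh _)
      refine ⟨v * (h ^ (n + 1) * u * (h ^ (n + 1))⁻¹), mul_mem hv (conj_mem_of_normalizer h1 hu), ?_⟩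
      rw [pow_succ, e, pow_succ]; group
  obtain ⟨v, hv, e⟩ := key (2 ^ k)
  rw [hk'] at e
  have h1 : h ^ 2 ^ k ∈ U := by
    have : h ^ 2 ^ k = v⁻¹ := (inv_eq_of_mul_eq_one_right e.symm).symm
    rw [this]; exact inv_mem hv
  have hoh : Odd (orderOf h) := by
    have h1 : orderOf h ∣ Nat.card H := by
      have := orderOf_dvd_natCard (⟨h, hh⟩ : H)
      rwa [← Subgroup.orderOf_coe] at this
    exact Odd.of_dvd_nat hodd h1
  have h3 : (2 ^ k).Coprime (orderOf h) := Nat.Coprime.pow_left k hoh.coprime_two_left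
  obtain ⟨m, hm⟩ := exists_pow_eq_self_of_coprime h3
  have h4 : h ∈ U := by
    rw [← hm]
    exact pow_mem h1 m
  exact mul_mem h4 hu

variable [Finite G] (P : Quad.Pan L U X H n) (hU : IsPGroup 2 U) (hodd : Odd (Nat.card H))
  (hHU : H ≤ normalizer (U : Set G))

include P in
theorem Pan_nH : n ∈ normalizer (H : Set G) := cj_eq_self_iff.1 P.nH

include P in
theorem Pan_nX : n ∈ normalizer (X : Set G) := P.norm P.nL

include P in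
theorem Pan_XU' : X ≤ cj n U := by
  have h1 : cj n X = X := cj_eq_self_iff.2 (Pan_nX P)
  rw [← h1]
  exact cj_mono P.XU

include P hU hodd hHU in
/-- an element of `L` in a `2`-group normalising `U` is in `U` -/
theorem Pan_mem {R : Subgroup G} (hR : IsPGroup 2 R) {x : G} (hx : x ∈ R) (hxL : x ∈ L) (h : cj x U = U) : x ∈ U :=
  two_mem hU hodd hHU hR hx (P.borel x hxL h)

include P hU hodd hHU in
theorem Pan_inter {x : G} (hx : x ∈ U) (h : cj x (cj n U) = cj n U) : x ∈ X := by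
  have h1 : cj (n⁻¹ * x * n) U = U := by
    rw [cj_mul, cj_mul, h, cj_inv_cj]
  have h2 : n⁻¹ * x * n ∈ cj n⁻¹ U := by
    rw [mem_cj]
    have : n⁻¹⁻¹ * (n⁻¹ * x * n) * n⁻¹ = x := by group
    rwa [this]
  have h3 := Pan_mem P hU hodd hHU (isPGroup_cj hU) h2
    (mul_mem (mul_mem (inv_mem P.nL) (P.UL hx)) P.nL) h1
  exact P.inter ⟨hx, mem_cj.2 h3⟩

end Pan

/-- the torus and the panels -/
structure Ext {G : Type u} [Group G] (S : Sylow 2 G) (L1 L2 U Q1 Q2 Y Z H : Subgroup G) (n1 n2 z₀ w : G) : Prop where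
  P1 : Quad.Pan L1 U Q1 H n1
  P2 : Quad.Pan L2 U Q2 H n2
  Hab : ∀ a ∈ H, ∀ b ∈ H, a * b = b * a
  /-- `C_{U/Q2}(H ∩ L2) = 1` -/
  fix2 : ∀ u ∈ U, (∀ h ∈ H ⊓ L2, h * u * h⁻¹ * u⁻¹ ∈ Q2) → u ∈ Q2
  /-- `C_{Q2/Z}(H ∩ L2) = 1` -/
  fixM : ∀ x ∈ Q2, (∀ h ∈ H ⊓ L2, h * x * h⁻¹ * x⁻¹ ∈ Z) → x ∈ Z
  irrY : ∀ M ≤ Y, Z ≤ M → H ⊓ L2 ≤ normalizer (M : Set G) → M = Z ∨ M = Y
  /-- the Sylow subgroup of `G` -/
  SL2 : ∀ s ∈ S, ∀ l ∈ L2, s * l * s⁻¹ ∈ L2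
  centS : ∀ s ∈ S, (∀ a ∈ H ⊓ L2, a * s = s * a) → s ∈ U
  AS : ∀ a ∈ H ⊓ L2, ∀ s ∈ S, a * s * a⁻¹ * s⁻¹ ∈ L2
  z₀Z : z₀ ∈ Z
  z₀1 : z₀ ≠ 1
  z₀S : ∀ s ∈ S, s * z₀ = z₀ * s
  c2 : ∃ R : Subgroup G, (∀ x ∈ R, x * z₀ = z₀ * x) ∧ IsPGroup 2 R ∧
    (∀ d, d * z₀ = z₀ * d → ∀ x ∈ R, d * x * d⁻¹ ∈ R) ∧
    (∀ d, d * z₀ = z₀ * d → (∀ x ∈ R, d * x = x * d) → d ∈ R)
  tr : ∀ z ∈ Z, z ≠ 1 → ∃ h, (∀ x ∈ Q2, h * x * h⁻¹ ∈ Q2) ∧ h * z₀ * h⁻¹ = z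
  wQ : w ∈ Q2
  cyc : Q2 ≤ closure {x | ∃ a ∈ H ⊓ L2, x = a * w * a⁻¹} ⊔ Z

namespace Inp

variable {G : Type u} [Group G] {q : ℕ} {L1 L2 U Q1 Q2 V Y Z H : Subgroup G} {n1 n2 : G}
  (I : Inp q L1 L2 U Q1 Q2 V Y Z H n1 n2) [Finite G]

include I

local notation "𝐓" => TT Q2 V n2

theorem not_E_le : ¬ cj n1 Z ≤ Q2 := by
  intro h
  apply I.not_V_le_Y
  refine le_trans (le_inf le_rfl ?_) I.VQ
  exact I.VZ.trans (sup_le I.Y_Q2 h)

/-- **`n2` centralises the elements of the torus trivial on `V/Y`** -/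
theorem n2_comm (P : Quad.Pan L2 U Q2 H n2) (Hab : ∀ a ∈ H, ∀ b ∈ H, a * b = b * a) {h : G} (hh : h ∈ H)
    (hV : ∀ v ∈ V, h * v * h⁻¹ * v⁻¹ ∈ Y) : h * n2 = n2 * h := by
  have hnn : n2 * n2 ∈ H := I.n2_sq_H
  have hU' : cj n2 (cj n2 U) = U := by
    rw [← cj_mul]
    exact cj_eq_self_iff.2 (I.H_U hnn)
  have hinv : cj n2⁻¹ U = cj n2 U := by
    rw [cj_eq_iff, inv_inv, hU']
  obtain ⟨v, hv, hvY⟩ := SetLike.not_le_iff_exists.1 I.not_V_le_Y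
  have hvU := I.V_U hv
  have hvL := I.U_L2 hvU
  have hvQ : v ∉ Q2 := fun h1 => hvY (I.VQ (mem_inf.2 ⟨hv, h1⟩))
  set U' := cj n2 U with hU'def
  have hQU' : Q2 ≤ U' := Pan_XU' P
  have hU'two : IsPGroup 2 U' := isPGroup_cj I.two
  have hU'L : U' ≤ L2 := by
    rw [hU'def, cj_le_iff]
    intro x hx
    exact mul_mem (mul_mem I.n2_L2 (I.U_L2 hx)) (inv_mem I.n2_L2)
  -- `U'` is transitive on the other conjugates
  have htr : ∀ g ∈ L2, cj g U ≠ U' → ∃ a ∈ U', cj g U = cj a U := by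
    intro g hg hne
    rcases P.trans (n2⁻¹ * g) (mul_mem (inv_mem I.n2_L2) hg) with h1 | ⟨u, hu, h1⟩
    · exfalso
      apply hne
      have h2 : cj (n2⁻¹ * g) U = U := h1
      rw [cj_mul, cj_eq_iff, inv_inv] at h2
      exact h2
    · have h2 : cj (n2⁻¹ * g) U = cj (u * n2) U := h1
      refine ⟨n2 * u * n2⁻¹, conj_mem_cj hu, ?_⟩
      rw [cj_mul, cj_eq_iff, inv_inv] at h2
      rw [h2, ← cj_mul, cj_mul _ n2⁻¹, hinv, ← cj_mul]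
      congr 1
      group
  have hvU' : cj v U' ≠ U' := fun h1 => hvQ (Pan_inter P I.two I.H_odd I.H_U hvU h1)
  have hvU'' : cj v⁻¹ U' ≠ U' := fun h1 => hvU' (by
    rw [cj_eq_iff, inv_inv] at h1
    exact h1.symm)
  obtain ⟨a, ha, ea⟩ := htr (v * n2) (mul_mem hvL I.n2_L2) (by rw [cj_mul]; exact hvU')
  obtain ⟨b, hb, eb⟩ := htr (v⁻¹ * n2) (mul_mem (inv_mem hvL) I.n2_L2) (by rw [cj_mul]; exact hvU'')
  rw [cj_mul, ← hU'def] at ea eb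
  -- `m = a⁻¹ v b` swaps `U` and `U'`
  have haU' : cj a⁻¹ U' = U' := cj_of_mem (inv_mem ha)
  have hbU' : cj b U' = U' := cj_of_mem hb
  have hm1 : cj (a⁻¹ * v * b) U = U' := by
    rw [cj_mul, cj_mul, ← eb, cj_cj_inv, haU']
  have hm2 : cj (a⁻¹ * v * b) U' = U := by
    rw [cj_mul, cj_mul, hbU', ea, cj_inv_cj]
  have hmL : a⁻¹ * v * b ∈ L2 := mul_mem (mul_mem (inv_mem (hU'L ha)) hvL) (hU'L hb)
  set m := a⁻¹ * v * b with hm
  have hc1 : cj (n2⁻¹ * m) U = U := by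
    rw [cj_mul, hm1, hU'def, cj_inv_cj]
  have hc2 : cj (n2⁻¹ * m) U' = U' := by
    rw [cj_mul, hm2, hinv]
  obtain ⟨u, hu, t, ht, e⟩ := I.exists_UH (P.borel _ (mul_mem (inv_mem I.n2_L2) hmL) hc1)
  have htU' : cj t U' = U' := by
    rw [hU'def, cj_eq_self_iff]
    exact le_normalizer_cj I.n2_H I.H_U ht
  have huQ : u ∈ Q2 := by
    refine Pan_inter P I.two I.H_odd I.H_U hu ?_
    rw [e, cj_mul, htU'] at hc2
    exact hc2
  -- `h` commutes with `a`, `b` modulo `Q2`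
  have hhU : cj h U = U := cj_eq_self_iff.2 (I.H_U hh)
  have hhU' : cj h U' = U' := cj_eq_self_iff.2 (le_normalizer_cj I.n2_H I.H_U hh)
  have hhU'' : cj h⁻¹ U' = U' := by rw [cj_eq_iff, inv_inv, hhU']
  have hhUi : cj h⁻¹ U = U := by rw [cj_eq_iff, inv_inv, hhU]
  have hhv : h * v * h⁻¹ * v⁻¹ ∈ Q2 := I.Y_Q2 (hV v hv)
  have key : ∀ x ∈ L2, ∀ c ∈ U', h * x * h⁻¹ * x⁻¹ ∈ Q2 → cj x U' = cj c U → h * c * h⁻¹ * c⁻¹ ∈ Q2 := by
    intro x hx c hc hxQ hxc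
    have h1 : cj (h * c * h⁻¹) U = cj c U := by
      have e1 : cj (h * c * h⁻¹) U = cj h (cj x U') := by
        rw [cj_mul, cj_mul, hhUi, ← hxc]
      have e2 : cj h (cj x U') = cj (h * x * h⁻¹ * x⁻¹) (cj x U') := by
        have e3 : cj h (cj x U') = cj (h * x * h⁻¹) (cj h U') := by
          have e4 : h * x * h⁻¹ * h = h * x := by group
          rw [← cj_mul h x U', ← cj_mul (h * x * h⁻¹) h U', e4]
        have e4 : h * x * h⁻¹ * x⁻¹ * x = h * x * h⁻¹ := by group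
        rw [e3, hhU', ← cj_mul (h * x * h⁻¹ * x⁻¹) x U', e4]
      have e3 : cj (h * x * h⁻¹ * x⁻¹) (cj x U') = cj x U' := by
        rw [← cj_mul]
        have e4 : h * x * h⁻¹ * x⁻¹ * x = x * (x⁻¹ * (h * x * h⁻¹ * x⁻¹) * x) := by group
        have h5 : x⁻¹ * (h * x * h⁻¹ * x⁻¹) * x ∈ Q2 := conj_inv_mem_of_normalizer (I.L2_Q2 hx) hxQ
        rw [e4, cj_mul, cj_of_mem (hQU' h5)]
      rw [e1, e2, e3, hxc]
    -- `c⁻¹ (h c h⁻¹)` normalises `U`, so `h c h⁻¹ c⁻¹ ∈ c U c⁻¹`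
    have h2 : cj (c⁻¹ * (h * c * h⁻¹)) U = U := by rw [cj_mul, h1, cj_inv_cj]
    have hhc : h * c * h⁻¹ ∈ U' := by
      rw [← hhU']
      exact conj_mem_cj hc
    have h3 : c⁻¹ * (h * c * h⁻¹) ∈ U' := mul_mem (inv_mem hc) hhc
    have h4 : c⁻¹ * (h * c * h⁻¹) ∈ U := Pan_mem P I.two I.H_odd I.H_U hU'two h3 (hU'L h3) h2
    have h5 : c⁻¹ * (h * c * h⁻¹) ∈ Q2 := P.inter ⟨h4, h3⟩
    have h6 := conj_mem_of_normalizer (I.L2_Q2 (hU'L hc)) h5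
    have e5 : c * (c⁻¹ * (h * c * h⁻¹)) * c⁻¹ = h * c * h⁻¹ * c⁻¹ := by group
    rwa [e5] at h6
  have hca : h * a * h⁻¹ * a⁻¹ ∈ Q2 := key v hvL a ha hhv ea
  have hcb : h * b * h⁻¹ * b⁻¹ ∈ Q2 := by
    refine key v⁻¹ (inv_mem hvL) b hb ?_ eb
    have h1 := conj_inv_mem_of_normalizer (I.L2_Q2 hvL) (inv_mem hhv)
    have e1 : v⁻¹ * (h * v * h⁻¹ * v⁻¹)⁻¹ * v = h * v⁻¹ * h⁻¹ * v⁻¹⁻¹ := by group
    rwa [e1] at h1
  -- `[h, m] ∈ Q2`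
  have hcm : h * m * h⁻¹ * m⁻¹ ∈ Q2 := by
    have haL : a⁻¹ ∈ normalizer (Q2 : Set G) := I.L2_Q2 (inv_mem (hU'L ha))
    have h1 : h * a⁻¹ * h⁻¹ * a⁻¹⁻¹ ∈ Q2 := by
      have h1 := conj_mem_of_normalizer haL (inv_mem hca)
      have e1 : a⁻¹ * (h * a * h⁻¹ * a⁻¹)⁻¹ * a⁻¹⁻¹ = h * a⁻¹ * h⁻¹ * a⁻¹⁻¹ := by group
      rwa [e1] at h1
    have e1 : h * m * h⁻¹ * m⁻¹ = (h * a⁻¹ * h⁻¹ * a⁻¹⁻¹) *
      (a⁻¹ * ((h * v * h⁻¹ * v⁻¹) * (v * (h * b * h⁻¹ * b⁻¹) * v⁻¹)) * a⁻¹⁻¹) := by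
      rw [hm]; group
    rw [e1]
    exact mul_mem h1 (conj_mem_of_normalizer haL (mul_mem hhv (conj_mem_of_normalizer (I.L2_Q2 hvL) hcb)))
  have hmn : m = n2 * u * t := by
    have : m = n2 * (n2⁻¹ * m) := by group
    rw [this, e]; group
  have hn2 : h * n2 * h⁻¹ * n2⁻¹ ∈ Q2 := by
    have h1 : h * m * h⁻¹ * m⁻¹ = (h * n2 * h⁻¹ * n2⁻¹) * (n2 * (h * u * h⁻¹ * u⁻¹) * n2⁻¹) := by
      have h2 := Hab h hh t ht
      have h3 : t * h⁻¹ = h⁻¹ * t := by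
        calc t * h⁻¹ = h⁻¹ * (h * t) * h⁻¹ := by group
          _ = h⁻¹ * (t * h) * h⁻¹ := by rw [h2]
          _ = h⁻¹ * t := by group
      rw [hmn]
      calc h * (n2 * u * t) * h⁻¹ * (n2 * u * t)⁻¹ = h * n2 * u * (t * h⁻¹) * t⁻¹ * u⁻¹ * n2⁻¹ := by group
        _ = h * n2 * u * (h⁻¹ * t) * t⁻¹ * u⁻¹ * n2⁻¹ := by rw [h3]
        _ = _ := by group
    rw [h1] at hcm
    have h4 : n2 * (h * u * h⁻¹ * u⁻¹) * n2⁻¹ ∈ Q2 :=
      conj_mem_of_normalizer I.n2_Q2 (mul_mem (conj_mem_of_normalizer (I.H_Q2 hh) huQ) (inv_mem huQ))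
    have h5 := mul_mem hcm (inv_mem h4)
    rwa [mul_inv_cancel_right] at h5
  have h1 : h * n2 * h⁻¹ * n2⁻¹ ∈ U ⊓ H := by
    refine mem_inf.2 ⟨I.Q2_U hn2, ?_⟩
    have := mul_mem hh (conj_mem_of_normalizer I.n2_H (inv_mem hh))
    have e : h * (n2 * h⁻¹ * n2⁻¹) = h * n2 * h⁻¹ * n2⁻¹ := by group
    rwa [e] at this
  rw [I.U_inf_H, mem_bot] at h1
  calc h * n2 = (h * n2 * h⁻¹ * n2⁻¹) * n2 * h := by group
    _ = n2 * h := by rw [h1, one_mul]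

section

variable {S : Sylow 2 G} {z₀ w : G} (X : Ext S L1 L2 U Q1 Q2 Y Z H n1 n2 z₀ w)

include X

theorem L2_Z : L2 ≤ normalizer (Z : Set G) := by
  intro l hl
  refine mem_normalizer_of_conj fun z hz => ?_
  rw [I.ZL2 z hz l hl, mul_inv_cancel_right]
  exact hz

theorem cj_n2_Z : cj n2 Z = Z := cj_eq_self_iff.2 (I.L2_Z X I.n2_L2)

/-- `H` is irreducible on `U/Q1` -/
theorem irrU1 (M : Subgroup G) (h1 : Q1 ≤ M) (h2 : M ≤ U) (h3 : H ≤ normalizer (M : Set G)) : M = Q1 ∨ M = U := by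
  have hcZ : cj n2⁻¹ Z = Z := by rw [cj_eq_iff, inv_inv, I.cj_n2_Z X]
  set N := cj n2⁻¹ (M ⊓ cj n2 Y) with hN
  have hNY : N ≤ Y := by
    have : N ≤ cj n2⁻¹ (cj n2 Y) := cj_mono inf_le_right
    rwa [cj_inv_cj] at this
  have hZN : Z ≤ N := by
    rw [← hcZ, hN]
    exact cj_mono (le_inf (I.Z_V.trans (I.V_Q1.trans h1)) I.Z_cj)
  have hHN : H ⊓ L2 ≤ normalizer (N : Set G) :=
    inf_le_left.trans (le_normalizer_cj (inv_mem I.n2_H) (le_normalizer_inf' h3 I.H_F))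
  have hN' : cj n2 N = M ⊓ cj n2 Y := by rw [hN, cj_cj_inv]
  rcases X.irrY N hNY hZN hHN with h | h
  · left
    refine le_antisymm (fun x hx => ?_) h1
    obtain ⟨f, hf, y, hy, rfl⟩ := I.exists_mul (h2 hx)
    have hfM : f ∈ M ⊓ cj n2 Y := by
      refine mem_inf.2 ⟨?_, hf⟩
      have := mul_mem hx (inv_mem (h1 hy))
      rwa [mul_inv_cancel_right] at this
    rw [← hN', h, I.cj_n2_Z X] at hfM
    exact mul_mem (I.V_Q1 (I.Z_V hfM)) hy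
  · right
    refine le_antisymm h2 fun x hx => ?_
    obtain ⟨f, hf, y, hy, rfl⟩ := I.exists_mul hx
    rw [← h, hN'] at hf
    exact mul_mem (mem_inf.1 hf).1 (h1 hy)

/-- `C_{U/Q1}(n1 (H ∩ L2) n1⁻¹) = 1` -/
theorem fixA1 {u : G} (hu : u ∈ U) (h : ∀ a ∈ cj n1 (H ⊓ L2), a * u * a⁻¹ * u⁻¹ ∈ Q1) : u ∈ Q1 := by
  have hAH : cj n1 (H ⊓ L2) ≤ H := by
    have h1 : cj n1 H = H := cj_eq_self_iff.2 I.n1_H
    exact (cj_mono inf_le_left).trans h1.le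
  rcases I.irrU1 X (fixOn (cj n1 (H ⊓ L2)) U Q1 I.U_Q1)
    (fun x hx => ⟨I.Q1_U hx, fun a ha => mul_mem (conj_mem_of_normalizer (I.H_Q1 (hAH ha)) hx) (inv_mem hx)⟩)
    (fun x hx => hx.1) (fun g hg => mem_normalizer_of_conj fun x hx =>
      ⟨conj_mem_of_normalizer (I.H_U hg) hx.1, fun a ha => by
        have h2 := conj_mem_of_normalizer (I.H_Q1 hg) (hx.2 a ha)
        have h3 := X.Hab g hg a (hAH ha)
        have e : g * (a * x * a⁻¹ * x⁻¹) * g⁻¹ = a * (g * x * g⁻¹) * a⁻¹ * (g * x * g⁻¹)⁻¹ := by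
          have h4 : a⁻¹ * g⁻¹ = g⁻¹ * a⁻¹ := by rw [← mul_inv_rev, ← mul_inv_rev, h3]
          calc g * (a * x * a⁻¹ * x⁻¹) * g⁻¹ = (g * a) * x * a⁻¹ * x⁻¹ * g⁻¹ := by group
            _ = (a * g) * x * a⁻¹ * x⁻¹ * g⁻¹ := by rw [h3]
            _ = a * g * x * g⁻¹ * a⁻¹ * (a * g * a⁻¹) * x⁻¹ * g⁻¹ := by group
            _ = a * g * x * g⁻¹ * a⁻¹ * (g * a * a⁻¹) * x⁻¹ * g⁻¹ := by rw [h3]
            _ = _ := by group
        rwa [e] at h2⟩) with h1 | h1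
  · rw [← h1]
    exact ⟨hu, h⟩
  · exfalso
    -- `A` is trivial on `U/Q1`
    have hP := X.P1
    have hA : ∀ a ∈ H ⊓ L2, ∀ x ∈ U, a * x * a⁻¹ * x⁻¹ ∈ Q1 := by
      intro a ha x hx
      obtain ⟨c, hc⟩ : ∃ c, c = n1 * a * n1⁻¹ := ⟨_, rfl⟩
      have hcA : c ∈ cj n1 (H ⊓ L2) := by rw [hc]; exact conj_mem_cj ha
      have hcH := hAH hcA
      -- `c` fixes all conjugates of `U`
      have hcU : cj c U = U := cj_eq_self_iff.2 (I.H_U hcH)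
      have hcU' : cj c (cj n1 U) = cj n1 U := cj_eq_self_iff.2 (le_normalizer_cj I.n1_H I.H_U hcH)
      have hQU' : Q1 ≤ cj n1 U := Pan_XU' hP
      have hall : ∀ g ∈ L1, cj c (cj g U) = cj g U := by
        intro g hg
        rcases hP.trans g hg with h2 | ⟨y, hy, h2⟩
        · have h2' : cj g U = U := h2
          rw [h2', hcU]
        · have h2' : cj g U = cj (y * n1) U := h2
          rw [h2', cj_mul y n1 U, ← cj_mul c y (cj n1 U)]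
          have h3 : c * y * c⁻¹ * y⁻¹ ∈ Q1 := by
            rw [← h1] at hy
            exact hy.2 c hcA
          have h4 : y⁻¹ * (c * y * c⁻¹ * y⁻¹) * y ∈ Q1 := conj_inv_mem_of_normalizer (I.U_Q1 hy) h3
          have e : c * y = y * (y⁻¹ * (c * y * c⁻¹ * y⁻¹) * y) * c := by group
          rw [e, cj_mul _ c, hcU', cj_mul y, cj_of_mem (hQU' h4)]
      obtain ⟨x', hx'⟩ : ∃ x', x' = n1 * x * n1⁻¹ := ⟨_, rfl⟩
      have hxU' : x' ∈ cj n1 U := by rw [hx']; exact conj_mem_cj hx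
      have hxL : x' ∈ L1 := by
        rw [hx']
        exact mul_mem (mul_mem I.n1_mem (I.U_L1 hx)) (inv_mem I.n1_mem)
      have h2 : c * x' * c⁻¹ * x'⁻¹ ∈ cj n1 U := by
        have h3 : c * x' * c⁻¹ ∈ cj n1 U := by
          rw [← hcU']
          exact conj_mem_cj hxU'
        exact mul_mem h3 (inv_mem hxU')
      have h2L : c * x' * c⁻¹ * x'⁻¹ ∈ L1 :=
        mul_mem (conj_mem_of_normalizer (I.H_L1 hcH) hxL) (inv_mem hxL)
      have h3 : cj (c * x' * c⁻¹ * x'⁻¹) U = U := by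
        have h4 : cj c⁻¹ (cj x'⁻¹ U) = cj x'⁻¹ U := by
          rw [cj_eq_iff, inv_inv]
          exact (hall _ (inv_mem hxL)).symm
        rw [cj_mul, cj_mul, h4, cj_mul, cj_cj_inv, hcU]
      have h4 : c * x' * c⁻¹ * x'⁻¹ ∈ U :=
        Pan_mem hP I.two I.H_odd I.H_U (isPGroup_cj I.two) h2 h2L h3
      have h5 : c * x' * c⁻¹ * x'⁻¹ ∈ Q1 := hP.inter ⟨h4, h2⟩
      have h6 := conj_inv_mem_of_normalizer I.n1_Q1 h5
      have e : n1⁻¹ * (c * x' * c⁻¹ * x'⁻¹) * n1 = a * x * a⁻¹ * x⁻¹ := by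
        rw [hc, hx']; group
      rwa [e] at h6
    -- so `F ≤ Z`
    have hFZ : cj n2 Y ≤ Z := by
      intro f hf
      refine X.fixM f (I.cj_Y_Q2 hf) fun a ha => ?_
      rw [← I.inf_eq, ← I.inf_Q1]
      exact mem_inf.2 ⟨mul_mem (conj_mem_of_normalizer (I.H_F ha.1) hf) (inv_mem hf), hA a ha f (I.cj_Y_U hf)⟩
    have h2 := Subgroup.card_le_of_le hFZ
    rw [card_cj, I.card_Y, I.card_Z] at h2
    have := I.q4
    have h6 : q ^ 1 < q ^ 3 := Nat.pow_lt_pow_right (by omega) (by omega)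
    rw [pow_one] at h6
    omega

/-- `C_{Q2}(n1 (H ∩ L2) n1⁻¹) = 1` -/
theorem fixA2 {x : G} (hx : x ∈ Q2) (h : ∀ a ∈ cj n1 (H ⊓ L2), a * x = x * a) : x = 1 := by
  have h1 : x ∈ Q1 := I.fixA1 X (I.Q2_U hx) fun a ha => by
    rw [h a ha, mul_inv_cancel_right, mul_inv_cancel]; exact one_mem _
  have h2 : ∀ a ∈ H ⊓ L2, a * (n1⁻¹ * x * n1) = n1⁻¹ * x * n1 * a := by
    intro a ha
    have h3 := h _ (conj_mem_cj ha)
    calc a * (n1⁻¹ * x * n1) = n1⁻¹ * ((n1 * a * n1⁻¹) * x) * n1 := by group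
      _ = n1⁻¹ * (x * (n1 * a * n1⁻¹)) * n1 := by rw [h3]
      _ = n1⁻¹ * x * n1 * a := by group
  have h3 : n1⁻¹ * x * n1 ∈ Q2 := X.fix2 _ (I.Q1_U (conj_inv_mem_of_normalizer I.n1_Q1 h1)) fun a ha => by
    rw [h2 a ha, mul_inv_cancel_right, mul_inv_cancel]; exact one_mem _
  have h4 : n1⁻¹ * x * n1 ∈ Z := X.fixM _ h3 fun a ha => by
    rw [h2 a ha, mul_inv_cancel_right, mul_inv_cancel]; exact one_mem _
  have h5 : x ∈ cj n1 𝐓 ⊓ Q2 := mem_inf.2 ⟨(cj_mono I.Z_T) (mem_cj.2 h4), hx⟩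
  rwa [I.E_inf, mem_bot] at h5

theorem A_VY {a : G} (ha : a ∈ H ⊓ L2) : ∀ v ∈ V, (n1 * a * n1⁻¹) * v * (n1 * a * n1⁻¹)⁻¹ * v⁻¹ ∈ Y := by
  intro v hv
  have hcH : n1 * a * n1⁻¹ ∈ H := conj_mem_of_normalizer I.n1_H ha.1
  have hYn : Y ≤ normalizer (cj n1 Z : Set G) := by
    intro b hb
    refine mem_normalizer_of_conj fun x hx => ?_
    have hxV : x ∈ V := by rw [← I.cj_n1_V]; exact (cj_mono I.Z_V) hx
    rw [I.V_ab (I.Y_V hb) hxV, mul_inv_cancel_right]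
    exact hx
  obtain ⟨y, hy, z, hz, rfl⟩ := exists_of_mem_sup hYn (I.VZ hv)
  have hcz : (n1 * a * n1⁻¹) * z = z * (n1 * a * n1⁻¹) := by
    have h1 := I.ZL2 _ (mem_cj.1 hz) a ha.2
    calc (n1 * a * n1⁻¹) * z = n1 * (a * (n1⁻¹ * z * n1)) * n1⁻¹ := by group
      _ = n1 * ((n1⁻¹ * z * n1) * a) * n1⁻¹ := by rw [h1]
      _ = z * (n1 * a * n1⁻¹) := by group
  set c := n1 * a * n1⁻¹ with hc
  have e : c * (y * z) * c⁻¹ * (y * z)⁻¹ = c * y * c⁻¹ * y⁻¹ := by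
    calc c * (y * z) * c⁻¹ * (y * z)⁻¹ = c * y * c⁻¹ * (c * z) * c⁻¹ * z⁻¹ * y⁻¹ := by group
      _ = c * y * c⁻¹ * (z * c) * c⁻¹ * z⁻¹ * y⁻¹ := by rw [hcz]
      _ = c * y * c⁻¹ * y⁻¹ := by group
  rw [e]
  exact mul_mem (conj_mem_of_normalizer (I.H_Y hcH) hy) (inv_mem hy)

/-- `n2` centralises `n1 (H ∩ L2) n1⁻¹` -/
theorem n2_A' {a : G} (ha : a ∈ H ⊓ L2) : (n1 * a * n1⁻¹) * n2 = n2 * (n1 * a * n1⁻¹) :=
  I.n2_comm X.P2 X.Hab (conj_mem_of_normalizer I.n1_H ha.1) (I.A_VY X ha)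

/-- the rank one group of `n1 Z n1⁻¹` centralises `n1 (H ∩ L2) n1⁻¹` -/
theorem A'_K : cj n1 Z ⊔ cj n2 (cj n1 Z) ≤ centralizer (cj n1 (H ⊓ L2) : Set G) := by
  have h0 : ∀ z ∈ cj n1 Z, ∀ a ∈ cj n1 (H ⊓ L2), a * z = z * a := by
    rintro _ ⟨z, hz, rfl⟩ _ ⟨a, ha, rfl⟩
    change n1 * a * n1⁻¹ * (n1 * z * n1⁻¹) = n1 * z * n1⁻¹ * (n1 * a * n1⁻¹)
    have := I.ZL2 z hz a (mem_inf.1 ha).2
    calc n1 * a * n1⁻¹ * (n1 * z * n1⁻¹) = n1 * (a * z) * n1⁻¹ := by group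
      _ = n1 * (z * a) * n1⁻¹ := by rw [this]
      _ = n1 * z * n1⁻¹ * (n1 * a * n1⁻¹) := by group
  refine sup_le (fun z hz => mem_centralizer_iff.2 (h0 z hz)) ?_
  rintro _ ⟨z, hz, rfl⟩
  rw [mem_centralizer_iff]
  rintro _ ⟨a, ha, rfl⟩
  have h1 := h0 z hz _ (conj_mem_cj ha)
  have h2 := I.n2_A' X ha
  change n1 * a * n1⁻¹ * (n2 * z * n2⁻¹) = n2 * z * n2⁻¹ * (n1 * a * n1⁻¹)
  set c := n1 * a * n1⁻¹ with hc
  have h3 : c * n2⁻¹ = n2⁻¹ * c := by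
    calc c * n2⁻¹ = n2⁻¹ * (n2 * c) * n2⁻¹ := by group
      _ = n2⁻¹ * (c * n2) * n2⁻¹ := by rw [h2]
      _ = n2⁻¹ * c := by group
  calc c * (n2 * z * n2⁻¹) = (c * n2) * z * n2⁻¹ := by group
    _ = (n2 * c) * z * n2⁻¹ := by rw [h2]
    _ = n2 * (c * z) * n2⁻¹ := by group
    _ = n2 * (z * c) * n2⁻¹ := by rw [h1]
    _ = n2 * z * (c * n2⁻¹) := by group
    _ = n2 * z * (n2⁻¹ * c) := by rw [h3]
    _ = n2 * z * n2⁻¹ * c := by group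

/-- `n2 ∈ ⟨n1 Z n1⁻¹, n2 n1 Z n1⁻¹ n2⁻¹⟩` -/
theorem n2_mem_K : n2 ∈ cj n1 Z ⊔ cj n2 (cj n1 Z) := by
  set K := cj n1 Z ⊔ cj n2 (cj n1 Z) with hK
  have hZV : cj n1 Z ≤ V := by rw [← I.cj_n1_V]; exact cj_mono I.Z_V
  have hKL : K ≤ L2 := by
    refine sup_le (hZV.trans (I.V_U.trans I.U_L2)) ?_
    rw [cj_le_iff]
    intro z hz
    exact mul_mem (mul_mem I.n2_L2 (I.U_L2 (I.V_U (hZV hz)))) (inv_mem I.n2_L2)
  have hV : V ≤ K ⊔ Q2 := I.VZ.trans (sup_le (I.Y_Q2.trans le_sup_right) (le_sup_left.trans le_sup_left))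
  have hV' : cj n2 V ≤ K ⊔ Q2 := by
    have h1 := cj_mono (g := n2) I.VZ
    rw [cj_sup] at h1
    exact h1.trans (sup_le (I.cj_Y_Q2.trans le_sup_right) (le_sup_right.trans le_sup_left))
  obtain ⟨l, hl, x, hx, e⟩ := exists_of_mem_sup (hKL.trans I.L2_Q2) ((sup_le hV hV') I.n2_X)
  have hx1 : x = 1 := by
    refine I.fixA2 X hx fun a ha => ?_
    have h1 : l * a = a * l := (mem_centralizer_iff.1 (I.A'_K X hl) a ha).symm
    have h2 : a * n2 = n2 * a := by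
      obtain ⟨b, hb, rfl⟩ := ha
      exact I.n2_A' X hb
    have e1 : x = l⁻¹ * n2 := by rw [e]; group
    have h3 : a * l⁻¹ = l⁻¹ * a := by
      calc a * l⁻¹ = l⁻¹ * (l * a) * l⁻¹ := by group
        _ = l⁻¹ * (a * l) * l⁻¹ := by rw [h1]
        _ = l⁻¹ * a := by group
    rw [e1]
    calc a * (l⁻¹ * n2) = (a * l⁻¹) * n2 := by group
      _ = l⁻¹ * (a * n2) := by rw [h3]; group
      _ = l⁻¹ * (n2 * a) := by rw [h2]
      _ = l⁻¹ * n2 * a := by group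
  rw [e, hx1, mul_one]
  exact hl

/-- a normal `2`-subgroup of `L2` is in `Q2` -/
theorem Qmax {R : Subgroup G} (hRL : R ≤ L2) (hR : IsPGroup 2 R) (hn : ∀ l ∈ L2, ∀ x ∈ R, l * x * l⁻¹ ∈ R) : R ≤ Q2 := by
  haveI : Fact (Nat.Prime 2) := ⟨Nat.prime_two⟩
  have hLR : L2 ≤ normalizer (R : Set G) := fun l hl => mem_normalizer_of_conj fun x hx => hn l hl x hx
  -- `R U` is a `2`-group
  have hRU : IsPGroup 2 ↥(R ⊔ U) := hR.to_sup_of_normal_left' I.two (I.U_L2.trans hLR)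
  have hRUL : R ⊔ U ≤ L2 := sup_le hRL I.U_L2
  have hself : ∀ x ∈ R ⊔ U, x ∈ normalizer (U : Set G) → x ∈ U := fun x hx hxn =>
    Pan_mem X.P2 I.two I.H_odd I.H_U hRU hx (hRUL hx) (cj_eq_self_iff.2 hxn)
  have hnil : Group.IsNilpotent ↥(R ⊔ U) := hRU.isNilpotent
  have hU : U.subgroupOf (R ⊔ U) = ⊤ := by
    by_contra hne
    have h1 := Group.normalizerCondition_of_isNilpotent (G := ↥(R ⊔ U)) _ (lt_top_iff_ne_top.2 hne)
    apply h1.not_ge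
    intro x hx
    rw [mem_subgroupOf]
    refine hself x x.2 (mem_normalizer_of_conj fun y hy => ?_)
    have h2 := (mem_normalizer_iff.1 hx ⟨y, mem_sup_right hy⟩).1 (mem_subgroupOf.2 hy)
    exact mem_subgroupOf.1 h2
  have hRU' : R ≤ U := by
    intro x hx
    have h1 : (⟨x, mem_sup_left hx⟩ : ↥(R ⊔ U)) ∈ U.subgroupOf (R ⊔ U) := by rw [hU]; exact mem_top _
    exact mem_subgroupOf.1 h1
  intro x hx
  refine X.P2.inter ⟨hRU' hx, ?_⟩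
  have h1 : cj n2 R = R := cj_eq_self_iff.2 (hLR I.n2_L2)
  have h2 : cj n2 R ≤ cj n2 U := cj_mono hRU'
  rw [h1] at h2
  exact h2 hx

theorem comm_Q2 : ⁅Q2, Q2⁆ = Z := by
  apply le_antisymm
  · rw [commutator_le]
    intro a ha b hb
    rw [commutatorElement_def]
    exact I.com_Q2 ha hb
  · -- a nontrivial commutator
    obtain ⟨c, hc, hcZ, hc1⟩ : ∃ c ∈ ⁅Q2, Q2⁆, c ∈ Z ∧ c ≠ 1 := by
      by_contra hcon
      push Not at hcon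
      have h1 : Y ≤ Z := by
        intro y hy
        refine I.CY (I.Y_V hy) fun f hf => ?_
        have h2 : ⁅f, y⁆ ∈ ⁅Q2, Q2⁆ := commutator_mem_commutator (I.cj_Y_Q2 hf) (I.Y_Q2 hy)
        have h3 : ⁅f, y⁆ ∈ Z := by
          rw [commutatorElement_def]
          exact I.com_Q2 (I.cj_Y_Q2 hf) (I.Y_Q2 hy)
        exact commutatorElement_eq_one_iff_mul_comm.1 (hcon _ h2 h3)
      have h2 := Subgroup.card_le_of_le h1
      rw [I.card_Y, I.card_Z] at h2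
      have := I.q4
      have h6 : q ^ 1 < q ^ 3 := Nat.pow_lt_pow_right (by omega) (by omega)
      rw [pow_one] at h6
      omega
    have hconj : ∀ h : G, (∀ x ∈ Q2, h * x * h⁻¹ ∈ Q2) → cj h ⁅Q2, Q2⁆ = ⁅Q2, Q2⁆ := by
      intro h hh
      have h1 : cj h Q2 = Q2 := cj_eq_self_iff.2 (mem_normalizer_of_conj hh)
      have h2 : cj h ⁅Q2, Q2⁆ = ⁅cj h Q2, cj h Q2⁆ := map_commutator _ _ _
      rw [h2, h1]
    obtain ⟨h, hh, e⟩ := X.tr c hcZ hc1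
    have hz₀ : z₀ ∈ ⁅Q2, Q2⁆ := by
      rw [← hconj h hh, ← e] at hc
      have := mem_cj.1 hc
      have e2 : h⁻¹ * (h * z₀ * h⁻¹) * h = z₀ := by group
      rwa [e2] at this
    intro z hz
    by_cases hz1 : z = 1
    · rw [hz1]; exact one_mem _
    · obtain ⟨k, hk, e2⟩ := X.tr z hz hz1
      rw [← hconj k hk, ← e2]
      exact conj_mem_cj hz₀

theorem croot : Central.CRoot S L2 Q2 Z (H ⊓ L2) z₀ w where
  SL := X.SL2
  QL := I.Q2_U.trans I.U_L2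
  Q2 := I.two.to_le I.Q2_U
  Qn l hl x hx := conj_mem_of_normalizer (I.L2_Q2 hl) hx
  Qmax R hR h2 hn := I.Qmax X hR h2 hn
  ZL l hl z hz := I.ZL2 z hz l hl
  comm := I.comm_Q2 X
  sq x hx := I.sq_Q2 hx
  irr R hR hn := I.irr X.irrY hR hn
  z₀Z := X.z₀Z
  z₀1 := X.z₀1
  z₀S := X.z₀S
  c2 := X.c2
  tr := X.tr
  Aab a ha b hb := X.Hab a (mem_inf.1 ha).1 b (mem_inf.1 hb).1
  Aodd := Odd.of_dvd_nat I.H_odd (card_dvd_of_le inf_le_left)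
  AZ a ha z hz := I.ZL2 z hz a (mem_inf.1 ha).2
  AQ a ha x hx := conj_mem_of_normalizer (I.H_Q2 (mem_inf.1 ha).1) hx
  AL a ha x hx := mul_mem (mul_mem (mem_inf.1 ha).2 hx) (inv_mem (mem_inf.1 ha).2)
  AS := X.AS
  cent s hs h := by
    have h1 := X.centS s hs h
    have h2 : s ∈ Q2 := X.fix2 s h1 fun a ha => by
      rw [h a ha, mul_inv_cancel_right, mul_inv_cancel]; exact one_mem _
    exact X.fixM s h2 fun a ha => by
      rw [h a ha, mul_inv_cancel_right, mul_inv_cancel]; exact one_mem _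
  wQ := X.wQ
  cyc := X.cyc

/-- `n2 ∉ L1 H` -/
theorem n2_sep : n2 ∉ L1 ⊔ H := by
  intro h
  have h1 : cj n2 V = V := cj_eq_self_iff.2 ((sup_le I.L1_V I.H_V) h)
  apply I.X_two
  rw [h1, sup_idem]
  exact I.two.to_le I.V_U

/-- **The quadrangle data of type `U₅(q)`.** -/
theorem qdata : Quad.QData S L2 L1 U Q2 Q1 Z Y (Q1 ⊓ Q2) H (H ⊓ L2) n2 n1 z₀ w where
  two :=
    { twoU := I.two
      odd := I.H_odd
      HU := I.H_U
      P1 := X.P2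
      P2 := X.P1
      sep := I.n2_sep X }
  cr := I.croot X
  n1A a ha := mem_inf.2 ⟨conj_inv_mem_of_normalizer I.n2_H (mem_inf.1 ha).1,
    mul_mem (mul_mem (inv_mem I.n2_L2) (mem_inf.1 ha).2) I.n2_L2⟩
  n2A a ha := by
    have h1 := X.Hab _ I.n1_sq_H a (mem_inf.1 ha).1
    have e : (n1 * n1)⁻¹ * a * (n1 * n1) = a := by
      rw [mul_assoc, ← h1, inv_mul_cancel_left]
    rw [e]; exact ha
  EU := (show cj n1 Z ≤ U from (cj_mono I.Z_V).trans (I.cj_n1_V.le.trans I.V_U))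
  EQ1 := I.not_E_le
  comm a ha z hz := by
    have h1 : n2 * (n1 * z * n1⁻¹) * n2⁻¹ ∈ cj n1 Z ⊔ cj n2 (cj n1 Z) :=
      mem_sup_right (conj_mem_cj (conj_mem_cj hz))
    exact (mem_centralizer_iff.1 (I.A'_K X h1) _ (conj_mem_cj ha)).symm
  refl := ⟨n2, I.n2_mem_K X, by rw [inv_mul_cancel]; exact one_mem _⟩
  pair := by
    have h4 : 2 < Nat.card Z := by rw [I.card_Z]; have := I.q4; omega
    by_contra hcon
    push Not at hcon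
    have h1 : ∀ z ∈ Z, z ≠ 1 → z = z₀ := fun z hz hz1 => hcon z hz z₀ X.z₀Z hz1 X.z₀1
    have h2 : (Z : Set G) ⊆ {1, z₀} := by
      intro z hz
      by_cases hz1 : z = 1
      · exact Or.inl hz1
      · exact Or.inr (h1 z hz hz1)
    have h3 := Set.ncard_le_ncard h2 (Set.toFinite _)
    have h5 : (Z : Set G).ncard = Nat.card Z := rfl
    have h6 : ({1, z₀} : Set G).ncard ≤ 2 := (Set.ncard_insert_le _ _).trans (by rw [Set.ncard_singleton])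
    omega
  YQ1 := I.Y_Q2
  YQ2 := I.Y_V.trans I.V_Q1
  DQ1 := inf_le_right
  DQ2 := inf_le_left
  YB := I.UH_Y
  DB := sup_le (le_normalizer_inf' I.U_Q1 I.U_Q2) (le_normalizer_inf' I.H_Q1 I.H_Q2)
  X4 u hu := by
    obtain ⟨f, hf, x, hx, rfl⟩ := I.exists_X1 hu
    exact mul_mem (mem_sup_left hf) (mem_sup_right hx)
  X1 u hu := by
    obtain ⟨e, he, x, hx, rfl⟩ := I.exists_EQ2 hu
    refine mul_mem (mem_sup_left ?_) (mem_sup_right hx)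
    have h1 : 𝐓 ≤ Q1 ⊓ Q2 := le_inf I.T_Q1 I.T_Q2
    have h2 : 𝐓 ≤ cj n2 (Q1 ⊓ Q2) := by
      rw [← I.cj_n2_T]
      exact cj_mono h1
    exact (cj_mono (g := n1) (le_inf h1 h2)) he

/-- **The closing theorem for the type `U₅(q)`.** -/
theorem exists_split (hB : Cfsg.Agent.Omega.RootLemma.Bender.{u}) {M : Subgroup G}
    (hM : (L2 ⊔ H) ⊔ (L1 ⊔ H) = M) :
    ∃ P : Cfsg.BNPair M, P.rank = 2 ∧ P.IsSplit ∧ P.B = (U ⊔ H).subgroupOf M ∧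
      (∀ x : M, x ∈ P.N ↔ (x : G) ∈ (I.qdata X).two.frame.N) :=
  (I.qdata X).exists_split hB hM

end

end Inp

end Cfsg.Agent.RankTwoClose.UFive
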